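import Mathlib

/-!
Finite facts on permutations of eight points.
-/

set_option autoImplicit false
set_option maxRecDepth 100000

namespace Cfsg.Agent.Spor.McLCent

open Equiv Equiv.Perm

/-- The first three-cycle. -/
def pA : Perm (Fin 8) := swap 0 1 * swap 1 2
/-- The second three-cycle. -/
def pB : Perm (Fin 8) := swap 3 4 * swap 4 5
/-- An involution without fixed points exchanging the two cycles. -/
def pT : Perm (Fin 8) := swap 0 3 * swap 1 4 * (swap 2 5 * swap 6 7)
/-- An element inverting both cycles. -/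
def pU : Perm (Fin 8) := swap 1 2 * swap 4 5
/-- An element fixing the first cycle and inverting the second. -/
def pJ : Perm (Fin 8) := swap 4 5 * swap 6 7

theorem pA_cube : pA ^ 3 = 1 := by decide +kernel

theorem pB_cube : pB ^ 3 = 1 := by decide +kernel

theorem pA_pB : pA * pB = pB * pA := by decide +kernel

theorem pT_facts : pT * pT = 1 ∧ pT.support.card = 8 ∧ sign pT = 1 ∧ pT * pA * pT⁻¹ = pB ∧
    pT * pB * pT⁻¹ = pA := by decide +kernel

theorem pU_facts : pU * pU = 1 ∧ pU.support.card = 4 ∧ sign pU = 1 ∧ pU * pA * pU⁻¹ = pA⁻¹ ∧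
    pU * pB * pU⁻¹ = pB⁻¹ ∧ pU * pT = pT * pU ∧ (pU * pT).support.card = 8 := by decide +kernel

theorem pJ_facts : pJ * pJ = 1 ∧ pJ.support.card = 4 ∧ sign pJ = 1 ∧ pJ * pA * pJ⁻¹ = pA ∧
    pJ * pB * pJ⁻¹ = pB⁻¹ ∧ pT * (pJ * pT * pJ⁻¹) = pU := by decide +kernel

theorem cycle_types : pA.cycleType = {3} ∧ (pA * pB).cycleType = {3, 3} ∧ pT.cycleType = {2, 2, 2, 2} := by
  decide +kernel

/-- An odd permutation commuting with each of the three. -/
theorem odd_commuting : (sign (swap (6 : Fin 8) 7) = -1 ∧ swap (6 : Fin 8) 7 * pA = pA * swap 6 7 ∧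
    swap (6 : Fin 8) 7 * (pA * pB) = pA * pB * swap 6 7) ∧
    swap (6 : Fin 8) 7 * pT = pT * swap 6 7 := by decide +kernel

/-- The standard elements centralizing the product of the two cycles. -/
def yCent (a b : Fin 3) (e : Fin 2) : Perm (Fin 8) := pA ^ (a : ℕ) * pB ^ (b : ℕ) * pT ^ (e : ℕ)

theorem yCent_facts : (∀ a b e, sign (yCent a b e) = 1 ∧ yCent a b e * (pA * pB) = pA * pB * yCent a b e) ∧
    ∀ a b e a' b' e', yCent a b e = yCent a' b' e' → a = a' ∧ b = b' ∧ e = e' := by decide +kernel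

/-- The two cycles are independent. -/
theorem ab_independent : ∀ a b : Fin 3, pA ^ (a : ℕ) * pB ^ (b : ℕ) = 1 → a = 0 ∧ b = 0 := by decide +kernel

/-- What fixes `T` in the group generated by the two cycles is generated by their product. -/
theorem ab_fixed : ∀ a b : Fin 3, pT * (pA ^ (a : ℕ) * pB ^ (b : ℕ)) * pT⁻¹ = pA ^ (a : ℕ) * pB ^ (b : ℕ) →
    a = b := by decide +kernel

/-- An involution without fixed points does not commute with a three-cycle. -/
theorem no_full_commuting {σ : Perm (Fin 8)} (hσ : σ * σ = 1) (hc : σ * pA = pA * σ) : σ.support.card ≠ 8 := by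
  intro h8
  have hall : ∀ i, σ i ≠ i := fun i => mem_support.1 (by
    rw [Finset.eq_univ_of_card σ.support (by rw [h8, Fintype.card_fin])]; exact Finset.mem_univ i)
  have hA : ∀ i, σ (pA i) = pA (σ i) := fun i => by rw [← Perm.mul_apply, hc, Perm.mul_apply]
  have hh : ∀ i, σ (σ i) = i := fun i => by rw [← Perm.mul_apply, hσ, Perm.one_apply]
  have h1 : σ 1 = pA (σ 0) := by rw [← hA]; rfl
  have h2 : σ 2 = pA (σ 1) := by rw [← hA]; rfl
  have key : ∀ k : Fin 8, pA k ≠ k → k = 0 ∨ k = 1 ∨ k = 2 := by decide +kernel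
  have hk : pA (σ 0) ≠ σ 0 := by
    rw [← h1]
    exact fun e => absurd (σ.injective e) (by decide)
  rcases key _ hk with e | e | e
  · exact hall 0 e
  · have := hh 0
    rw [e, h1, e] at this
    exact absurd this (by decide)
  · have := hh 0
    rw [e, h2, h1, e] at this
    exact absurd this (by decide)

end Cfsg.Agent.Spor.McLCent
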