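import Cfsg.Agent.Lib.Invol.TwoAn.Lift
import Cfsg.Agent.Lib.Spor.McLCent.Perms
import Cfsg.Agent.Lib.Invol.ZStar
import Cfsg.Prelude.Def_CaseTheorems

/-!
An involution with centralizer a double cover of the alternating group of degree eight: the standard lifts.
-/

set_option autoImplicit false
set_option linter.unusedSectionVars false

namespace Cfsg.Agent.Spor.McLCent

open Equiv Equiv.Perm Subgroup
open Cfsg.Agent.Invol.TwoAn (Cfg IsQuad)

universe u

variable {G : Type u} [Group G] [Finite G]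

/-- Conjugation by a power. -/
theorem mem_cent_iff {g x : G} : g ∈ centralizer ({x} : Set G) ↔ Commute g x :=
  mem_centralizer_singleton_iff

theorem conj_eq_iff {g x : G} : g * x * g⁻¹ = x ↔ Commute g x :=
  ⟨fun h => mul_inv_eq_iff_eq_mul.1 h, fun h => mul_inv_eq_iff_eq_mul.2 h⟩

/-- The involution, a fused one and the standard lifts. -/
structure Setup (G : Type u) [Group G] where
  D : Cfg G 8
  T : G
  u : G
  j : G
  z : G
  f : G
  img_T : D.Img T pT
  img_u : D.Img u pU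
  img_j : D.Img j pJ
  img_z : D.Img z pA
  img_f : D.Img f pB
  T_sq : T * T = 1
  z_cube : z ^ 3 = 1
  f_cube : f ^ 3 = 1
  fused : ∃ c : G, c * D.z * c⁻¹ = T

theorem img_eq_odd {D : Cfg G 8} {g h : G} {σ : Perm (Fin 8)} (hg : D.Img g σ) (hh : D.Img h σ) (g3 : g ^ 3 = 1)
    (h3 : h ^ 3 = 1) : g = h := by
  rcases hg.lift_eq hh with e | e
  · exact e.symm
  · exfalso
    rw [e, (show Commute g D.z from hg.comm).mul_pow, g3, one_mul, Cfg.pow_z (by decide)] at h3
    exact Cfg.z_ne_one h3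

theorem exists_setup (t : G) (ht : orderOf t = 2)
    (hcov : Cfsg.IsNonsplitDoubleCover (centralizer ({t} : Set G)) (alternatingGroup (Fin 8))) :
    centralizer ({t} : Set G) ⊔ Cfsg.oddCore G = ⊤ ∨ ∃ E : Setup G, E.D.z = t := by
  obtain ⟨D, hD⟩ := Cfg.exists_cfg (by norm_num : 5 ≤ 8) ht hcov
  by_cases hiso : Cfsg.IsIsolatedInvolution t
  · left
    haveI : (Cfsg.oddCore G).Normal := Grp.pPrimeCore_isNormal
    refine eq_top_iff.2 fun g _ => ?_
    obtain ⟨k, -, -, hk, hkz⟩ := Cfsg.Agent.Invol.exists_odd_inverted hiso g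
    have hkO : k ∈ Cfsg.oddCore G := by
      refine (zpowers_le.2 ?_) hkz
      have h1 := ZStar.commutator_mem_oddCore _ G rfl t hiso g
      rwa [show t * g * t⁻¹ * g⁻¹ = t * (g * t * g⁻¹) by
        rw [Invol.inv_of_orderOf_two hiso.1]; group] at h1
    have hc : k⁻¹ * g ∈ centralizer ({t} : Set G) := mem_cent_iff.2 (conj_eq_iff.1 (by
      calc k⁻¹ * g * t * (k⁻¹ * g)⁻¹ = k⁻¹ * (g * t * g⁻¹) * k := by group
        _ = t := by rw [← hk]; group))
    rw [show g = k * (k⁻¹ * g) by group]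
    exact mul_mem (mem_sup_right hkO) (mem_sup_left hc)
  right
  subst hD
  obtain ⟨g, hgc, hgne⟩ : ∃ g : G, Commute D.z (g * D.z * g⁻¹) ∧ g * D.z * g⁻¹ ≠ D.z := by
    by_contra hno
    push Not at hno
    exact hiso ⟨D.hz, hno⟩
  set s := g * D.z * g⁻¹
  obtain ⟨σ, hσ⟩ := Cfg.exists_of_mem (K := D) (g := s) (Cfg.mem_C.2 hgc.eq.symm)
  have hss : s * s = 1 := by
    show g * D.z * g⁻¹ * (g * D.z * g⁻¹) = 1
    rw [show g * D.z * g⁻¹ * (g * D.z * g⁻¹) = g * (D.z * D.z) * g⁻¹ by group, Cfg.z_mul_z, mul_one,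
      mul_inv_cancel]
  have hs1 : s ≠ 1 := fun e => Cfg.z_ne_one (conj_eq_one_iff.1 e)
  obtain ⟨hσ2, m, hm, hmc⟩ := Cfg.exists_support hσ hss hs1 hgne
  have h8 : σ.support.card = 8 := by
    have := Finset.card_le_univ σ.support
    rw [Fintype.card_fin] at this
    omega
  obtain ⟨T₀, hT₀⟩ := Cfg.exists_img (K := D) pT_facts.2.2.1
  obtain ⟨u, hu⟩ := Cfg.exists_img (K := D) pU_facts.2.2.1
  obtain ⟨j, hj⟩ := Cfg.exists_img (K := D) pJ_facts.2.2.1
  obtain ⟨z, hz, hz3⟩ := Cfg.exists_img_odd (K := D) (by decide : Odd 3) pA_cube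
  obtain ⟨f, hf, hf3⟩ := Cfg.exists_img_odd (K := D) (by decide : Odd 3) pB_cube
  obtain ⟨ρ, hρs, hρ⟩ := Cfg.conj_even pT_facts.1 hσ2 (fun e => by
    have := pT_facts.2.1; rw [e, support_one] at this; simp at this) (pT_facts.2.1.trans h8.symm)
  obtain ⟨d, hd⟩ := Cfg.exists_img (K := D) hρs
  obtain ⟨T, hT, hTs⟩ : ∃ T, D.Img T pT ∧ d * T * d⁻¹ = s := by
    rcases (hρ ▸ hd.conj hT₀ : D.Img (d * T₀ * d⁻¹) σ).lift_eq hσ with e | e
    · exact ⟨T₀, hT₀, e.symm⟩
    · refine ⟨T₀ * D.z, hT₀.mul_z, ?_⟩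
      rw [e, show d * (T₀ * D.z) * d⁻¹ = d * T₀ * d⁻¹ * (d * D.z * d⁻¹) by group, conj_eq_iff.2 hd.comm]
  have hTT : T * T = 1 := by
    have := hT.sq_invol (σ := pT) 2 pT_facts.1 pT_facts.2.1
    rwa [pow_two D.z, Cfg.z_mul_z] at this
  refine ⟨⟨D, T, u, j, z, f, hT, hu, hj, hz, hf, hTT, hz3, hf3, d⁻¹ * g, ?_⟩, rfl⟩
  rw [show d⁻¹ * g * D.z * (d⁻¹ * g)⁻¹ = d⁻¹ * (g * D.z * g⁻¹) * d by group]
  show d⁻¹ * s * d = T
  rw [← hTs]; group

namespace Setup

variable (E : Setup G)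

/-- The involution. -/
def t : G := E.D.z

theorem t_sq : E.t * E.t = 1 := Cfg.z_mul_z

theorem t_ne : E.t ≠ 1 := Cfg.z_ne_one

theorem t_ord : orderOf E.t = 2 := E.D.hz

theorem t_inv : E.t⁻¹ = E.t := Cfg.z_inv

theorem z_t : Commute E.z E.t := E.img_z.comm

theorem f_t : Commute E.f E.t := E.img_f.comm

theorem T_t : Commute E.T E.t := E.img_T.comm

theorem u_t : Commute E.u E.t := E.img_u.comm

theorem j_t : Commute E.j E.t := E.img_j.comm

theorem T_inv : E.T⁻¹ = E.T := inv_eq_of_mul_eq_one_left E.T_sq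

theorem T_ne_one : E.T ≠ 1 := fun h => by
  have := (h ▸ E.img_T : E.D.Img 1 pT).unique Cfg.Img.one
  have h8 := pT_facts.2.1
  rw [this, support_one] at h8
  simp at h8

theorem T_ne_t : E.T ≠ E.t := fun h => by
  have h' : E.D.Img E.D.z pT := by
    have := E.img_T
    rw [h] at this
    exact this
  have := h'.unique Cfg.img_z
  have h8 := pT_facts.2.1
  rw [this, support_one] at h8
  simp at h8

theorem Tt_sq : E.T * E.t * (E.T * E.t) = 1 := by
  rw [Commute.mul_mul_mul_comm E.T_t.symm, E.T_sq, E.t_sq, one_mul]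

theorem u_sq : E.u * E.u = E.t := E.img_u.sq ⟨pU_facts.1, pU_facts.2.1⟩

theorem j_sq : E.j * E.j = E.t := E.img_j.sq ⟨pJ_facts.1, pJ_facts.2.1⟩

theorem z_f : Commute E.z E.f :=
  E.img_z.commute_odd E.img_f pA_pB (by decide : Odd 3) E.z_cube

theorem conj_three {g x x' : G} {σ α β : Perm (Fin 8)} (hg : E.D.Img g σ) (hx : E.D.Img x α) (hx' : E.D.Img x' β)
    (h : σ * α * σ⁻¹ = β) (x3 : x ^ 3 = 1) (x'3 : x' ^ 3 = 1) : g * x * g⁻¹ = x' :=
  img_eq_odd (h ▸ hg.conj hx) hx' (by rw [conj_pow, x3, mul_one, mul_inv_cancel]) x'3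

theorem T_z : E.T * E.z * E.T⁻¹ = E.f :=
  E.conj_three E.img_T E.img_z E.img_f pT_facts.2.2.2.1 E.z_cube E.f_cube

theorem T_f : E.T * E.f * E.T⁻¹ = E.z :=
  E.conj_three E.img_T E.img_f E.img_z pT_facts.2.2.2.2 E.f_cube E.z_cube

theorem u_z : E.u * E.z * E.u⁻¹ = E.z⁻¹ :=
  E.conj_three E.img_u E.img_z E.img_z.inv pU_facts.2.2.2.1 E.z_cube (by rw [inv_pow, E.z_cube, inv_one])

theorem u_f : E.u * E.f * E.u⁻¹ = E.f⁻¹ :=
  E.conj_three E.img_u E.img_f E.img_f.inv pU_facts.2.2.2.2.1 E.f_cube (by rw [inv_pow, E.f_cube, inv_one])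

theorem j_z : E.j * E.z * E.j⁻¹ = E.z :=
  E.conj_three E.img_j E.img_z E.img_z pJ_facts.2.2.2.1 E.z_cube E.z_cube

theorem j_f : E.j * E.f * E.j⁻¹ = E.f⁻¹ :=
  E.conj_three E.img_j E.img_f E.img_f.inv pJ_facts.2.2.2.2.1 E.f_cube (by rw [inv_pow, E.f_cube, inv_one])

theorem u_T : E.u * E.T * E.u⁻¹ = E.T * E.t := by
  rcases E.img_T.comm_or E.img_u pU_facts.2.2.2.2.2.1.symm with e | e
  · exfalso
    have h := (E.img_u.mul E.img_T).sq_invol 2
      (by rw [mul_assoc, ← mul_assoc pT, ← pU_facts.2.2.2.2.2.1, mul_assoc pU pT pT, pT_facts.1, mul_one,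
        pU_facts.1])
      pU_facts.2.2.2.2.2.2
    rw [pow_two E.D.z, Cfg.z_mul_z, Commute.mul_mul_mul_comm (show Commute E.T E.u from e.symm), E.u_sq, E.T_sq,
      mul_one] at h
    exact E.t_ne h
  · rw [e, mul_assoc (E.T * E.u), show E.D.z * E.u⁻¹ = E.u⁻¹ * E.t from (E.u_t.inv_left).eq.symm]
    group

theorem T_u_exists : E.T * (E.j * E.T * E.j⁻¹) = E.u ∨ E.T * (E.j * E.T * E.j⁻¹) = E.u * E.t :=
  E.img_u.lift_eq (pJ_facts.2.2.2.2.2 ▸ E.img_T.mul (E.img_j.conj E.img_T))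

/-- The centralizer of the involution. -/
abbrev C : Subgroup G := centralizer ({E.D.z} : Set G)

theorem mem_C {g : G} : g ∈ E.C ↔ Commute g E.t := mem_cent_iff

theorem exists_img {g : G} (h : Commute g E.t) : ∃ σ, E.D.Img g σ := Cfg.exists_of_mem (Cfg.mem_C.2 h.eq)

theorem img_t : E.D.Img E.t 1 := Cfg.img_z

/-- The even permutations commuting with a permutation. -/
def evenCent (π : Perm (Fin 8)) : Subgroup (Perm (Fin 8)) :=
  alternatingGroup (Fin 8) ⊓ centralizer ({π} : Set (Perm (Fin 8)))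

theorem card_evenCent (π s : Perm (Fin 8)) (hs : sign s = -1) (hsπ : s * π = π * s) :
    Nat.card (centralizer ({π} : Set (Perm (Fin 8)))) = 2 * Nat.card (evenCent π) := by
  set f : ↥(centralizer ({π} : Set (Perm (Fin 8)))) →* ℤˣ :=
    sign.comp (centralizer ({π} : Set (Perm (Fin 8)))).subtype
  have hsur : Function.Surjective f := fun x => by
    rcases Int.units_eq_one_or x with rfl | rfl
    · exact ⟨1, map_one f⟩
    · exact ⟨⟨s, mem_centralizer_singleton_iff.2 hsπ⟩, hs⟩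
  have h := f.ker.card_mul_index
  rw [index_ker, MonoidHom.range_eq_top.2 hsur, card_top,
    show Nat.card ℤˣ = 2 by rw [Nat.card_eq_fintype_card]; rfl] at h
  rw [← h, mul_comm, Nat.card_congr (Equiv.ofBijective
    (fun x : f.ker => (⟨((x : centralizer ({π} : Set (Perm (Fin 8)))) : Perm (Fin 8)),
      mem_alternatingGroup.2 (MonoidHom.mem_ker.1 x.2), (x : centralizer ({π} : Set (Perm (Fin 8)))).2⟩ : evenCent π))
    ⟨fun a b e => Subtype.ext (Subtype.ext (congrArg Subtype.val e :)),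
     fun a => ⟨⟨⟨a, a.2.2⟩, MonoidHom.mem_ker.2 (mem_alternatingGroup.1 a.2.1)⟩, rfl⟩⟩)]

/-- The centralizer in `C` of an element of odd order. -/
theorem card_cent_odd {x : G} {π : Perm (Fin 8)} (hx : E.D.Img x π) {k : ℕ} (hk : Odd k) (hxk : x ^ k = 1) :
    Nat.card ↥(E.C ⊓ centralizer ({x} : Set G)) = 2 * Nat.card (evenCent π) := by
  set H := E.C ⊓ centralizer ({x} : Set G) with hH
  let f : ↥H →* Perm (Fin 8) := E.D.P.comp (inclusion (inf_le_left : H ≤ E.C))
  have hf : ∀ g : H, E.D.Img g (f g) := fun g => ⟨(inf_le_left : H ≤ E.C) g.2, rfl⟩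
  have hrange : f.range = evenCent π := by
    ext σ
    constructor
    · rintro ⟨g, rfl⟩
      refine ⟨mem_alternatingGroup.2 (hf g).sign_eq, mem_centralizer_singleton_iff.2 ?_⟩
      exact ((hf g).mul hx).unique ((mem_cent_iff.1 g.2.2).eq ▸ hx.mul (hf g))
    · intro hσ
      obtain ⟨g, hg⟩ := Cfg.exists_img (K := E.D) (mem_alternatingGroup.1 hσ.1)
      have hgH : g ∈ H := ⟨E.mem_C.2 hg.comm, mem_cent_iff.2
        (hx.commute_odd hg (mem_centralizer_singleton_iff.1 hσ.2).symm hk hxk).symm⟩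
      exact ⟨⟨g, hgH⟩, (hf ⟨g, hgH⟩).unique hg⟩
  have htH : E.t ∈ H := ⟨E.mem_C.2 (Commute.refl _), mem_cent_iff.2 hx.comm.symm⟩
  have hker : f.ker = zpowers (⟨E.t, htH⟩ : H) := by
    ext g
    constructor
    · intro hg
      have h1 := hf g
      rw [MonoidHom.mem_ker.1 hg] at h1
      rcases h1.eq_or with e | e
      · rw [show g = 1 from Subtype.ext e]; exact one_mem _
      · rw [show g = ⟨E.t, htH⟩ from Subtype.ext e]; exact mem_zpowers _
    · intro hg
      refine (zpowers_le.2 (MonoidHom.mem_ker.2 ?_)) hg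
      exact (hf ⟨E.t, htH⟩).unique E.img_t
  have h := f.ker.card_mul_index
  rw [index_ker, hrange, hker, Nat.card_zpowers, ← Subgroup.orderOf_coe, E.t_ord] at h
  exact h.symm

theorem card_evenCent_A : Nat.card (evenCent pA) = 180 := by
  have h := card_evenCent pA _ odd_commuting.1.1 odd_commuting.1.2.1
  rw [nat_card_centralizer, cycle_types.1] at h
  simp [Nat.factorial] at h
  omega

theorem card_evenCent_AB : Nat.card (evenCent (pA * pB)) = 18 := by
  have h := card_evenCent (pA * pB) _ odd_commuting.1.1 odd_commuting.1.2.2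
  rw [nat_card_centralizer, cycle_types.2.1] at h
  simp [Nat.factorial] at h
  omega

theorem card_evenCent_T : Nat.card (evenCent pT) = 192 := by
  have h := card_evenCent pT _ odd_commuting.1.1 odd_commuting.2
  rw [nat_card_centralizer, cycle_types.2.2] at h
  simp [Nat.factorial] at h
  omega

/-- The product of the two elements of order three. -/
def y : G := E.z * E.f

/-- The quotient of the two elements of order three. -/
def y' : G := E.z * E.f⁻¹

theorem img_y : E.D.Img E.y (pA * pB) := E.img_z.mul E.img_f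

theorem y_cube : E.y ^ 3 = 1 := by rw [y, E.z_f.mul_pow, E.z_cube, E.f_cube, one_mul]

theorem y_t : Commute E.y E.t := E.z_t.mul_left E.f_t

theorem y'_t : Commute E.y' E.t := E.z_t.mul_left E.f_t.inv_left

theorem T_y : Commute E.T E.y := conj_eq_iff.1 (by
  rw [y, show E.T * (E.z * E.f) * E.T⁻¹ = E.T * E.z * E.T⁻¹ * (E.T * E.f * E.T⁻¹) by group, E.T_z, E.T_f]
  exact E.z_f.eq.symm)

theorem u_y : E.u * E.y * E.u⁻¹ = E.y⁻¹ := by
  rw [y, show E.u * (E.z * E.f) * E.u⁻¹ = E.u * E.z * E.u⁻¹ * (E.u * E.f * E.u⁻¹) by group, E.u_z, E.u_f,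
    ← mul_inv_rev]
  exact congrArg (·⁻¹) E.z_f.eq.symm

theorem j_y : E.j * E.y * E.j⁻¹ = E.y' := by
  rw [y, show E.j * (E.z * E.f) * E.j⁻¹ = E.j * E.z * E.j⁻¹ * (E.j * E.f * E.j⁻¹) by group, E.j_z, E.j_f]
  rfl

theorem j_y' : E.j * E.y' * E.j⁻¹ = E.y := by
  rw [y', show E.j * (E.z * E.f⁻¹) * E.j⁻¹ = E.j * E.z * E.j⁻¹ * (E.j * E.f * E.j⁻¹)⁻¹ by group, E.j_z, E.j_f,
    inv_inv]
  rfl

theorem T_y' : E.T * E.y' * E.T⁻¹ = E.y'⁻¹ := by
  rw [y', show E.T * (E.z * E.f⁻¹) * E.T⁻¹ = E.T * E.z * E.T⁻¹ * (E.T * E.f * E.T⁻¹)⁻¹ by group, E.T_z, E.T_f]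
  group

/-- The centralizer of the involution has order `2 · 20160`. -/
theorem card_C : Nat.card E.C = 40320 := by
  have h := E.D.P.ker.card_mul_index
  have hr : E.D.P.range = alternatingGroup (Fin 8) := by
    ext σ
    exact ⟨fun ⟨g, hg⟩ => mem_alternatingGroup.2 (hg ▸ E.D.even g),
      fun hσ => E.D.surj σ (mem_alternatingGroup.1 hσ)⟩
  have hk : E.D.P.ker = zpowers (⟨E.D.z, mem_centralizer_singleton_iff.2 rfl⟩ : centralizer ({E.D.z} : Set G)) := by
    ext g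
    constructor
    · intro hg
      rcases (E.D.ker g).1 hg with e | e
      · rw [show g = 1 from Subtype.ext e]; exact one_mem _
      · rw [show g = ⟨E.D.z, mem_centralizer_singleton_iff.2 rfl⟩ from Subtype.ext e]; exact mem_zpowers _
    · intro hg
      exact (zpowers_le.2 (MonoidHom.mem_ker.2 ((E.D.ker _).2 (Or.inr rfl)))) hg
  rw [index_ker, hr, hk, Nat.card_zpowers, ← Subgroup.orderOf_coe, E.D.hz, nat_card_alternatingGroup,
    Nat.card_eq_fintype_card, Fintype.card_fin] at h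
  rw [show E.C = centralizer ({E.D.z} : Set G) from rfl, ← h]
  rfl

theorem card_Cz : Nat.card ↥(E.C ⊓ centralizer ({E.z} : Set G)) = 360 := by
  rw [E.card_cent_odd E.img_z (by decide : Odd 3) E.z_cube, card_evenCent_A]

theorem card_Cy : Nat.card ↥(E.C ⊓ centralizer ({E.y} : Set G)) = 36 := by
  rw [E.card_cent_odd E.img_y (by decide : Odd 3) E.y_cube, card_evenCent_AB]

end Setup

end Cfsg.Agent.Spor.McLCent
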