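import Cfsg.Agent.Lib.Spor.McLCent.Local

/-!
An element permuting the three involutions and centralizing `y`; the centralizer of `y` has a 3-subgroup of order 27.
-/

set_option autoImplicit false
set_option linter.unusedSectionVars false

namespace Cfsg.Agent.Spor.McLCent

open Equiv Equiv.Perm Subgroup
open Cfsg.Agent.Invol.TwoAn (Cfg IsQuad)

universe u

variable {G : Type u} [Group G] [Finite G]

theorem conj_comp (g h x : G) : g * h * x * (g * h)⁻¹ = g * (h * x * h⁻¹) * g⁻¹ := by group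

theorem commute_conj {g x w : G} (h : Commute x w) : Commute (g * x * g⁻¹) (g * w * g⁻¹) :=
  (Commute.conj_iff g).2 h

theorem conj_mul' (g x w : G) : g * (x * w) * g⁻¹ = g * x * g⁻¹ * (g * w * g⁻¹) := by group

theorem card_zpow_mem {g : G} {x : G} {i : ℕ} (h : x ^ i = g) : g ∈ zpowers x := h ▸ pow_mem (mem_zpowers x) i

namespace Setup

variable (E : Setup G)

/-- The common centralizer of the four group. -/
def H : Subgroup G := E.C ⊓ centralizer ({E.T} : Set G)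

theorem mem_H {g : G} : g ∈ E.H ↔ Commute g E.t ∧ Commute g E.T := by
  rw [H, Subgroup.mem_inf, E.mem_C, mem_cent_iff]

theorem conj_T_cases {g : G} {σ : Perm (Fin 8)} (hg : E.D.Img g σ) (hc : σ * pT = pT * σ) :
    g * E.T * g⁻¹ = E.T ∨ g * E.T * g⁻¹ = E.T * E.t := by
  have h := hg.conj E.img_T
  rw [hc, mul_inv_cancel_right] at h
  exact E.img_T.lift_eq h

theorem card_H : Nat.card E.H = 192 := by
  set R : Subgroup E.C := (evenCent pT).comap E.D.P with hR
  let H' : Subgroup R := (E.H.subgroupOf E.C).subgroupOf R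
  have hHR : E.H.subgroupOf E.C ≤ R := by
    intro g hg
    obtain ⟨-, hgT⟩ := E.mem_H.1 (mem_subgroupOf.1 hg)
    have hgi : E.D.Img (g : G) (E.D.P g) := ⟨g.2, rfl⟩
    exact ⟨mem_alternatingGroup.2 (E.D.even g),
      mem_centralizer_singleton_iff.2 ((hgi.mul E.img_T).unique (hgT.eq ▸ E.img_T.mul hgi))⟩
  -- the preimage has order 384
  have hR384 : Nat.card R = 384 := by
    let f : ↥R →* Perm (Fin 8) := E.D.P.comp R.subtype
    have hrange : f.range = evenCent pT := by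
      ext σ
      refine ⟨fun ⟨g, hg⟩ => hg ▸ g.2, fun hσ => ?_⟩
      obtain ⟨g, hg, e⟩ := Cfg.exists_img (K := E.D) (mem_alternatingGroup.1 hσ.1)
      exact ⟨⟨⟨g, hg⟩, show E.D.P _ ∈ evenCent pT by rw [e]; exact hσ⟩, e⟩
    have htC : E.t ∈ E.C := E.mem_C.2 (Commute.refl _)
    have htR : (⟨E.t, htC⟩ : E.C) ∈ R := by
      show E.D.P _ ∈ evenCent pT
      rw [show E.D.P ⟨E.t, htC⟩ = 1 from (E.D.ker _).2 (Or.inr rfl)]
      exact one_mem _
    have hker : f.ker = zpowers (⟨⟨E.t, htC⟩, htR⟩ : R) := by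
      ext g
      constructor
      · intro hg
        rcases (E.D.ker g.1).1 hg with e | e
        · rw [show g = 1 from Subtype.ext (Subtype.ext e)]; exact one_mem _
        · rw [show g = ⟨⟨E.t, htC⟩, htR⟩ from Subtype.ext (Subtype.ext e)]; exact mem_zpowers _
      · intro hg
        refine (zpowers_le.2 ?_) hg
        exact MonoidHom.mem_ker.2 ((E.D.ker _).2 (Or.inr rfl))
    have h := f.ker.card_mul_index
    rw [index_ker, hrange, card_evenCent_T, hker, Nat.card_zpowers, ← Subgroup.orderOf_coe, ← Subgroup.orderOf_coe,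
      E.t_ord] at h
    omega
  have hidx : H'.index = 2 := by
    obtain ⟨hu, hue⟩ := E.img_u
    refine index_eq_two_iff.2 ⟨⟨⟨E.u, hu⟩, show E.D.P _ ∈ evenCent pT by
      rw [hue]
      exact ⟨mem_alternatingGroup.2 pU_facts.2.2.1, mem_centralizer_singleton_iff.2 pU_facts.2.2.2.2.2.1⟩⟩,
      fun b => ?_⟩
    have hb : E.D.Img ((b : E.C) : G) (E.D.P b) := ⟨(b : E.C).2, rfl⟩
    have mem : ∀ a : R, a ∈ H' ↔ ((a : E.C) : G) * E.T * ((a : E.C) : G)⁻¹ = E.T := fun a => by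
      rw [conj_eq_iff]
      exact ⟨fun h => (E.mem_H.1 h).2, fun h => E.mem_H.2 ⟨E.mem_C.1 (a : E.C).2, h⟩⟩
    have hne : E.T * E.t ≠ E.T := fun e => E.t_ne (mul_eq_left.1 e)
    rw [mem, mem]
    simp only [Subgroup.coe_mul]
    rw [conj_comp, E.u_T, conj_mul', conj_eq_iff.2 (show Commute ((b : E.C) : G) E.t from hb.comm)]
    rcases E.conj_T_cases hb (mem_centralizer_singleton_iff.1 b.2.2) with e | e <;> rw [e]
    · exact Or.inr ⟨rfl, hne⟩
    · exact Or.inl ⟨by rw [mul_assoc, E.t_sq, mul_one], hne⟩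
  have h := H'.card_mul_index
  rw [hidx, hR384, Nat.card_congr (subgroupOfEquivOfLe hHR).toEquiv,
    Nat.card_congr (subgroupOfEquivOfLe (show E.H ≤ E.C from inf_le_left)).toEquiv] at h
  omega

/-- A noncentral involution of `C` is conjugate to its product with `t`. -/
theorem conj_mul_t {s : G} (hs : Commute s E.t) (h2 : s * s = 1) (h1 : s ≠ 1) (hne : s ≠ E.t) :
    ∃ e : G, Commute e E.t ∧ e * s * e⁻¹ = s * E.t := by
  obtain ⟨σ, hσ⟩ := E.exists_img hs
  obtain ⟨hσ2, m, hm, hmc⟩ := Cfg.exists_support hσ h2 h1 hne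
  have h8 : σ.support.card = 8 := by
    have := Finset.card_le_univ σ.support
    rw [Fintype.card_fin] at this
    omega
  obtain ⟨ρ, hρs, hρ⟩ := Cfg.conj_even pT_facts.1 hσ2 (fun e => by
    have := pT_facts.2.1; rw [e, support_one] at this; simp at this) (pT_facts.2.1.trans h8.symm)
  obtain ⟨d, hd⟩ := Cfg.exists_img (K := E.D) hρs
  have hdt : d * E.t * d⁻¹ = E.t := conj_eq_iff.2 hd.comm
  refine ⟨d * E.u * d⁻¹, ((show Commute d E.t from hd.comm).mul_left E.u_t).mul_left (show Commute d E.t from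
    hd.comm).inv_left, ?_⟩
  have hut : E.u * E.t * E.u⁻¹ = E.t := conj_eq_iff.2 E.u_t
  have hX : ∀ x : G, d * E.u * d⁻¹ * (d * x * d⁻¹) * (d * E.u * d⁻¹)⁻¹ = d * (E.u * x * E.u⁻¹) * d⁻¹ :=
    fun x => by group
  rcases (hρ ▸ hd.conj E.img_T : E.D.Img (d * E.T * d⁻¹) σ).lift_eq hσ with e | e
  · rw [e, hX, E.u_T, conj_mul', hdt]
  · have e' : s = d * (E.T * E.t) * d⁻¹ := by rw [e, conj_mul', hdt]; rfl
    rw [e', hX, conj_mul' E.u, E.u_T, hut, mul_assoc E.T, E.t_sq, mul_one, conj_mul', hdt,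
      mul_assoc (d * E.T * d⁻¹), E.t_sq, mul_one]

theorem y_H : E.y ∈ E.H := E.mem_H.2 ⟨E.y_t, E.T_y.symm⟩

/-- Elements of `H` normalising `⟨y⟩` centralise it. -/
theorem H_norm_y {h : G} (hh : h ∈ E.H) (hn : h * E.y * h⁻¹ ∈ zpowers E.y) : Commute h E.y := by
  obtain ⟨ht, hT⟩ := E.mem_H.1 hh
  classical
  obtain ⟨i, hi, hie⟩ := Finset.mem_image.1 ((mem_zpowers_iff_mem_range_orderOf).1 hn)
  rw [Finset.mem_range, E.y_ord] at hi
  interval_cases i
  · rw [pow_zero] at hie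
    exact absurd (conj_eq_one_iff.1 hie.symm) E.y_ne
  · rw [pow_one] at hie
    exact conj_eq_iff.1 hie.symm
  · exfalso
    have hy2 : E.y ^ 2 = E.y⁻¹ := eq_inv_of_mul_eq_one_left (by rw [← pow_succ, E.y_cube])
    have hui : E.u⁻¹ * E.y⁻¹ * E.u = E.y := by rw [← E.u_y]; group
    have hxy : Commute (E.u⁻¹ * h) E.y := conj_eq_iff.1 (by
      rw [conj_comp, ← hie, hy2, inv_inv, hui])
    obtain ⟨p, hp, e, c, hx⟩ := E.Cy_form (E.u_t.inv_left.mul_left ht) hxy
    have hut : E.u * E.t * E.u⁻¹ = E.t := conj_eq_iff.2 E.u_t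
    have hxT : p * E.T * p⁻¹ = E.T * E.t := by
      have h1 : E.u⁻¹ * h * E.T * (E.u⁻¹ * h)⁻¹ = E.T * E.t := by
        rw [conj_comp, conj_eq_iff.2 hT, inv_inv]
        calc E.u⁻¹ * E.T * E.u = E.u⁻¹ * (E.T * E.t * E.t) * E.u := by rw [mul_assoc E.T, E.t_sq, mul_one]
          _ = E.u⁻¹ * (E.u * E.T * E.u⁻¹ * (E.u * E.t * E.u⁻¹)) * E.u := by rw [E.u_T, hut]
          _ = _ := by group
      rw [hx, conj_comp, conj_eq_iff.2 (E.T_t.symm.pow_left _), conj_comp,
        conj_eq_iff.2 (Commute.pow_self E.T _)] at h1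
      exact h1
    obtain ⟨a, b, rfl⟩ := E.mem_P.1 hp
    have hc : pA ^ (a : ℕ) * pB ^ (b : ℕ) * pT * (pA ^ (a : ℕ) * pB ^ (b : ℕ))⁻¹ = pT :=
      ((E.img_P a b).conj E.img_T).unique (hxT ▸ E.img_T.mul_z)
    have hab : a = b := ab_fixed a b (by
      rw [mul_inv_eq_iff_eq_mul] at hc ⊢
      exact hc.symm)
    rw [hab, ← E.z_f.mul_pow, show E.z * E.f = E.y from rfl, conj_eq_iff.2 (E.T_y.symm.pow_left _)] at hxT
    exact E.t_ne (mul_eq_left.1 hxT.symm)

/-- The normal 2-subgroup of `H`. -/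
theorem exists_W : ∃ W : Subgroup G, W ≤ E.H ∧ Nat.card W = 64 ∧
    ∀ x, x ∈ W ↔ x ∈ E.H ∧ x ^ 64 = 1 := by
  haveI : Fact (Nat.Prime 3) := ⟨Nat.prime_three⟩
  set yH : E.H := ⟨E.y, E.y_H⟩
  have hc3 : Nat.card (zpowers yH) = 3 ^ (Nat.card E.H).factorization 3 := by
    have h192 : (192 : ℕ).factorization 3 = 1 := by
      rw [show (192 : ℕ) = 3 * 64 by norm_num, Nat.factorization_mul (by norm_num) (by norm_num),
        Finsupp.add_apply, Nat.prime_three.factorization_self, Nat.factorization_eq_zero_of_not_dvd (by norm_num)]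
    rw [E.card_H, h192, Nat.card_zpowers, ← Subgroup.orderOf_coe, E.y_ord, pow_one]
  set P3 : Sylow 3 E.H := Sylow.ofCard (zpowers yH) hc3
  have hP3 : (P3 : Subgroup E.H) = zpowers yH := rfl
  have hle : normalizer ((P3 : Subgroup E.H) : Set E.H) ≤ centralizer (P3 : Set E.H) := by
    intro h hn
    have hcom : Commute (h : G) E.y := E.H_norm_y h.2 (by
      obtain ⟨i, hi⟩ := ((mem_normalizer_iff.1 hn) yH).1 (hP3 ▸ mem_zpowers yH)
      exact ⟨i, by simpa using congrArg Subtype.val hi⟩)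
    refine mem_centralizer_iff.2 fun q hq => Subtype.ext ?_
    obtain ⟨i, rfl⟩ := hq
    simpa using (hcom.zpow_right i).eq.symm
  set N := (MonoidHom.transferSylow P3 hle).ker
  have hcompl := MonoidHom.ker_transferSylow_isComplement' P3 hle
  have hN : Nat.card N = 64 := by
    have := hcompl.card_mul
    rw [P3.card_eq_multiplicity, ← hc3, Nat.card_zpowers, ← Subgroup.orderOf_coe,
      show orderOf (yH : G) = 3 from E.y_ord, E.card_H] at this
    show Nat.card (MonoidHom.transferSylow P3 hle).ker = 64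
    omega
  refine ⟨N.map E.H.subtype, map_subtype_le _, ?_, fun x => ⟨?_, ?_⟩⟩
  · rw [← hN, Nat.card_congr (equivMapOfInjective N E.H.subtype E.H.subtype_injective).toEquiv]
  · rintro ⟨x, hx, rfl⟩
    refine ⟨x.2, ?_⟩
    have := congrArg Subtype.val (pow_card_eq_one' (x := (⟨x, hx⟩ : N)))
    rw [hN] at this
    simpa using congrArg Subtype.val this
  · rintro ⟨hx, h64⟩
    refine ⟨⟨x, hx⟩, ?_, rfl⟩
    have hidx : N.index = 3 := by
      have := N.card_mul_index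
      rw [hN, E.card_H] at this
      omega
    have h3 : (⟨x, hx⟩ : E.H) ^ 3 ∈ N := by
      haveI : N.Normal := MonoidHom.normal_ker _
      rw [← QuotientGroup.eq_one_iff, QuotientGroup.mk_pow]
      refine orderOf_dvd_iff_pow_eq_one.1 (hidx ▸ ?_)
      exact orderOf_dvd_natCard _
    rw [show (⟨x, hx⟩ : E.H) = ((⟨x, hx⟩ : E.H) ^ 3) ^ 43 from Subtype.ext (by
      simp only [SubmonoidClass.coe_pow]
      rw [← pow_mul, show 3 * 43 = 2 * 64 + 1 by norm_num, pow_succ, pow_mul', h64, one_pow, one_mul])]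
    exact pow_mem h3 _

/-- An element centralizing `y` permuting the three involutions. -/
theorem exists_sigma : ∃ σ : G, Commute σ E.y ∧ σ * E.t * σ⁻¹ = E.T ∧ σ * E.T * σ⁻¹ = E.T * E.t ∧
    ∃ k : ℕ, σ ^ 3 ^ k = 1 := by
  obtain ⟨c, hc⟩ := E.fused
  have hc' : c * E.t * c⁻¹ = E.T := hc
  set s := c⁻¹ * E.t * c with hs
  have hcs : c * s * c⁻¹ = E.t := by rw [hs]; group
  have hst : Commute s E.t := by
    have h := commute_conj (g := c⁻¹) E.T_t.symm
    rw [inv_inv, show c⁻¹ * E.T * c = E.t by rw [← hc']; group] at h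
    exact h
  have hss : s * s = 1 := by
    rw [hs, show c⁻¹ * E.t * c * (c⁻¹ * E.t * c) = c⁻¹ * (E.t * E.t) * c by group, E.t_sq]; group
  obtain ⟨e, het, he⟩ := E.conj_mul_t hst hss (fun h => E.t_ne (by rw [← hcs, h]; group)) (fun h => E.T_ne_t (by
    rw [← hc', ← h]; rw [hcs]; exact h.symm))
  set a := c * e * c⁻¹ with ha
  have hX : ∀ x : G, a * (c * x * c⁻¹) * a⁻¹ = c * (e * x * e⁻¹) * c⁻¹ := fun x => by rw [ha]; group
  have haT : a * E.T * a⁻¹ = E.T := by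
    conv_lhs => rw [← hc']
    rw [hX, conj_eq_iff.2 het, hc']
  have hat : a * E.t * a⁻¹ = E.T * E.t := by
    conv_lhs => rw [← hcs]
    rw [hX, he, conj_mul', hcs, hc', E.T_t.eq]
  set n := a * E.u with hn
  have hut : E.u * E.t * E.u⁻¹ = E.t := conj_eq_iff.2 E.u_t
  have n1 : n * E.t * n⁻¹ = E.T * E.t := by rw [hn, conj_comp, hut, hat]
  have n2 : n * E.T * n⁻¹ = E.t := by
    rw [hn, conj_comp, E.u_T, conj_mul', haT, hat, ← mul_assoc, E.T_sq, one_mul]
  have hnH : ∀ g, g ∈ E.H → n * g * n⁻¹ ∈ E.H := fun g hg => by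
    obtain ⟨h1, h2⟩ := E.mem_H.1 hg
    have a1 := commute_conj (g := n) h2
    rw [n2] at a1
    have a2 := commute_conj (g := n) h1
    rw [n1] at a2
    refine E.mem_H.2 ⟨a1, ?_⟩
    have := a2.mul_right a1
    rwa [show E.T * E.t * E.t = E.T by rw [mul_assoc, E.t_sq, mul_one]] at this
  -- adjust to normalise `⟨y⟩`
  haveI : Fact (Nat.Prime 3) := ⟨Nat.prime_three⟩
  have hcard : ∀ w : E.H, orderOf w = 3 → Nat.card (zpowers w) = 3 ^ (Nat.card E.H).factorization 3 := by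
    intro w hw
    have h192 : (192 : ℕ).factorization 3 = 1 := by
      rw [show (192 : ℕ) = 3 * 64 by norm_num, Nat.factorization_mul (by norm_num) (by norm_num),
        Finsupp.add_apply, Nat.prime_three.factorization_self, Nat.factorization_eq_zero_of_not_dvd (by norm_num)]
    rw [Nat.card_zpowers, hw, E.card_H, h192, pow_one]
  set y₁ : E.H := ⟨E.y, E.y_H⟩
  set y₂ : E.H := ⟨n * E.y * n⁻¹, hnH _ E.y_H⟩
  obtain ⟨h, hh⟩ := MulAction.exists_smul_eq E.H
    (Sylow.ofCard (zpowers y₂) (hcard y₂ (by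
      rw [← Subgroup.orderOf_coe]
      show orderOf (MulAut.conj n E.y) = 3
      rw [MulEquiv.orderOf_eq, E.y_ord])))
    (Sylow.ofCard (zpowers y₁) (hcard y₁ (by rw [← Subgroup.orderOf_coe]; exact E.y_ord)))
  have hmem : h * y₂ * h⁻¹ ∈ zpowers y₁ := by
    have := congrArg (fun S : Sylow 3 E.H => h * y₂ * h⁻¹ ∈ (S : Subgroup E.H)) hh
    simp only [Sylow.coe_subgroup_smul] at this
    exact (this.symm ▸ Subgroup.smul_mem_pointwise_smul _ (MulAut.conj h) (zpowers y₂) (mem_zpowers y₂) : _)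
  set m := (h : G) * n with hm
  obtain ⟨h1, h2⟩ := E.mem_H.1 h.2
  have m1 : m * E.t * m⁻¹ = E.T * E.t := by rw [hm, conj_comp, n1, conj_mul', conj_eq_iff.2 h2, conj_eq_iff.2 h1]
  have m2 : m * E.T * m⁻¹ = E.t := by rw [hm, conj_comp, n2, conj_eq_iff.2 h1]
  have mT : m * (E.T * E.t) * m⁻¹ = E.T := by
    rw [conj_mul', m1, m2, ← mul_assoc, ← E.T_t.eq, mul_assoc, E.t_sq, mul_one]
  have my : m * E.y * m⁻¹ = E.y ∨ m * E.y * m⁻¹ = E.y⁻¹ := by
    have hm3 : m * E.y * m⁻¹ ∈ zpowers E.y := by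
      obtain ⟨i, hi⟩ := hmem
      refine ⟨i, ?_⟩
      rw [hm, conj_comp]
      simpa using congrArg Subtype.val hi
    classical
    obtain ⟨i, hi, hie⟩ := Finset.mem_image.1 ((mem_zpowers_iff_mem_range_orderOf).1 hm3)
    rw [Finset.mem_range, E.y_ord] at hi
    interval_cases i
    · rw [pow_zero] at hie
      exact absurd (conj_eq_one_iff.1 hie.symm) E.y_ne
    · rw [pow_one] at hie
      exact Or.inl hie.symm
    · right
      rw [← hie]
      exact eq_inv_of_mul_eq_one_left (by rw [← pow_succ, E.y_cube])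
  set σ0 := m * m with hσ0
  have s1 : σ0 * E.t * σ0⁻¹ = E.T := by rw [hσ0, conj_comp, m1, mT]
  have s2 : σ0 * E.T * σ0⁻¹ = E.T * E.t := by rw [hσ0, conj_comp, m2, m1]
  have sy : Commute σ0 E.y := conj_eq_iff.1 (by
    rw [hσ0, conj_comp]
    rcases my with e | e <;> rw [e]
    · exact e
    · rw [show m * E.y⁻¹ * m⁻¹ = (m * E.y * m⁻¹)⁻¹ by group, e, inv_inv])
  -- pass to the 3-part
  have s3 : σ0 * (E.T * E.t) * σ0⁻¹ = E.t := by
    rw [conj_mul', s2, s1, mul_assoc, ← E.T_t.eq, ← mul_assoc, E.T_sq, one_mul]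
  have p3 : ∀ x, x = E.t ∨ x = E.T → σ0 ^ 3 * x * (σ0 ^ 3)⁻¹ = x := by
    rintro x (rfl | rfl) <;> rw [pow_succ, pow_two, conj_comp, conj_comp]
    · rw [s1, s2, s3]
    · rw [s2, s3, s1]
  obtain ⟨k, r, hr, hkr⟩ : ∃ k r, ¬ 3 ∣ r ∧ orderOf σ0 = 3 ^ k * r :=
    Nat.exists_eq_pow_mul_and_not_dvd (orderOf_pos σ0).ne' 3 (by norm_num)
  have hσ : (σ0 ^ r) ^ 3 ^ k = 1 := by rw [← pow_mul, mul_comm, ← hkr, pow_orderOf_eq_one]
  have pq : ∀ q x, x = E.t ∨ x = E.T → σ0 ^ (3 * q) * x * (σ0 ^ (3 * q))⁻¹ = x := fun q x hx => by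
    rw [pow_mul]
    exact conj_eq_iff.2 ((conj_eq_iff.1 (p3 x hx)).pow_left q)
  obtain ⟨q, hq | hq⟩ : ∃ q, r = 3 * q + 1 ∨ r = 3 * q + 2 := ⟨r / 3, by omega⟩
  · refine ⟨σ0 ^ r, sy.pow_left r, ?_, ?_, k, hσ⟩
    · rw [hq, add_comm, pow_add, pow_one, conj_comp, pq q _ (Or.inl rfl), s1]
    · rw [hq, add_comm, pow_add, pow_one, conj_comp, pq q _ (Or.inr rfl), s2]
  · have r1 : σ0 ^ r * E.t * (σ0 ^ r)⁻¹ = E.T * E.t := by
      rw [hq, add_comm, pow_add, pow_two, conj_comp, pq q _ (Or.inl rfl), conj_comp, s1, s2]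
    have r2 : σ0 ^ r * E.T * (σ0 ^ r)⁻¹ = E.t := by
      rw [hq, add_comm, pow_add, pow_two, conj_comp, pq q _ (Or.inr rfl), conj_comp, s2, s3]
    refine ⟨(σ0 ^ r)⁻¹, (sy.pow_left r).inv_left, ?_, ?_, k, by rw [inv_pow, hσ, inv_one]⟩
    · conv_lhs => rw [← r2]
      group
    · have h3 : σ0 ^ r * (E.T * E.t) * (σ0 ^ r)⁻¹ = E.T := by
        rw [conj_mul', r2, r1, ← mul_assoc, ← E.T_t.eq, mul_assoc, E.t_sq, mul_one]
      conv_lhs => rw [← h3]
      group

/-- A 2-subgroup of the centralizer of `y` has order at most four. -/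
theorem y_two_le {R : Subgroup G} (hR : IsPGroup 2 R) (hRy : ∀ x ∈ R, Commute x E.y) : Nat.card R ≤ 4 := by
  haveI : Fact (Nat.Prime 2) := ⟨Nat.prime_two⟩
  obtain ⟨σ, hσy, hσt, hσT, -⟩ := E.exists_sigma
  have hV : IsPGroup 2 (zpowers E.t ⊔ zpowers E.T : Subgroup G) := by
    refine IsPGroup.to_sup_of_normal_right' (isPGroup_zpowers E.t_sq) (isPGroup_zpowers E.T_sq) ?_
    rintro x ⟨i, rfl⟩
    refine mem_normalizer_fintype ?_
    rintro w ⟨k, rfl⟩
    rw [(E.T_t.symm.zpow_zpow i k).eq, mul_inv_cancel_right]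
    exact ⟨k, rfl⟩
  obtain ⟨g, hg, S, hS, hSX, hVS, hgS⟩ := exists_conj_le_two hR (X := centralizer ({E.y} : Set G))
    (fun x hx => mem_cent_iff.2 (hRy x hx)) hV
    (sup_le (zpowers_le.2 (mem_cent_iff.2 E.y_t.symm)) (zpowers_le.2 (mem_cent_iff.2 E.T_y)))
  have htS : E.t ∈ S := hVS (mem_sup_left (mem_zpowers _))
  have hTS : E.T ∈ S := hVS (mem_sup_right (mem_zpowers _))
  have hRS : Nat.card R ≤ Nat.card S :=
    Nat.card_le_card_of_injective (fun x : R => (⟨g * x * g⁻¹, hgS x x.2⟩ : S))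
      fun a b h => Subtype.ext (mul_left_cancel (mul_right_cancel (congrArg Subtype.val h :)))
  obtain ⟨c, hcS, hc2, hc1, hcc⟩ := exists_central_invol hS (fun e => E.t_ne (by
    rwa [e, mem_bot] at htS))
  -- conjugate the central involution to `t`
  obtain ⟨w, hwy, hwc⟩ : ∃ w : G, Commute w E.y ∧ w * c * w⁻¹ = E.t := by
    rcases E.Cy_T (hcc _ htS) (mem_cent_iff.1 (hSX hcS)) (hcc _ hTS) hc2 with e | e | e | e
    · exact absurd e hc1
    · exact ⟨1, Commute.one_left _, by rw [e]; group⟩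
    · exact ⟨σ⁻¹, hσy.inv_left, by rw [e, ← hσt]; group⟩
    · refine ⟨σ⁻¹ * σ⁻¹, hσy.inv_left.mul_left hσy.inv_left, ?_⟩
      rw [e, ← hσT, conj_comp, inv_inv, show σ⁻¹ * (σ * E.T * σ⁻¹) * σ = E.T by group, ← hσt]
      group
  have hle : S.map (MulAut.conj w).toMonoidHom ≤ E.C ⊓ centralizer ({E.y} : Set G) := by
    rintro _ ⟨x, hx, rfl⟩
    refine ⟨E.mem_C.2 ?_, mem_cent_iff.2 ?_⟩
    · have := commute_conj (g := w) (hcc x hx).symm
      rwa [hwc] at this
    · have := commute_conj (g := w) (mem_cent_iff.1 (hSX hx))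
      rwa [conj_eq_iff.2 hwy] at this
  have hd := card_dvd_of_le hle
  rw [E.card_Cy, ← Nat.card_congr (equivMapOfInjective S _ (MulAut.conj w).injective).toEquiv] at hd
  obtain ⟨j, hj⟩ := IsPGroup.iff_card.1 hS
  rw [hj] at hd hRS
  have hj2 : j ≤ 2 := by
    by_contra hlt
    exact absurd ((pow_dvd_pow 2 (show 3 ≤ j by omega)).trans hd) (by norm_num)
  exact hRS.trans (Nat.pow_le_pow_right (by norm_num) hj2)

end Setup

end Cfsg.Agent.Spor.McLCent
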