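import Cfsg.Agent.Lib.Spor.McLCent.Fusion
import Cfsg.Agent.Lib.Spor.McLThree.NEntry
import Cfsg.Agent.Lib.Invol.TwoAn.IsolatedCore

/-!
The centralizer of the group of order nine is an elementary abelian group of order `81` extended by `t`.
-/

set_option autoImplicit false
set_option linter.unusedSectionVars false
set_option maxHeartbeats 800000

namespace Cfsg.Agent.Spor.McLCent

open Equiv Equiv.Perm Subgroup
open scoped Pointwise
open Cfsg.Agent.Invol.TwoAn (Cfg IsQuad)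

universe u

variable {G : Type u} [Group G] [Finite G]

/-- A group whose 2-subgroups have order at most two has a normal subgroup of odd order and index two. -/
theorem exists_half {X : Subgroup G} {t : G} (htX : t ∈ X) (ht : t * t = 1) (ht1 : t ≠ 1)
    (h2 : ∀ R : Subgroup G, IsPGroup 2 R → R ≤ X → Nat.card R ≤ 2) :
    ∃ A : Subgroup G, A ≤ X ∧ Odd (Nat.card A) ∧ (∀ x ∈ X, Odd (orderOf x) → x ∈ A) ∧
      ∀ x ∈ X, x ∈ A ∨ x * t ∈ A := by
  haveI : Fact (Nat.Prime 2) := ⟨Nat.prime_two⟩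
  set tX : X := ⟨t, htX⟩
  have htX2 : tX * tX = 1 := Subtype.ext ht
  have htXo : orderOf tX = 2 := orderOf_eq_prime (by rw [pow_two, htX2]) fun e => ht1 (congrArg Subtype.val e)
  obtain ⟨P2, hP2⟩ := (isPGroup_zpowers htX2).exists_le_sylow
  have hP2' : (P2 : Subgroup X) = zpowers tX := by
    refine (eq_of_le_of_card_ge hP2 ?_).symm
    rw [Nat.card_zpowers, htXo, Nat.card_congr (equivMapOfInjective _ X.subtype X.subtype_injective).toEquiv]
    exact h2 _ (P2.isPGroup'.map _) (map_subtype_le _)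
  have hle : normalizer ((P2 : Subgroup X) : Set X) ≤ centralizer (P2 : Set X) := by
    intro h hn
    have h1 := ((mem_normalizer_iff.1 hn) tX).1 (hP2'.symm ▸ mem_zpowers tX)
    rw [hP2'] at h1
    classical
    obtain ⟨i, hi, hie⟩ := Finset.mem_image.1 ((mem_zpowers_iff_mem_range_orderOf).1 h1)
    rw [Finset.mem_range, htXo] at hi
    have hc : Commute h tX := by
      interval_cases i
      · rw [pow_zero] at hie
        exact absurd (congrArg Subtype.val (conj_eq_one_iff.1 hie.symm)) ht1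
      · rw [pow_one] at hie
        exact conj_eq_iff.1 hie.symm
    refine mem_centralizer_iff.2 fun q hq => ?_
    have hq' : q ∈ zpowers tX := hP2' ▸ hq
    obtain ⟨k, rfl⟩ := hq'
    exact (hc.zpow_right k).eq.symm
  set N := (MonoidHom.transferSylow P2 hle).ker with hN
  haveI : N.Normal := MonoidHom.normal_ker _
  have hcompl : N.IsComplement' (P2 : Subgroup X) := MonoidHom.ker_transferSylow_isComplement' P2 hle
  have hidx : N.index = 2 := by
    rw [hcompl.symm.index_eq_card, hP2', Nat.card_zpowers, htXo]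
  have hodd : Odd (Nat.card N) := by
    rw [← Nat.not_even_iff_odd, even_iff_two_dvd]
    exact MonoidHom.not_dvd_card_ker_transferSylow P2 hle
  refine ⟨N.map X.subtype, map_subtype_le _, ?_, fun x hx ho => ⟨⟨x, hx⟩, ?_, rfl⟩, fun x hx => ?_⟩
  · rwa [← Nat.card_congr (equivMapOfInjective N X.subtype X.subtype_injective).toEquiv]
  · obtain ⟨k, hk⟩ := ho
    have h2' : (⟨x, hx⟩ : X) ^ 2 ∈ N := by
      rw [← QuotientGroup.eq_one_iff, QuotientGroup.mk_pow]
      refine orderOf_dvd_iff_pow_eq_one.1 (hidx ▸ ?_)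
      exact orderOf_dvd_natCard _
    rw [show (⟨x, hx⟩ : X) = ((⟨x, hx⟩ : X) ^ 2) ^ (k + 1) from Subtype.ext (by
      simp only [SubmonoidClass.coe_pow]
      rw [← pow_mul, show 2 * (k + 1) = orderOf x + 1 by omega, pow_succ, pow_orderOf_eq_one, one_mul])]
    exact pow_mem h2' _
  · by_cases h : (⟨x, hx⟩ : X) ∈ N
    · exact Or.inl ⟨_, h, rfl⟩
    · refine Or.inr ⟨⟨x, hx⟩ * tX, ?_, rfl⟩
      show _ ∈ N
      rw [mul_mem_iff_of_index_two hidx]
      refine iff_of_false h fun h' => ?_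
      have := Nat.le_of_dvd (by norm_num) (orderOf_dvd_natCard (⟨tX, h'⟩ : N) |>.trans dvd_rfl |> fun hd => (
        Nat.Coprime.dvd_of_dvd_mul_right (Nat.coprime_two_left.2 hodd)
          (by rw [← Subgroup.orderOf_coe, htXo] at hd; exact hd.trans (dvd_mul_left _ _)) : 2 ∣ 1))
      omega

theorem commute_conj_iff {g x w : G} : Commute (g * x * g⁻¹) w ↔ Commute x (g⁻¹ * w * g) := by
  conv_lhs => rw [show w = g * (g⁻¹ * w * g) * g⁻¹ by group]
  exact Commute.conj_iff g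

namespace Setup

variable (E : Setup G)

/-- The element permuting the involutions. -/
noncomputable def σ : G := Classical.choose E.exists_sigma

theorem σ_spec : Commute E.σ E.y ∧ E.σ * E.t * E.σ⁻¹ = E.T ∧ E.σ * E.T * E.σ⁻¹ = E.T * E.t ∧
    ∃ k : ℕ, E.σ ^ 3 ^ k = 1 := Classical.choose_spec E.exists_sigma

theorem σ_y : Commute E.σ E.y := E.σ_spec.1
theorem σ_t : E.σ * E.t * E.σ⁻¹ = E.T := E.σ_spec.2.1
theorem σ_T : E.σ * E.T * E.σ⁻¹ = E.T * E.t := E.σ_spec.2.2.1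
theorem σ_three : ∃ k : ℕ, E.σ ^ 3 ^ k = 1 := E.σ_spec.2.2.2

theorem σ_Tt : E.σ * (E.T * E.t) * E.σ⁻¹ = E.t := by
  rw [conj_mul', E.σ_t, E.σ_T, mul_assoc, ← E.T_t.eq, ← mul_assoc, E.T_sq, one_mul]

theorem σ_not_comm {v : G} (hv : v = E.t ∨ v = E.T ∨ v = E.T * E.t) : ¬ Commute E.σ v := by
  intro h
  have h' := conj_eq_iff.2 h
  rcases hv with rfl | rfl | rfl
  · rw [E.σ_t] at h'; exact E.T_ne_t h'
  · rw [E.σ_T] at h'; exact E.t_ne (mul_eq_left.1 h')
  · rw [E.σ_Tt] at h'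
    exact E.T_ne_one (by
      have e : E.T * E.t = 1 * E.t := by rw [one_mul]; exact h'.symm
      exact mul_right_cancel e)

theorem eq_pow_of_mem_zpowers {g x : G} (hg : g ^ 3 = 1) (hx : x ∈ zpowers g) : ∃ i : Fin 3, x = g ^ (i : ℕ) := by
  obtain ⟨i, rfl⟩ := hx
  refine ⟨⟨(i % 3).toNat, by omega⟩, ?_⟩
  show g ^ i = g ^ (i % 3).toNat
  rw [← zpow_natCast, Int.toNat_of_nonneg (Int.emod_nonneg i (by norm_num))]
  conv_lhs => rw [← Int.mul_ediv_add_emod i 3, zpow_add, zpow_mul, zpow_ofNat, hg, one_zpow, one_mul]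

/-- The centralizer of `y`. -/
abbrev Y : Subgroup G := centralizer ({E.y} : Set G)

/-- The centralizer of `y` has a 3-subgroup of order at least 27, by counting fixed points. -/
theorem not_sylow_nine (S : Sylow 3 ↥E.Y) :
    (S : Subgroup ↥E.Y) ≠ E.P.subgroupOf E.Y := by
  classical
  intro hS
  haveI : Fact (Nat.Prime 3) := ⟨Nat.prime_three⟩
  obtain ⟨W, hWH, hW64, hWmem⟩ := E.exists_W
  let X := E.Y
  have hσX : E.σ ∈ E.Y := mem_cent_iff.2 E.σ_y
  obtain ⟨k, hk⟩ := E.σ_three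
  obtain ⟨B, hB⟩ := (show IsPGroup 3 (zpowers (⟨E.σ, hσX⟩ : E.Y)) from fun w => ⟨k, by
    obtain ⟨i, hi⟩ := w.2
    refine Subtype.ext ?_
    show (w : E.Y) ^ 3 ^ k = 1
    rw [← show (⟨E.σ, hσX⟩ : E.Y) ^ i = (w : X) from hi, ← zpow_natCast, ← zpow_mul, mul_comm, zpow_mul,
      zpow_natCast, show (⟨E.σ, hσX⟩ : E.Y) ^ 3 ^ k = 1 from Subtype.ext hk, one_zpow]⟩).exists_le_sylow
  obtain ⟨d, hd⟩ := MulAction.exists_smul_eq E.Y B S
  have hs : (d : G) * E.σ * (d : G)⁻¹ ∈ E.P := by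
    have h1 : d * ⟨E.σ, hσX⟩ * d⁻¹ ∈ (S : Subgroup E.Y) := by
      rw [← hd]
      exact Subgroup.smul_mem_pointwise_smul _ (MulAut.conj d) _ (hB (mem_zpowers _))
    rw [hS] at h1
    exact mem_subgroupOf.1 h1
  have hdy : Commute (d : G) E.y := mem_cent_iff.1 d.2
  -- conjugation by `d⁻¹ P d` on `W`
  set c : G := (d : G)⁻¹ with hc
  have hnorm : ∀ p ∈ E.P, ∀ w, w ∈ W ↔ c * p * c⁻¹ * w * (c * p * c⁻¹)⁻¹ ∈ W := by
    let N0 : Subgroup G :=
      { carrier := {n | ∀ w, w ∈ W ↔ n * w * n⁻¹ ∈ W}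
        one_mem' := fun w => by simp
        mul_mem' := fun {a b} ha hb w => by rw [conj_comp, ← ha, ← hb]
        inv_mem' := fun {a} ha w => by
          rw [ha (a⁻¹ * w * a⁻¹⁻¹), show a * (a⁻¹ * w * a⁻¹⁻¹) * a⁻¹ = w by group] }
    have hy : E.y ∈ N0 := by
      intro w
      rw [hWmem, hWmem, conj_pow, conj_eq_one_iff]
      refine and_congr_left fun _ => ?_
      obtain ⟨-, -⟩ := E.mem_H.1 E.y_H
      exact ⟨fun h => mul_mem (mul_mem E.y_H h) (inv_mem E.y_H), fun h => by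
        simpa [mul_assoc] using mul_mem (mul_mem (inv_mem E.y_H) h) E.y_H⟩
    have hσ0 : E.σ ∈ N0 := by
      intro w
      rw [hWmem, hWmem, conj_pow, conj_eq_one_iff, E.mem_H, E.mem_H]
      refine and_congr_left fun _ => ?_
      rw [commute_conj_iff, commute_conj_iff]
      have e1 : E.σ⁻¹ * E.T * E.σ = E.t := by rw [← E.σ_t]; group
      have e2 : E.σ⁻¹ * E.t * E.σ = E.T * E.t := by
        have e3 := E.σ_Tt
        calc E.σ⁻¹ * E.t * E.σ = E.σ⁻¹ * (E.σ * (E.T * E.t) * E.σ⁻¹) * E.σ := by rw [e3]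
          _ = _ := by group
      rw [e1, e2]
      refine ⟨fun ⟨h1, h2⟩ => ⟨h2.mul_right h1, h1⟩, fun ⟨h1, h2⟩ => ⟨h2, ?_⟩⟩
      have := h1.mul_right h2
      rwa [show E.T * E.t * E.t = E.T by rw [mul_assoc, E.t_sq, mul_one]] at this
    have hP : E.P.map (MulAut.conj c).toMonoidHom ≤ N0 := by
      set D0 := (zpowers E.y ⊔ zpowers ((d : G) * E.σ * (d : G)⁻¹) : Subgroup G)
      have hD0 : D0 = E.P := by
        refine eq_of_le_of_card_ge (sup_le (zpowers_le.2 E.y_mem_P) (zpowers_le.2 hs)) ?_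
        have h1 : zpowers E.y < D0 := by
          refine lt_of_le_of_ne le_sup_left fun e => E.σ_not_comm (Or.inl rfl) ?_
          have h2 : (d : G) * E.σ * (d : G)⁻¹ ∈ zpowers E.y := e.symm ▸ mem_sup_right (mem_zpowers _)
          obtain ⟨i, hi⟩ := h2
          have : E.σ = E.y ^ i := by
            calc E.σ = (d : G)⁻¹ * ((d : G) * E.σ * (d : G)⁻¹) * d := by group
              _ = (d : G)⁻¹ * (E.y ^ i * d) := by rw [← show E.y ^ i = _ from hi, mul_assoc]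
              _ = _ := by rw [← (hdy.zpow_right i).eq, inv_mul_cancel_left]
          rw [this]
          exact E.y_t.zpow_left i
        have hd9 := card_dvd_of_le (sup_le (zpowers_le.2 E.y_mem_P) (zpowers_le.2 hs) : D0 ≤ E.P)
        rw [E.card_P] at hd9 ⊢
        obtain ⟨j, hj, hje⟩ := (Nat.dvd_prime_pow Nat.prime_three).1 (show Nat.card D0 ∣ 3 ^ 2 by simpa using hd9)
        have h3 : 3 < Nat.card D0 := by
          refine lt_of_le_of_ne ?_ fun e => h1.ne (eq_of_le_of_card_ge h1.le ?_)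
          · rw [← E.y_ord, ← Nat.card_zpowers]
            exact card_le_of_le h1.le
          · rw [Nat.card_zpowers, E.y_ord, ← e]
        rw [hje] at h3 ⊢
        interval_cases j <;> omega
      rw [← hD0, Subgroup.map_sup, MonoidHom.map_zpowers, MonoidHom.map_zpowers]
      refine sup_le (zpowers_le.2 ?_) (zpowers_le.2 ?_)
      · show c * E.y * c⁻¹ ∈ N0
        rw [conj_eq_iff.2 hdy.inv_left]
        exact hy
      · show c * ((d : G) * E.σ * (d : G)⁻¹) * c⁻¹ ∈ N0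
        rw [show c * ((d : G) * E.σ * (d : G)⁻¹) * c⁻¹ = E.σ by rw [hc]; group]
        exact hσ0
    exact fun p hp => hP ⟨p, hp, rfl⟩
  letI : MulAction E.P W :=
    { smul := fun p w => ⟨c * p * c⁻¹ * w * (c * p * c⁻¹)⁻¹, (hnorm p p.2 w).1 w.2⟩
      one_smul := fun w => Subtype.ext (by
        show c * ((1 : E.P) : G) * c⁻¹ * (w : G) * (c * ((1 : E.P) : G) * c⁻¹)⁻¹ = w
        simp)
      mul_smul := fun p q w => Subtype.ext (by
        show c * ((p * q : E.P) : G) * c⁻¹ * (w : G) * (c * ((p * q : E.P) : G) * c⁻¹)⁻¹ =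
          c * (p : G) * c⁻¹ * (c * (q : G) * c⁻¹ * (w : G) * (c * (q : G) * c⁻¹)⁻¹) * (c * (p : G) * c⁻¹)⁻¹
        rw [Subgroup.coe_mul]; group) }
  -- the fixed points
  let Fx : G → Subgroup G := fun x => W ⊓ centralizer ({c * x * c⁻¹} : Set G)
  have hfix : ∀ p : E.P, Nat.card (MulAction.fixedBy W p) = Nat.card (Fx p) := fun p => by
    refine Nat.card_congr ⟨fun w => ⟨w.1.1, w.1.2, mem_cent_iff.2 (Commute.symm (conj_eq_iff.1
      (congrArg Subtype.val w.2)))⟩, fun w => ⟨⟨w.1, w.2.1⟩, Subtype.ext (conj_eq_iff.2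
      (mem_cent_iff.1 w.2.2).symm)⟩, fun _ => rfl, fun _ => rfl⟩
  have hW2 : IsPGroup 2 W := IsPGroup.of_card (n := 6) (by rw [hW64]; norm_num)
  have hcy : c * E.y * c⁻¹ = E.y := conj_eq_iff.2 hdy.inv_left
  have htW : E.t ∈ W := (hWmem _).2 ⟨E.mem_H.2 ⟨Commute.refl _, E.T_t.symm⟩, by
    rw [show (64 : ℕ) = 2 * 32 by norm_num, pow_mul, pow_two, E.t_sq, one_pow]⟩
  have hTW : E.T ∈ W := (hWmem _).2 ⟨E.mem_H.2 ⟨E.T_t, Commute.refl _⟩, by
    rw [show (64 : ℕ) = 2 * 32 by norm_num, pow_mul, pow_two, E.T_sq, one_pow]⟩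
  have hone : Nat.card (Fx 1) = 64 := by
    rw [show Fx 1 = W from inf_eq_left.2 fun w _ => mem_cent_iff.2 (by simp), hW64]
  have hy4 : Nat.card (Fx E.y) = 4 := by
    refine le_antisymm (E.y_two_le (hW2.to_le inf_le_left) fun x hx => by
      have := mem_cent_iff.1 hx.2
      rwa [hcy] at this) ?_
    let v : Fin 4 → Fx E.y := ![1, ⟨E.t, htW, mem_cent_iff.2 (hcy.symm ▸ E.y_t.symm)⟩,
      ⟨E.T, hTW, mem_cent_iff.2 (hcy.symm ▸ E.T_y)⟩,
      ⟨E.T * E.t, mul_mem hTW htW, mem_cent_iff.2 (hcy.symm ▸ E.T_y.mul_left E.y_t.symm)⟩]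
    have hv : Function.Injective v := by
      intro a b h
      have h' := congrArg Subtype.val h
      have n1 := E.T_ne_t
      have n2 := E.T_ne_one
      have n3 := E.t_ne
      have n4 : E.T * E.t ≠ 1 := fun e => n1 ((eq_inv_of_mul_eq_one_left e).trans E.t_inv)
      have n5 : E.T * E.t ≠ E.t := fun e => n2 (mul_eq_right.1 e)
      have n6 : E.T * E.t ≠ E.T := fun e => n3 (mul_eq_left.1 e)
      fin_cases a <;> fin_cases b <;> first
        | rfl
        | (simp only [v, Fin.mk_zero, Fin.mk_one, Matrix.cons_val_zero, Matrix.cons_val_one, Matrix.cons_val,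
            OneMemClass.coe_one] at h'
           first
            | exact absurd h' n1 | exact absurd h' n2 | exact absurd h' n3 | exact absurd h' n4
            | exact absurd h' n5 | exact absurd h' n6
            | exact absurd h'.symm n1 | exact absurd h'.symm n2 | exact absurd h'.symm n3
            | exact absurd h'.symm n4 | exact absurd h'.symm n5 | exact absurd h'.symm n6)
    simpa using Nat.card_le_card_of_injective v hv
  have hy2 : Fx (E.y * E.y) = Fx E.y := by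
    refine inf_congr_left fun x => ?_
    constructor <;> intro hx <;> rw [mem_cent_iff] at hx ⊢
    · have h4 := hx.mul_right hx
      rwa [show c * (E.y * E.y) * c⁻¹ * (c * (E.y * E.y) * c⁻¹) = c * E.y ^ 3 * E.y * c⁻¹ by
        rw [pow_succ, pow_two]; group, E.y_cube, mul_one] at h4
    · rw [show c * (E.y * E.y) * c⁻¹ = c * E.y * c⁻¹ * (c * E.y * c⁻¹) by group]
      exact hx.mul_right hx
  have hmix : ∀ (x : G), c * x * c⁻¹ = c * x * c⁻¹ → x ∈ E.P → x ∉ zpowers E.y → ∀ v ∈ Fx x,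
      Commute v E.y → v * v = 1 → v = 1 := by
    intro x _ hxP hxy v hv hvy hv2
    obtain ⟨hvW, hvx⟩ := hv
    obtain ⟨hvt, hvT⟩ := E.mem_H.1 ((hWmem v).1 hvW).1
    rcases E.Cy_T hvt hvy hvT hv2 with e | e
    · exact e
    exfalso
    refine E.σ_not_comm e ?_
    -- the centralizer of `v` contains a conjugate of the group of order nine
    have hle : E.P ≤ (centralizer ({(d : G) * v * (d : G)⁻¹} : Set G)) := by
      have h1 : x ∈ centralizer ({(d : G) * v * (d : G)⁻¹} : Set G) := mem_cent_iff.2 (by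
        have := commute_conj (g := (d : G)) (mem_cent_iff.1 hvx).symm
        rwa [hc, show (d : G) * ((d : G)⁻¹ * x * (d : G)⁻¹⁻¹) * (d : G)⁻¹ = x by group] at this)
      have h2 : E.y ∈ centralizer ({(d : G) * v * (d : G)⁻¹} : Set G) := mem_cent_iff.2 (by
        have := commute_conj (g := (d : G)) hvy.symm
        rwa [conj_eq_iff.2 hdy] at this)
      have h3 : (zpowers E.y ⊔ zpowers x : Subgroup G) = E.P := by
        refine eq_of_le_of_card_ge (sup_le (zpowers_le.2 E.y_mem_P) (zpowers_le.2 hxP)) ?_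
        have hlt : zpowers E.y < zpowers E.y ⊔ zpowers x :=
          lt_of_le_of_ne le_sup_left fun e' => hxy (e'.symm ▸ mem_sup_right (mem_zpowers x))
        obtain ⟨j, -, hje⟩ := (Nat.dvd_prime_pow Nat.prime_three).1
          (show Nat.card ↥(zpowers E.y ⊔ zpowers x) ∣ 3 ^ 2 by
            simpa [E.card_P] using card_dvd_of_le (sup_le (zpowers_le.2 E.y_mem_P) (zpowers_le.2 hxP)))
        rw [E.card_P, hje]
        have h4 : 3 < 3 ^ j := by
          rw [← hje]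
          refine lt_of_le_of_ne ?_ fun e' => hlt.ne (eq_of_le_of_card_ge hlt.le ?_)
          · rw [← E.y_ord, ← Nat.card_zpowers]; exact card_le_of_le hlt.le
          · rw [Nat.card_zpowers, E.y_ord, ← e']
        exact Nat.pow_le_pow_right (show 0 < 3 by norm_num) (show 2 ≤ j by
          by_contra hj
          interval_cases j <;> omega)
      rw [← h3]
      exact sup_le (zpowers_le.2 h2) (zpowers_le.2 h1)
    exact (Commute.conj_iff (d : G)).1 (mem_cent_iff.1 (hle hs))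
  have hz1 : ∀ x ∈ E.P, x ∉ zpowers E.y → (∀ g : G, Commute g x → Commute g E.z) ∨ (∀ g : G, Commute g x → Commute g E.f) →
      Nat.card (Fx x) = 1 := by
    intro x hxP hxy hor
    rw [Subgroup.card_eq_one]
    by_contra hne
    obtain ⟨v, hv, hv2, hv1, hvc⟩ := exists_central_invol (hW2.to_le inf_le_left) hne
    -- `y` fixes the only involution
    have hyv : E.y * v * E.y⁻¹ ∈ Fx x := by
      refine ⟨?_, mem_cent_iff.2 ?_⟩
      · exact (hWmem _).2 ⟨mul_mem (mul_mem E.y_H ((hWmem v).1 hv.1).1) (inv_mem E.y_H), by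
          rw [conj_pow, ((hWmem v).1 hv.1).2, mul_one, mul_inv_cancel]⟩
      · have := commute_conj (g := E.y) (mem_cent_iff.1 hv.2)
        rwa [show E.y * (c * x * c⁻¹) * E.y⁻¹ = c * x * c⁻¹ from conj_eq_iff.2 (by
          have := commute_conj (g := c) (E.P_comm E.y_mem_P hxP)
          rwa [hcy] at this)] at this
    have key : ∀ w ∈ Fx x, w * w = 1 → w ≠ 1 → w = v := by
      intro w hw hw2 hw1
      rcases hor with h | h
      · have f1 : ∀ r ∈ Fx x, Commute ((d : G) * r * (d : G)⁻¹) E.z := fun r hr => h _ (by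
          have := commute_conj (g := (d : G)) (mem_cent_iff.1 hr.2)
          rwa [hc, show (d : G) * ((d : G)⁻¹ * x * (d : G)⁻¹⁻¹) * (d : G)⁻¹ = x by group] at this)
        have sq : ∀ r : G, r * r = 1 → (d : G) * r * (d : G)⁻¹ * ((d : G) * r * (d : G)⁻¹) = 1 := fun r hr => by
          rw [← conj_mul', hr, mul_one, mul_inv_cancel]
        exact mul_left_cancel (mul_right_cancel (E.z_no_four (f1 w hw) (f1 v hv) (sq w hw2) (sq v hv2)
          (mt conj_eq_one_iff.1 hw1) (mt conj_eq_one_iff.1 hv1) ((Commute.conj_iff _).2 (hvc w hw).symm)))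
      · set e := E.T * (d : G)
        have f1 : ∀ r ∈ Fx x, Commute (e * r * e⁻¹) E.z := fun r hr => by
          have h0 : Commute ((d : G) * r * (d : G)⁻¹) E.f := h _ (by
            have := commute_conj (g := (d : G)) (mem_cent_iff.1 hr.2)
            rwa [hc, show (d : G) * ((d : G)⁻¹ * x * (d : G)⁻¹⁻¹) * (d : G)⁻¹ = x by group] at this)
          have := commute_conj (g := E.T) h0
          rwa [E.T_f, ← conj_comp] at this
        have sq : ∀ r : G, r * r = 1 → e * r * e⁻¹ * (e * r * e⁻¹) = 1 := fun r hr => by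
          rw [← conj_mul', hr, mul_one, mul_inv_cancel]
        exact mul_left_cancel (mul_right_cancel (E.z_no_four (f1 w hw) (f1 v hv) (sq w hw2) (sq v hv2)
          (mt conj_eq_one_iff.1 hw1) (mt conj_eq_one_iff.1 hv1) ((Commute.conj_iff _).2 (hvc w hw).symm)))
    have hfixv := key _ hyv (by rw [← conj_mul', hv2, mul_one, mul_inv_cancel]) (mt conj_eq_one_iff.1 hv1)
    exact hv1 (hmix x rfl hxP hxy v hv (conj_eq_iff.1 hfixv).symm hv2)
  -- the orbit count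
  haveI := Fintype.ofFinite G
  have hsum := MulAction.sum_card_fixedBy_eq_card_orbits_mul_card_group E.P W
  rw [Fintype.sum_equiv E.equivP.symm (fun p : E.P => Fintype.card (MulAction.fixedBy W p))
    (fun q => Fintype.card (MulAction.fixedBy W (E.equivP q))) (fun p => by rw [Equiv.apply_symm_apply])] at hsum
  simp only [← Nat.card_eq_fintype_card, hfix, E.equivP_apply, E.card_P, Fintype.sum_prod_type,
    Fin.sum_univ_three] at hsum
  simp only [Fin.val_zero, Fin.val_one, Fin.val_two, pow_zero, pow_one, one_mul, mul_one] at hsum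
  have hnot : ∀ a b : Fin 3, a ≠ b → E.z ^ (a : ℕ) * E.f ^ (b : ℕ) ∉ zpowers E.y := by
    intro a b hab h
    obtain ⟨i, hi⟩ := eq_pow_of_mem_zpowers E.y_cube h
    rw [y, E.z_f.mul_pow] at hi
    obtain ⟨e1, e2⟩ := E.P_injective hi
    exact hab (e1.trans e2.symm)
  have sqrt3 : ∀ {g x : G}, x ^ 3 = 1 → Commute g (x ^ 2) → Commute g x := fun {g x} hx h => by
    have := h.mul_right h
    rwa [show x ^ 2 * x ^ 2 = x by rw [← pow_add, show 2 + 2 = 3 + 1 by norm_num, pow_succ, hx, one_mul]] at this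
  have e01 : Nat.card (Fx E.f) = 1 :=
    hz1 _ E.f_mem_P (by simpa using hnot 0 1 (by decide)) (Or.inr fun g h => h)
  have e02 : Nat.card (Fx (E.f ^ 2)) = 1 :=
    hz1 _ (pow_mem E.f_mem_P 2) (by simpa using hnot 0 2 (by decide)) (Or.inr fun g h => sqrt3 E.f_cube h)
  have e10 : Nat.card (Fx E.z) = 1 :=
    hz1 _ E.z_mem_P (by simpa using hnot 1 0 (by decide)) (Or.inl fun g h => h)
  have e20 : Nat.card (Fx (E.z ^ 2)) = 1 :=
    hz1 _ (pow_mem E.z_mem_P 2) (by simpa using hnot 2 0 (by decide)) (Or.inl fun g h => sqrt3 E.z_cube h)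
  have e22 : Nat.card (Fx (E.z ^ 2 * E.f ^ 2)) = 4 := by
    rw [← E.z_f.mul_pow, pow_two, show E.z * E.f = E.y from rfl, hy2, hy4]
  have e12 : E.z * E.f ^ 2 = E.y' := by
    rw [y', show E.f ^ 2 = E.f⁻¹ from eq_inv_of_mul_eq_one_left (by rw [← pow_succ, E.f_cube])]
  have e21 : Fx (E.z ^ 2 * E.f) = Fx E.y' := by
    have hinv : E.z ^ 2 * E.f = E.y'⁻¹ := by
      rw [y', mul_inv_rev, inv_inv, show E.z⁻¹ = E.z ^ 2 from (eq_inv_of_mul_eq_one_left (by
        rw [← pow_succ, E.z_cube])).symm]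
      exact (E.z_f.pow_left 2).eq
    refine inf_congr_left fun g => ?_
    rw [hinv, mem_cent_iff, mem_cent_iff, show c * E.y'⁻¹ * c⁻¹ = (c * E.y' * c⁻¹)⁻¹ by group,
      Commute.inv_right_iff]
  rw [e01, e02, e10, e20, e22, e12, e21, hone, show Fx (E.z * E.f) = Fx E.y from rfl, hy4] at hsum
  have hb : Nat.card (Fx E.y') ∣ 4 := by
    set e := E.j * (d : G)
    have hle := E.y_two_le (R := (Fx E.y').map (MulAut.conj e).toMonoidHom) ((hW2.to_le inf_le_left).map _) (by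
      rintro _ ⟨w, hw, rfl⟩
      have := commute_conj (g := e) (mem_cent_iff.1 hw.2)
      rwa [show e * (c * E.y' * c⁻¹) * e⁻¹ = E.j * E.y' * E.j⁻¹ by simp only [e, hc]; group, E.j_y'] at this)
    rw [← Nat.card_congr (equivMapOfInjective _ _ (MulAut.conj e).injective).toEquiv] at hle
    have hd64 := card_dvd_of_le (inf_le_left : Fx E.y' ≤ W)
    rw [hW64] at hd64
    obtain ⟨i, hi6, hi⟩ := (Nat.dvd_prime_pow Nat.prime_two).1 (show Nat.card (Fx E.y') ∣ 2 ^ 6 from hd64)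
    rw [hi] at hle ⊢
    interval_cases i <;> first | (norm_num; done) | norm_num at hle
  obtain ⟨i, hi, hie⟩ := (Nat.dvd_prime_pow Nat.prime_two).1 (show Nat.card (Fx E.y') ∣ 2 ^ 2 from hb)
  rw [hie] at hsum
  interval_cases i <;> omega
where
  inf_congr_left {A B C : Subgroup G} (h : ∀ x, x ∈ B ↔ x ∈ C) : A ⊓ B = A ⊓ C := by
    rw [SetLike.ext h]

/-- A 3-element outside `P` centralizing it. -/
theorem exists_cent_P : ∃ n : G, Commute n E.z ∧ Commute n E.f ∧ n ∉ E.P ∧ ∃ k : ℕ, n ^ 3 ^ k = 1 := by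
  haveI : Fact (Nat.Prime 3) := ⟨Nat.prime_three⟩
  set X := E.Y
  have hPX : E.P ≤ X := fun x hx => mem_cent_iff.2 (E.P_comm hx E.y_mem_P)
  have hP3 : IsPGroup 3 (E.P.subgroupOf X) :=
    (IsPGroup.of_card (n := 2) (by rw [E.card_P]; norm_num) : IsPGroup 3 E.P).comap_of_injective X.subtype
      X.subtype_injective
  obtain ⟨S, hPS⟩ := hP3.exists_le_sylow
  set P0 : Subgroup (S : Subgroup X) := (E.P.subgroupOf X).subgroupOf (S : Subgroup X)
  haveI := S.isPGroup'.isNilpotent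
  have hlt : P0 < ⊤ := lt_top_iff_ne_top.2 fun e =>
    E.not_sylow_nine S (le_antisymm (subgroupOf_eq_top.1 e) hPS)
  obtain ⟨n, hn, hnP⟩ := SetLike.exists_of_lt (Group.normalizerCondition_of_isNilpotent P0 hlt)
  set g : G := ((n : X) : G) with hg
  obtain ⟨k, hk⟩ := S.isPGroup' n
  have hgk : g ^ 3 ^ k = 1 := by
    have := congrArg (fun a : (S : Subgroup X) => ((a : X) : G)) hk
    simpa using this
  have hgy : Commute g E.y := mem_cent_iff.1 (n : X).2
  have hgP : ∀ p ∈ E.P, g * p * g⁻¹ ∈ E.P := fun p hp => by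
    have h1 : (⟨p, hPX hp⟩ : X) ∈ E.P.subgroupOf X := mem_subgroupOf.2 hp
    exact mem_subgroupOf.1 (mem_subgroupOf.1 ((mem_normalizer_iff.1 hn ⟨_, hPS h1⟩).1 (mem_subgroupOf.2 h1)))
  have hy' : g * E.y' * g⁻¹ ∈ zpowers E.y' := by
    obtain ⟨a, b, he⟩ := E.mem_P.1 (hgP _ E.y'_mem_P)
    have sq : ∀ {x r : G}, x = r ^ 2 → r ^ 3 = 1 → x ^ 2 = r := fun {x r} h h3 => by
      rw [h, ← pow_mul, show 2 * 2 = 3 + 1 by norm_num, pow_succ, h3, one_mul]
    have hz : ∀ w : G, w * E.y' * w⁻¹ = E.z ^ 2 → False := fun w hw => by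
      refine E.y'_not_conj_z (w * E.u * E.u⁻¹ * E.u) ?_
      rw [show w * E.u * E.u⁻¹ * E.u = w * E.u by group]
      exact absurd rfl (fun _ : (1 : ℕ) = 1 => E.y'_not_conj_z (E.u * w) (by
        rw [conj_comp, hw, ← conj_pow, E.u_z, inv_pow, pow_two]
        exact inv_eq_of_mul_eq_one_left (by rw [← pow_two, ← pow_succ', E.z_cube])))
    have hf : ∀ w : G, w * E.y' * w⁻¹ = E.f → False := fun w hw =>
      E.y'_not_conj_z (E.T * w) (by rw [conj_comp, hw, E.T_f])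
    have hf2 : ∀ w : G, w * E.y' * w⁻¹ = E.f ^ 2 → False := fun w hw => hz (E.T * w) (by
      rw [conj_comp, hw, ← conj_pow, E.T_f])
    have hyy : ∀ i : ℕ, g * E.y' * g⁻¹ = E.y ^ i → E.y' = E.y ^ i := fun i hi => by
      calc E.y' = g⁻¹ * (g * E.y' * g⁻¹) * g := by group
        _ = g⁻¹ * (E.y ^ i * g) := by rw [hi, mul_assoc]
        _ = _ := by rw [← (hgy.pow_right i).eq, inv_mul_cancel_left]
    have hy'form : E.y' = E.z ^ 1 * E.f ^ 2 := by
      rw [y', pow_one, show E.f ^ 2 = E.f⁻¹ from eq_inv_of_mul_eq_one_left (by rw [← pow_succ, E.f_cube])]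
    have hdiag : ∀ a : Fin 3, g * E.y' * g⁻¹ ≠ E.z ^ (a : ℕ) * E.f ^ (a : ℕ) := fun a h => by
      rw [← E.z_f.mul_pow] at h
      have h1 := hyy _ h
      rw [hy'form, y, E.z_f.mul_pow] at h1
      obtain ⟨e1, e2⟩ := E.P_injective (a := 1) (b := 2) h1
      rw [← e1] at e2
      exact absurd e2 (by decide)
    rw [he]
    fin_cases a <;> fin_cases b <;> simp only [Fin.mk_one, Fin.isValue, Fin.val_zero, Fin.val_one, Fin.val_two,
      Fin.zero_eta, Fin.reduceFinMk, pow_zero, pow_one, one_mul, mul_one] at he ⊢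
    · exact one_mem _
    · exact (hf g he).elim
    · exact (hf2 g he).elim
    · exact (E.y'_not_conj_z g he).elim
    · exact absurd (by simpa using he) (hdiag 1)
    · rw [show E.z * E.f ^ 2 = E.y' by rw [hy'form, pow_one]]; exact mem_zpowers _
    · exact (hz g he).elim
    · refine ⟨2, ?_⟩
      show E.y' ^ (2 : ℤ) = E.z ^ 2 * E.f
      rw [zpow_ofNat, hy'form, (E.z_f.pow_pow 1 2).mul_pow, pow_one, ← pow_mul, show 2 * 2 = 3 + 1 by norm_num,
        pow_succ E.f, E.f_cube, one_mul]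
    · exact absurd (by simpa using he) (hdiag 2)
  have hgy' : Commute g E.y' := McLThree.three_fixes (orderOf_eq_prime (E.P_cube E.y'_mem_P) (fun e => by
      have h1 : E.z = E.f := mul_inv_eq_one.1 (show E.z * E.f⁻¹ = 1 from e)
      exact absurd (E.P_injective (a := 1) (b := 0) (a' := 0) (b' := 1) (by simpa using h1)).1 (by decide)))
    (mem_normalizer_fintype fun q hq => by
      obtain ⟨i, rfl⟩ := hq
      rw [← conj_zpow]
      exact zpow_mem hy' i) hgk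
  have hgz : Commute g E.z := by
    have h1 := (hgy.mul_right hgy').pow_right 2
    have e : (E.y * E.y') ^ 2 = E.z := by
      rw [show E.y * E.y' = E.z ^ 2 by
        rw [y, y', ← mul_assoc, mul_assoc E.z E.f E.z, ← E.z_f.eq, ← mul_assoc, mul_inv_cancel_right, pow_two],
        ← pow_mul, show 2 * 2 = 3 + 1 by norm_num, pow_succ, E.z_cube, one_mul]
    rwa [e] at h1
  refine ⟨g, hgz, ?_, fun h => hnP (mem_subgroupOf.2 (mem_subgroupOf.2 h)), k, hgk⟩
  have := hgz.inv_right.mul_right hgy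
  rwa [show E.z⁻¹ * E.y = E.f by rw [y, inv_mul_cancel_left]] at this

/-- The elements centralizing the group of order nine. -/
def cP : Subgroup G := centralizer ({E.z} : Set G) ⊓ centralizer ({E.f} : Set G)

theorem mem_cP {g : G} : g ∈ E.cP ↔ Commute g E.z ∧ Commute g E.f := by
  rw [cP, Subgroup.mem_inf, mem_cent_iff, mem_cent_iff]

theorem cP_comm {g p : G} (hg : g ∈ E.cP) (hp : p ∈ E.P) : Commute g p := by
  obtain ⟨a, b, rfl⟩ := hp
  exact ((E.mem_cP.1 hg).1.pow_right a).mul_right ((E.mem_cP.1 hg).2.pow_right b)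

theorem two_cP {R : Subgroup G} (hR : IsPGroup 2 R) (hle : R ≤ E.cP) : Nat.card R ≤ 2 := by
  haveI : Fact (Nat.Prime 2) := ⟨Nat.prime_two⟩
  obtain ⟨g, hg, S, hS, hSX, htS, hgS⟩ := exists_conj_le_two hR hle (R := zpowers E.t)
    (isPGroup_zpowers E.t_sq) (zpowers_le.2 (E.mem_cP.2 ⟨E.z_t.symm, E.f_t.symm⟩))
  have htS' : E.t ∈ S := htS (mem_zpowers _)
  obtain ⟨c, hcS, hc2, hc1, hcc⟩ := exists_central_invol hS (fun e => E.t_ne (by rwa [e, mem_bot] at htS'))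
  obtain rfl := E.Cz_invol (hcc _ htS') (E.mem_cP.1 (hSX hcS)).1 hc2 hc1
  have hle2 : S ≤ zpowers E.t := by
    intro x hx
    obtain ⟨hxz, hxf⟩ := E.mem_cP.1 (hSX hx)
    have hxt : Commute x E.t := (hcc x hx).symm
    obtain ⟨p, hp, e, c, rfl⟩ := E.Cy_form hxt (hxz.mul_right hxf)
    obtain ⟨a, b, rfl⟩ := E.mem_P.1 hp
    have he : e = 0 := by
      by_contra he
      have he1 : e = 1 := by omega
      subst he1
      have h1 : Commute (E.T) E.z := by
        have hpz : Commute (E.z ^ (a : ℕ) * E.f ^ (b : ℕ)) E.z :=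
          E.P_comm ⟨a, b, rfl⟩ E.z_mem_P
        have h3 := (hpz.inv_left.mul_left hxz).mul_left (E.z_t.symm.pow_left (c : ℕ)).inv_left
        simpa [mul_assoc] using h3
      have h2 := conj_eq_iff.2 h1
      rw [E.T_z] at h2
      exact absurd (E.P_injective (a := 0) (b := 1) (a' := 1) (b' := 0) (by simpa using h2)).1 (by decide)
    subst he
    obtain ⟨k, hk⟩ := hS ⟨_, hx⟩
    have hk' := congrArg Subtype.val hk
    simp only [SubmonoidClass.coe_pow, OneMemClass.coe_one, Fin.val_zero, pow_zero, mul_one] at hk'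
    have htk : (E.t ^ (c : ℕ)) ^ (2 ^ (k + 1)) = 1 := by
      rw [← pow_mul, mul_comm, pow_mul, pow_succ, mul_comm, pow_mul, pow_two, E.t_sq, one_pow, one_pow]
    set p := E.z ^ (a : ℕ) * E.f ^ (b : ℕ) with hp'
    have hpk : p ^ (2 ^ (k + 1)) = 1 := by
      have h5 : (p * E.t ^ (c : ℕ)) ^ (2 ^ (k + 1)) = 1 := by rw [pow_succ 2 k, pow_mul, hk', one_pow]
      rwa [((E.P_t hp).pow_right _).mul_pow, htk, mul_one] at h5
    have hp1 : p = 1 := by
      rw [← pow_one p, ← show Nat.gcd 3 (2 ^ (k + 1)) = 1 from Nat.Coprime.pow_right _ (by norm_num)]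
      exact pow_gcd_eq_one.2 ⟨E.P_cube hp, hpk⟩
    simp only [Fin.val_zero, pow_zero, mul_one, ← hp', hp1, one_mul]
    exact pow_mem (mem_zpowers _) _
  calc Nat.card R ≤ Nat.card S := Nat.card_le_card_of_injective (fun x : R => (⟨g * x * g⁻¹, hgS x x.2⟩ : S))
        fun a b h => Subtype.ext (mul_left_cancel (mul_right_cancel (congrArg Subtype.val h :)))
    _ ≤ 2 := by rw [← E.t_ord, ← Nat.card_zpowers]; exact card_le_of_le hle2

/-- The normal subgroup of odd order of the centralizer of the group of order nine. -/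
noncomputable def J : Subgroup G :=
  Classical.choose (exists_half (X := E.cP) (t := E.t) (E.mem_cP.2 ⟨E.z_t.symm, E.f_t.symm⟩) E.t_sq E.t_ne
    fun _ hR hle => E.two_cP hR hle)

theorem J_spec : E.J ≤ E.cP ∧ Odd (Nat.card E.J) ∧ (∀ x ∈ E.cP, Odd (orderOf x) → x ∈ E.J) ∧
    ∀ x ∈ E.cP, x ∈ E.J ∨ x * E.t ∈ E.J :=
  Classical.choose_spec (exists_half (X := E.cP) (t := E.t) (E.mem_cP.2 ⟨E.z_t.symm, E.f_t.symm⟩) E.t_sq E.t_ne
    fun _ hR hle => E.two_cP hR hle)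

theorem P_le_cP : E.P ≤ E.cP := fun _ hx => E.mem_cP.2 ⟨E.P_comm hx E.z_mem_P, E.P_comm hx E.f_mem_P⟩

theorem odd_of_P {x : G} (hx : x ∈ E.P) : Odd (orderOf x) :=
  Odd.of_dvd_nat (by decide : Odd 3) (orderOf_dvd_of_pow_eq_one (E.P_cube hx))

theorem P_le_J : E.P ≤ E.J := fun _ hx => E.J_spec.2.2.1 _ (E.P_le_cP hx) (E.odd_of_P hx)

theorem odd_of_J {x : G} (hx : x ∈ E.J) : Odd (orderOf x) :=
  E.J_spec.2.1.of_dvd_nat (Subgroup.orderOf_dvd_natCard _ hx)

theorem conj_mem_J {g : G} (hg : ∀ p ∈ E.P, g * p * g⁻¹ ∈ E.P) {x : G} (hx : x ∈ E.J) : g * x * g⁻¹ ∈ E.J := by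
  have hg' : ∀ p ∈ E.P, g⁻¹ * p * g ∈ E.P := by
    have hbij := Finite.injective_iff_bijective.1 (show Function.Injective
      (fun p : E.P => (⟨g * p * g⁻¹, hg p p.2⟩ : E.P)) from fun a b h =>
        Subtype.ext (mul_left_cancel (mul_right_cancel (congrArg Subtype.val h :))))
    intro p hp
    obtain ⟨q, hq⟩ := hbij.2 ⟨p, hp⟩
    have e : g * (q : G) * g⁻¹ = p := congrArg Subtype.val hq
    rw [← e, show g⁻¹ * (g * (q : G) * g⁻¹) * g = q by group]
    exact q.2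
  refine E.J_spec.2.2.1 _ (E.mem_cP.2 ⟨?_, ?_⟩) ?_
  · exact commute_conj_iff.2 (E.cP_comm (E.J_spec.1 hx) (hg' _ E.z_mem_P))
  · exact commute_conj_iff.2 (E.cP_comm (E.J_spec.1 hx) (hg' _ E.f_mem_P))
  · rw [show g * x * g⁻¹ = MulAut.conj g x from rfl, MulEquiv.orderOf_eq]
    exact E.odd_of_J hx

theorem conj_P {g : G} (hz : g * E.z * g⁻¹ ∈ E.P) (hf : g * E.f * g⁻¹ ∈ E.P) :
    ∀ p ∈ E.P, g * p * g⁻¹ ∈ E.P := by
  rintro _ ⟨a, b, rfl⟩
  rw [conj_mul', ← conj_pow, ← conj_pow]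
  exact mul_mem (pow_mem hz a) (pow_mem hf b)

theorem T_conj_P : ∀ p ∈ E.P, E.T * p * E.T⁻¹ ∈ E.P :=
  E.conj_P (by rw [E.T_z]; exact E.f_mem_P) (by rw [E.T_f]; exact E.z_mem_P)

theorem u_conj_P : ∀ p ∈ E.P, E.u * p * E.u⁻¹ ∈ E.P :=
  E.conj_P (by rw [E.u_z]; exact inv_mem E.z_mem_P) (by rw [E.u_f]; exact inv_mem E.f_mem_P)

theorem j_conj_P : ∀ p ∈ E.P, E.j * p * E.j⁻¹ ∈ E.P :=
  E.conj_P (by rw [E.j_z]; exact E.z_mem_P) (by rw [E.j_f]; exact inv_mem E.f_mem_P)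

theorem t_conj_P : ∀ p ∈ E.P, E.t * p * E.t⁻¹ ∈ E.P := fun p hp => by
  rwa [conj_eq_iff.2 (E.P_t hp).symm]

/-- The images of the group of order nine under the permuting element. -/
noncomputable def P1 : Subgroup G := E.P.map (MulAut.conj E.σ).toMonoidHom

/-- The second image. -/
noncomputable def P2 : Subgroup G := E.P.map (MulAut.conj (E.σ * E.σ)).toMonoidHom

theorem J_inf_t : E.J ⊓ centralizer ({E.t} : Set G) = E.P := by
  refine le_antisymm (fun x hx => ?_) (le_inf E.P_le_J fun x hx => mem_cent_iff.2 (E.P_t hx))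
  exact E.Cy_odd (mem_cent_iff.1 hx.2) (E.cP_comm (E.J_spec.1 hx.1) E.y_mem_P) (E.odd_of_J hx.1)

theorem pull_P {x g : G} (hg : Commute g E.y) (hx : x ∈ E.J) (h : Commute (g⁻¹ * x * g) E.t) :
    g⁻¹ * x * g ∈ E.P := by
  refine E.Cy_odd h ?_ ?_
  · have := commute_conj (g := g⁻¹) (E.cP_comm (E.J_spec.1 hx) E.y_mem_P)
    rwa [conj_eq_iff.2 hg.inv_left, inv_inv] at this
  · rw [show g⁻¹ * x * g = MulAut.conj g⁻¹ x by simp, MulEquiv.orderOf_eq]
    exact E.odd_of_J hx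

theorem J_inf_T_le : E.J ⊓ centralizer ({E.T} : Set G) ≤ E.P1 := by
  intro x hx
  refine ⟨E.σ⁻¹ * x * E.σ, E.pull_P E.σ_y hx.1 ?_, show E.σ * _ * E.σ⁻¹ = x by group⟩
  have := commute_conj (g := E.σ⁻¹) (mem_cent_iff.1 hx.2)
  rwa [inv_inv, show E.σ⁻¹ * E.T * E.σ = E.t by rw [← E.σ_t]; group] at this

theorem J_inf_Tt_le : E.J ⊓ centralizer ({E.T * E.t} : Set G) ≤ E.P2 := by
  intro x hx
  refine ⟨(E.σ * E.σ)⁻¹ * x * (E.σ * E.σ), E.pull_P (E.σ_y.mul_left E.σ_y) hx.1 ?_,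
    show E.σ * E.σ * _ * (E.σ * E.σ)⁻¹ = x by group⟩
  have := commute_conj (g := (E.σ * E.σ)⁻¹) (mem_cent_iff.1 hx.2)
  rwa [inv_inv, show (E.σ * E.σ)⁻¹ * (E.T * E.t) * (E.σ * E.σ) = E.t by
    rw [← E.σ_T]
    calc (E.σ * E.σ)⁻¹ * (E.σ * E.T * E.σ⁻¹) * (E.σ * E.σ) = E.σ⁻¹ * E.T * E.σ := by group
      _ = E.t := by rw [← E.σ_t]; group] at this

theorem card_P1 : Nat.card E.P1 = 9 := by
  rw [← E.card_P]; exact (Nat.card_congr (equivMapOfInjective _ _ (MulAut.conj E.σ).injective).toEquiv).symm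

theorem card_P2 : Nat.card E.P2 = 9 := by
  rw [← E.card_P]; exact (Nat.card_congr (equivMapOfInjective _ _ (MulAut.conj (E.σ * E.σ)).injective).toEquiv).symm

theorem u_inv_conj_P : ∀ p ∈ E.P, E.u⁻¹ * p * E.u⁻¹⁻¹ ∈ E.P :=
  E.conj_P
    (by rw [show E.u⁻¹ * E.z * E.u⁻¹⁻¹ = (E.u⁻¹ * (E.u * E.z * E.u⁻¹) * E.u) ⁻¹ from by rw [E.u_z]; group]
        exact inv_mem (by rw [show E.u⁻¹ * (E.u * E.z * E.u⁻¹) * E.u = E.z by group]; exact E.z_mem_P))
    (by rw [show E.u⁻¹ * E.f * E.u⁻¹⁻¹ = (E.u⁻¹ * (E.u * E.f * E.u⁻¹) * E.u) ⁻¹ from by rw [E.u_f]; group]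
        exact inv_mem (by rw [show E.u⁻¹ * (E.u * E.f * E.u⁻¹) * E.u = E.f by group]; exact E.f_mem_P))

theorem card_J : Nat.card E.J = 81 := by
  have hfour := Invol.SmallCent.card_four_fixed E.J E.J_spec.2.1 E.t_sq E.T_sq E.T_t.symm.eq
    (fun x hx => E.conj_mem_J E.t_conj_P hx) (fun x hx => E.conj_mem_J E.T_conj_P hx)
  have h3 : E.J ⊓ centralizer ({E.t} : Set G) ⊓ centralizer ({E.T} : Set G) = zpowers E.y := by
    rw [E.J_inf_t]
    exact le_antisymm (fun x hx => E.P_fixed_T hx.1 (mem_cent_iff.1 hx.2).symm)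
      (zpowers_le.2 ⟨E.y_mem_P, mem_cent_iff.2 E.T_y.symm⟩)
  have hub : Nat.card ↥(E.J ⊓ centralizer ({E.t * E.T} : Set G)) =
      Nat.card ↥(E.J ⊓ centralizer ({E.T} : Set G)) := by
    rw [E.T_t.symm.eq]
    refine (Invol.TwoAn.card_conj_eq (R := E.J ⊓ centralizer ({E.T} : Set G))
      (S := E.J ⊓ centralizer ({E.T * E.t} : Set G)) E.u fun x => ⟨fun hx => ⟨E.conj_mem_J E.u_conj_P hx.1, ?_⟩,
      fun hx => ⟨?_, ?_⟩⟩).symm
    · have := commute_conj (g := E.u) (mem_cent_iff.1 hx.2)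
      rw [E.u_T] at this
      exact mem_cent_iff.2 this
    · have := E.conj_mem_J E.u_inv_conj_P hx.1
      rwa [show E.u⁻¹ * (E.u * x * E.u⁻¹) * E.u⁻¹⁻¹ = x by group] at this
    · refine mem_cent_iff.2 ((Commute.conj_iff E.u).1 ?_)
      rw [E.u_T]
      exact mem_cent_iff.1 hx.2
  rw [h3, hub, E.J_inf_t, E.card_P, Nat.card_zpowers, E.y_ord] at hfour
  obtain ⟨n, hnz, hnf, hnP, k, hk⟩ := E.exists_cent_P
  have hnJ : n ∈ E.J := E.J_spec.2.2.1 _ (E.mem_cP.2 ⟨hnz, hnf⟩)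
    ((Odd.pow (by decide : Odd 3)).of_dvd_nat (orderOf_dvd_of_pow_eq_one hk))
  have hgt : 9 < Nat.card E.J := by
    have hle := card_le_of_le E.P_le_J
    rw [E.card_P] at hle
    refine lt_of_le_of_ne hle fun e => hnP ?_
    rwa [eq_of_le_of_card_ge E.P_le_J (by rw [E.card_P, ← e])]
  have hb : Nat.card ↥(E.J ⊓ centralizer ({E.T} : Set G)) ∣ 3 ^ 2 := by
    have h := card_dvd_of_le E.J_inf_T_le
    rwa [E.card_P1] at h
  obtain ⟨i, hi, hie⟩ := (Nat.dvd_prime_pow Nat.prime_three).1 hb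
  rw [hie] at hfour
  interval_cases i <;> omega

theorem J_inf_T : E.J ⊓ centralizer ({E.T} : Set G) = E.P1 := by
  refine eq_of_le_of_card_ge E.J_inf_T_le ?_
  have h := Invol.SmallCent.card_four_fixed E.J E.J_spec.2.1 E.t_sq E.T_sq E.T_t.symm.eq
    (fun x hx => E.conj_mem_J E.t_conj_P hx) (fun x hx => E.conj_mem_J E.T_conj_P hx)
  have h3 : E.J ⊓ centralizer ({E.t} : Set G) ⊓ centralizer ({E.T} : Set G) = zpowers E.y := by
    rw [E.J_inf_t]
    exact le_antisymm (fun x hx => E.P_fixed_T hx.1 (mem_cent_iff.1 hx.2).symm)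
      (zpowers_le.2 ⟨E.y_mem_P, mem_cent_iff.2 E.T_y.symm⟩)
  rw [h3, E.J_inf_t, E.card_P, E.card_J, Nat.card_zpowers, E.y_ord] at h
  have hA := card_le_of_le E.J_inf_T_le
  have hB := card_le_of_le (show E.J ⊓ centralizer ({E.t * E.T} : Set G) ≤ E.P2 by
    rw [E.T_t.symm.eq]; exact E.J_inf_Tt_le)
  rw [E.card_P1] at hA ⊢
  rw [E.card_P2] at hB
  nlinarith

theorem J_inf_Tt : E.J ⊓ centralizer ({E.T * E.t} : Set G) = E.P2 := by
  refine eq_of_le_of_card_ge E.J_inf_Tt_le ?_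
  have h := Invol.SmallCent.card_four_fixed E.J E.J_spec.2.1 E.t_sq E.T_sq E.T_t.symm.eq
    (fun x hx => E.conj_mem_J E.t_conj_P hx) (fun x hx => E.conj_mem_J E.T_conj_P hx)
  have h3 : E.J ⊓ centralizer ({E.t} : Set G) ⊓ centralizer ({E.T} : Set G) = zpowers E.y := by
    rw [E.J_inf_t]
    exact le_antisymm (fun x hx => E.P_fixed_T hx.1 (mem_cent_iff.1 hx.2).symm)
      (zpowers_le.2 ⟨E.y_mem_P, mem_cent_iff.2 E.T_y.symm⟩)
  rw [h3, E.J_inf_t, E.J_inf_T, E.card_P, E.card_P1, E.card_J, Nat.card_zpowers, E.y_ord, E.T_t.symm.eq] at h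
  rw [E.card_P2]
  omega

theorem P1_le_J : E.P1 ≤ E.J := E.J_inf_T ▸ inf_le_left

theorem P2_le_J : E.P2 ≤ E.J := E.J_inf_Tt ▸ inf_le_left

theorem σ3_conj_P : ∀ p ∈ E.P, E.σ * (E.σ * (E.σ * p * E.σ⁻¹) * E.σ⁻¹) * E.σ⁻¹ ∈ E.P := by
  obtain ⟨k, hk⟩ := E.σ_three
  set s := E.σ * (E.σ * E.σ) with hs
  have hst : Commute s E.t := conj_eq_iff.1 (by rw [hs, conj_comp, conj_comp, E.σ_t, E.σ_T, E.σ_Tt])
  have hsy : Commute s E.y := E.σ_y.mul_left (E.σ_y.mul_left E.σ_y)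
  have hsP : s ∈ E.P := E.Cy_odd hst hsy (by
    refine (Odd.pow (by decide : Odd 3)).of_dvd_nat (orderOf_dvd_of_pow_eq_one (n := 3 ^ k) ?_)
    rw [hs, show E.σ * (E.σ * E.σ) = E.σ ^ 3 by rw [pow_succ, pow_two, mul_assoc], ← pow_mul, mul_comm, pow_mul,
      hk, one_pow])
  intro p hp
  rw [show E.σ * (E.σ * (E.σ * p * E.σ⁻¹) * E.σ⁻¹) * E.σ⁻¹ = s * p * s⁻¹ by rw [hs]; group]
  exact mul_mem (mul_mem hsP hp) (inv_mem hsP)

theorem mem_P1 {p : G} (hp : p ∈ E.P) : E.σ * p * E.σ⁻¹ ∈ E.P1 := ⟨p, hp, rfl⟩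

theorem mem_P2 {p : G} (hp : p ∈ E.P) : E.σ * (E.σ * p * E.σ⁻¹) * E.σ⁻¹ ∈ E.P2 :=
  ⟨p, hp, show E.σ * E.σ * p * (E.σ * E.σ)⁻¹ = _ by group⟩

theorem P_P1_P2_comm {x w : G} (hx : x ∈ E.P ∨ x ∈ E.P1 ∨ x ∈ E.P2) (hw : w ∈ E.P ∨ w ∈ E.P1 ∨ w ∈ E.P2) :
    Commute x w := by
  have key : ∀ {p v : G}, p ∈ E.P → v ∈ E.P ∨ v ∈ E.P1 ∨ v ∈ E.P2 → Commute p v := by
    intro p v hp hv
    refine (E.cP_comm (E.J_spec.1 ?_) hp).symm
    rcases hv with h | h | h
    · exact E.P_le_J h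
    · exact E.P1_le_J h
    · exact E.P2_le_J h
  rcases hx with h | ⟨p, hp, rfl⟩ | ⟨p, hp, rfl⟩
  · exact key h hw
  · rcases hw with h | ⟨q, hq, rfl⟩ | ⟨q, hq, rfl⟩
    · exact (key h (Or.inr (Or.inl ⟨p, hp, rfl⟩))).symm
    · exact commute_conj (E.P_comm hp hq)
    · refine commute_conj_iff.2 (key hp (Or.inr (Or.inl ⟨q, hq, ?_⟩)))
      show E.σ * q * E.σ⁻¹ = E.σ⁻¹ * (E.σ * E.σ * q * (E.σ * E.σ)⁻¹) * E.σ
      group
  · rcases hw with h | ⟨q, hq, rfl⟩ | ⟨q, hq, rfl⟩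
    · exact (key h (Or.inr (Or.inr ⟨p, hp, rfl⟩))).symm
    · refine (commute_conj_iff.2 (key hq (Or.inr (Or.inl ⟨p, hp, ?_⟩)))).symm
      show E.σ * p * E.σ⁻¹ = E.σ⁻¹ * (E.σ * E.σ * p * (E.σ * E.σ)⁻¹) * E.σ
      group
    · exact commute_conj (E.P_comm hp hq)

theorem P_inf_P1 : E.P ⊓ E.P1 = zpowers E.y := by
  rw [← E.J_inf_T]
  exact le_antisymm (fun x hx => E.P_fixed_T hx.1 (mem_cent_iff.1 hx.2.2).symm)
    (zpowers_le.2 ⟨E.y_mem_P, E.P_le_J E.y_mem_P, mem_cent_iff.2 E.T_y.symm⟩)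

/-- The three subgroups generate. -/
theorem J_eq_sup : E.J = E.P ⊔ E.P1 ⊔ E.P2 := by
  refine (eq_of_le_of_card_ge (sup_le (sup_le E.P_le_J E.P1_le_J) E.P2_le_J) ?_).symm
  have h27 : 27 ≤ Nat.card ↥(E.P ⊔ E.P1) := by
    have := Invol.TwoAn.card_mul_le (le_sup_left : E.P ≤ E.P ⊔ E.P1) (le_sup_right : E.P1 ≤ E.P ⊔ E.P1)
    rw [E.card_P, E.card_P1, E.P_inf_P1, Nat.card_zpowers, E.y_ord] at this
    omega
  have hinf : (E.P ⊔ E.P1) ⊓ E.P2 ≤ zpowers E.y := by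
    rintro w ⟨hw, hw2⟩
    have hcomm : E.P1 ≤ normalizer (E.P : Set G) := fun x hx => mem_normalizer_fintype fun q hq => by
      rw [conj_eq_iff.2 (E.P_P1_P2_comm (Or.inr (Or.inl hx)) (Or.inl hq))]
      exact hq
    have hw' : w ∈ (E.P : Set G) * (E.P1 : Set G) := by
      rw [← Subgroup.coe_mul_of_right_le_normalizer_left _ _ hcomm]
      exact hw
    obtain ⟨p, hp, q, hq, rfl⟩ := hw'
    have hq' : q ∈ E.J ⊓ centralizer ({E.T} : Set G) := by rw [E.J_inf_T]; exact hq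
    have hqT : E.T * q * E.T⁻¹ = q := conj_eq_iff.2 (mem_cent_iff.1 hq'.2).symm
    have hpt : E.t * p * E.t⁻¹ = p := conj_eq_iff.2 (E.P_t hp).symm
    rw [← E.J_inf_Tt] at hw2
    have hv : E.T * E.t * (p * q) * (E.T * E.t)⁻¹ = p * q := conj_eq_iff.2 (mem_cent_iff.1 hw2.2).symm
    have hTT : ∀ x : G, E.T * (E.T * x * E.T⁻¹) * E.T⁻¹ = x := fun x => by
      rw [← conj_comp, E.T_sq]; simp
    have e : p * (E.t * q * E.t⁻¹) = E.T * p * E.T⁻¹ * q := by
      rw [conj_comp, conj_mul' E.t p q, hpt] at hv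
      have := congrArg (fun x => E.T * x * E.T⁻¹) hv
      simp only [hTT] at this
      rw [conj_mul', hqT] at this
      exact this
    set r := p⁻¹ * (E.T * p * E.T⁻¹) with hr
    have hr' : r = E.t * q * E.t⁻¹ * q⁻¹ := by
      rw [hr]
      calc p⁻¹ * (E.T * p * E.T⁻¹) = p⁻¹ * (E.T * p * E.T⁻¹ * q) * q⁻¹ := by group
        _ = _ := by rw [← e]; group
    have hrP : r ∈ E.P := mul_mem (inv_mem hp) (E.T_conj_P p hp)
    have hrP1 : r ∈ E.P1 := by
      rw [hr']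
      refine mul_mem ?_ (inv_mem hq)
      rw [← E.J_inf_T] at hq ⊢
      refine ⟨E.conj_mem_J E.t_conj_P hq.1, mem_cent_iff.2 ?_⟩
      have := commute_conj (g := E.t) (mem_cent_iff.1 hq.2)
      rwa [conj_eq_iff.2 E.T_t.symm] at this
    have hry : r ∈ zpowers E.y := E.P_inf_P1 ▸ ⟨hrP, hrP1⟩
    have hrT : E.T * r * E.T⁻¹ = r := by
      obtain ⟨i, hi⟩ := hry
      rw [← show E.y ^ i = r from hi, conj_eq_iff.2 (E.T_y.zpow_right i)]
    have hr1 : r * r = 1 := by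
      calc r * r = r * (E.T * r * E.T⁻¹) := by rw [hrT]
        _ = p⁻¹ * (E.T * p * E.T⁻¹) * ((E.T * p * E.T⁻¹)⁻¹ * (E.T * (E.T * p * E.T⁻¹) * E.T⁻¹)) := by
          rw [hr]; group
        _ = _ := by rw [hTT]; group
    have hr2 : r = 1 := by
      calc r = r ^ 3 * (r * r)⁻¹ := by rw [pow_succ, pow_two]; group
        _ = 1 := by rw [E.P_cube hrP, hr1, inv_one, one_mul]
    have hpy : p ∈ zpowers E.y := E.P_fixed_T hp (conj_eq_iff.1 (by
      calc E.T * p * E.T⁻¹ = p * r := by rw [hr]; group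
        _ = p := by rw [hr2, mul_one]))
    have hqy : q ∈ zpowers E.y := by
      rw [← E.P_inf_P1]
      refine ⟨?_, hq⟩
      rw [← E.J_inf_t]
      refine ⟨hq'.1, mem_cent_iff.2 (conj_eq_iff.1 ?_).symm⟩
      calc E.t * q * E.t⁻¹ = r * q := by rw [hr']; group
        _ = q := by rw [hr2, one_mul]
    exact mul_mem hpy hqy
  have h3 := card_le_of_le hinf
  rw [Nat.card_zpowers, E.y_ord] at h3
  have := Invol.TwoAn.card_mul_le (le_sup_left : E.P ⊔ E.P1 ≤ E.P ⊔ E.P1 ⊔ E.P2)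
    (le_sup_right : E.P2 ≤ E.P ⊔ E.P1 ⊔ E.P2)
  rw [E.card_P2] at this
  rw [E.card_J]
  nlinarith

theorem J_comm {x w : G} (hx : x ∈ E.J) (hw : w ∈ E.J) : Commute x w := by
  set s : Set G := (E.P : Set G) ∪ (E.P1 : Set G) ∪ (E.P2 : Set G)
  have hJ : E.J = closure s := by
    rw [E.J_eq_sup, Subgroup.closure_union, Subgroup.closure_union, closure_eq, closure_eq, closure_eq]
  have hs : ∀ a ∈ s, ∀ b ∈ s, Commute a b := by
    intro a ha b hb
    refine E.P_P1_P2_comm ?_ ?_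
    · rcases ha with (h | h) | h
      exacts [Or.inl h, Or.inr (Or.inl h), Or.inr (Or.inr h)]
    · rcases hb with (h | h) | h
      exacts [Or.inl h, Or.inr (Or.inl h), Or.inr (Or.inr h)]
  rw [hJ] at hx hw
  exact mem_cent_iff.1 (closure_le (centralizer ({w} : Set G)) |>.2 (fun a ha => mem_cent_iff.2
    ((mem_cent_iff.1 (closure_le (centralizer ({a} : Set G)) |>.2 (fun b hb => mem_cent_iff.2 (hs b hb a ha)) hw)).symm)) hx)

theorem J_cube {x : G} (hx : x ∈ E.J) : x ^ 3 = 1 := by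
  set K0 : Subgroup G :=
    { carrier := {a | a ∈ E.J ∧ a ^ 3 = 1}
      one_mem' := ⟨one_mem _, one_pow 3⟩
      mul_mem' := fun {a b} ha hb => ⟨mul_mem ha.1 hb.1, by rw [(E.J_comm ha.1 hb.1).mul_pow, ha.2, hb.2, one_mul]⟩
      inv_mem' := fun {a} ha => ⟨inv_mem ha.1, by rw [inv_pow, ha.2, inv_one]⟩ }
  have h : E.J ≤ K0 := by
    conv_lhs => rw [E.J_eq_sup]
    refine sup_le (sup_le (fun a ha => ⟨E.P_le_J ha, E.P_cube ha⟩) ?_) ?_
    · rintro _ ⟨p, hp, rfl⟩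
      exact ⟨E.P1_le_J ⟨p, hp, rfl⟩, by rw [← map_pow, E.P_cube hp, map_one]⟩
    · rintro _ ⟨p, hp, rfl⟩
      exact ⟨E.P2_le_J ⟨p, hp, rfl⟩, by rw [← map_pow, E.P_cube hp, map_one]⟩
  exact (h hx).2

theorem σ_conj_J {x : G} (hx : x ∈ E.J) : E.σ * x * E.σ⁻¹ ∈ E.J := by
  have h : E.J.map (MulAut.conj E.σ).toMonoidHom ≤ E.J := by
    conv_lhs => rw [E.J_eq_sup, Subgroup.map_sup, Subgroup.map_sup]
    refine sup_le (sup_le ?_ ?_) ?_
    · exact E.P1_le_J
    · rintro _ ⟨_, ⟨p, hp, rfl⟩, rfl⟩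
      exact E.P2_le_J (E.mem_P2 hp)
    · rintro _ ⟨_, ⟨p, hp, rfl⟩, rfl⟩
      refine E.P_le_J ?_
      rw [show (MulAut.conj E.σ).toMonoidHom ((MulAut.conj (E.σ * E.σ)).toMonoidHom p) =
        E.σ * (E.σ * (E.σ * p * E.σ⁻¹) * E.σ⁻¹) * E.σ⁻¹ by simp [mul_assoc]]
      exact E.σ3_conj_P p hp
  exact h ⟨x, hx, rfl⟩

theorem J_le_cP : E.J ≤ E.cP := E.J_spec.1

theorem cP_cases {x : G} (hx : x ∈ E.cP) : x ∈ E.J ∨ x * E.t ∈ E.J := E.J_spec.2.2.2 x hx

/-- The group of order `81` is its own centralizer. -/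
theorem J_self_cent {g : G} (hg : ∀ a ∈ E.J, Commute g a) : g ∈ E.J := by
  rcases E.cP_cases (E.mem_cP.2 ⟨hg _ (E.P_le_J E.z_mem_P), hg _ (E.P_le_J E.f_mem_P)⟩) with h | h
  · exact h
  exfalso
  -- `t` would centralize the first image
  have hle : E.P1 ≤ E.P := fun q hq => by
    rw [← E.J_inf_t]
    refine ⟨E.P1_le_J hq, mem_cent_iff.2 ?_⟩
    have h1 : Commute q (g⁻¹ * (g * E.t)) :=
      ((hg q (E.P1_le_J hq)).symm.inv_right).mul_right (E.J_comm (E.P1_le_J hq) h)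
    rwa [inv_mul_cancel_left] at h1
  have h2 := card_le_of_le (show E.P1 ≤ zpowers E.y by rw [← E.P_inf_P1]; exact le_inf hle le_rfl)
  rw [E.card_P1, Nat.card_zpowers, E.y_ord] at h2
  omega

end Setup

end Cfsg.Agent.Spor.McLCent
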