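import Cfsg.Agent.Lib.Spor.McLCent.Basic

/-!
The group of order nine, the common centralizer of the two involutions, and 2-subgroups of the centralizers of the
elements of order three.
-/

set_option autoImplicit false
set_option linter.unusedSectionVars false

namespace Cfsg.Agent.Spor.McLCent

open Equiv Equiv.Perm Subgroup
open Cfsg.Agent.Invol.TwoAn (Cfg IsQuad)

universe u

variable {G : Type u} [Group G] [Finite G]

theorem pow_mod_three {g : G} (hg : g ^ 3 = 1) (m : ℕ) : g ^ m = g ^ (m % 3) :=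
  pow_eq_pow_mod m hg

/-- A nontrivial 2-subgroup has a central involution. -/
theorem exists_central_invol {S : Subgroup G} (hS : IsPGroup 2 S) (hne : S ≠ ⊥) :
    ∃ c ∈ S, c * c = 1 ∧ c ≠ 1 ∧ ∀ x ∈ S, Commute c x := by
  haveI : Fact (Nat.Prime 2) := ⟨Nat.prime_two⟩
  haveI : Nontrivial S := (nontrivial_iff_ne_bot S).2 hne
  haveI := hS.center_nontrivial
  obtain ⟨k, hk⟩ := IsPGroup.iff_card.1 (hS.to_subgroup (center S))
  have h1 := Finite.one_lt_card (α := center S)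
  have h2 : 2 ∣ Nat.card (center S) := by
    rw [hk] at h1 ⊢
    exact dvd_pow_self 2 (fun h => by rw [h] at h1; simp at h1)
  obtain ⟨⟨c, hc⟩, hc2⟩ := exists_prime_orderOf_dvd_card' 2 h2
  rw [Subgroup.orderOf_mk] at hc2
  rw [← Subgroup.orderOf_coe] at hc2
  refine ⟨c, c.2, by rw [← pow_two, ← hc2, pow_orderOf_eq_one], fun e => ?_, fun x hx => ?_⟩
  · rw [e, orderOf_one] at hc2; omega
  · exact (congrArg Subtype.val (mem_center_iff.1 hc ⟨x, hx⟩)).symm

/-- A property of the 2-subgroups containing `S₀` passes to all 2-subgroups inside `X`, up to conjugation. -/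
theorem exists_conj_le_two {X S : Subgroup G} (hS : IsPGroup 2 S) (hSX : S ≤ X) {R : Subgroup G}
    (hR : IsPGroup 2 R) (hRX : R ≤ X) :
    ∃ g ∈ X, ∃ S' : Subgroup G, IsPGroup 2 S' ∧ S' ≤ X ∧ R ≤ S' ∧ ∀ x ∈ S, g * x * g⁻¹ ∈ S' := by
  haveI : Fact (Nat.Prime 2) := ⟨Nat.prime_two⟩
  obtain ⟨A, hA⟩ := (hS.comap_of_injective X.subtype X.subtype_injective).exists_le_sylow
  obtain ⟨B, hB⟩ := (hR.comap_of_injective X.subtype X.subtype_injective).exists_le_sylow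
  obtain ⟨g, hg⟩ := MulAction.exists_smul_eq X A B
  refine ⟨g, g.2, (B : Subgroup X).map X.subtype, B.isPGroup'.map _, map_subtype_le _,
    fun x hx => ⟨⟨x, hRX hx⟩, hB hx, rfl⟩, fun x hx => ⟨g * ⟨x, hSX hx⟩ * g⁻¹, ?_, rfl⟩⟩
  rw [← hg]
  exact Subgroup.smul_mem_pointwise_smul _ (MulAut.conj g) _ (hA hx)

theorem isPGroup_zpowers {x : G} (hx : x * x = 1) : IsPGroup 2 (zpowers x) := fun w => ⟨1, by
  obtain ⟨i, hi⟩ := w.2
  refine Subtype.ext ?_
  show (w : G) ^ 2 ^ 1 = 1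
  rw [← show x ^ i = (w : G) from hi, pow_one, ← zpow_natCast, ← zpow_mul, mul_comm, zpow_mul, zpow_natCast,
    pow_two, hx, one_zpow]⟩

namespace Setup

variable (E : Setup G)

/-- The group generated by the two commuting elements of order three. -/
def P : Subgroup G where
  carrier := {x | ∃ a b : ℕ, x = E.z ^ a * E.f ^ b}
  one_mem' := ⟨0, 0, by simp⟩
  mul_mem' := by
    rintro _ _ ⟨a, b, rfl⟩ ⟨c, d, rfl⟩
    exact ⟨a + c, b + d, by rw [Commute.mul_mul_mul_comm ((E.z_f.symm.pow_pow b c)), ← pow_add, ← pow_add]⟩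
  inv_mem' := by
    rintro _ ⟨a, b, rfl⟩
    refine ⟨2 * a, 2 * b, inv_eq_of_mul_eq_one_right ?_⟩
    rw [Commute.mul_mul_mul_comm (E.z_f.symm.pow_pow b (2 * a)), ← pow_add, ← pow_add,
      show a + 2 * a = 3 * a by ring, show b + 2 * b = 3 * b by ring, pow_mul, pow_mul, E.z_cube, E.f_cube,
      one_pow, one_pow, one_mul]

theorem mem_P {x : G} : x ∈ E.P ↔ ∃ a b : Fin 3, x = E.z ^ (a : ℕ) * E.f ^ (b : ℕ) := by
  refine ⟨fun ⟨a, b, e⟩ => ⟨⟨a % 3, Nat.mod_lt _ (by norm_num)⟩, ⟨b % 3, Nat.mod_lt _ (by norm_num)⟩, ?_⟩,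
    fun ⟨a, b, e⟩ => ⟨a, b, e⟩⟩
  rw [e, pow_mod_three E.z_cube a, pow_mod_three E.f_cube b]

theorem z_mem_P : E.z ∈ E.P := ⟨1, 0, by simp⟩
theorem f_mem_P : E.f ∈ E.P := ⟨0, 1, by simp⟩
theorem y_mem_P : E.y ∈ E.P := mul_mem E.z_mem_P E.f_mem_P
theorem y'_mem_P : E.y' ∈ E.P := mul_mem E.z_mem_P (inv_mem E.f_mem_P)

theorem img_P (a b : ℕ) : E.D.Img (E.z ^ a * E.f ^ b) (pA ^ a * pB ^ b) := (E.img_z.pow a).mul (E.img_f.pow b)

theorem P_injective {a b a' b' : Fin 3}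
    (h : E.z ^ (a : ℕ) * E.f ^ (b : ℕ) = E.z ^ (a' : ℕ) * E.f ^ (b' : ℕ)) : a = a' ∧ b = b' := by
  have e := (E.img_P a b).unique (h ▸ E.img_P a' b')
  exact (by decide +kernel : ∀ a b a' b' : Fin 3, pA ^ (a : ℕ) * pB ^ (b : ℕ) = pA ^ (a' : ℕ) * pB ^ (b' : ℕ) →
    a = a' ∧ b = b') _ _ _ _ e

/-- The elements of the group of order nine. -/
noncomputable def equivP : Fin 3 × Fin 3 ≃ E.P :=
  Equiv.ofBijective (fun p => ⟨E.z ^ (p.1 : ℕ) * E.f ^ (p.2 : ℕ), ⟨p.1, p.2, rfl⟩⟩)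
    ⟨fun p q h => Prod.ext_iff.2 (E.P_injective (congrArg Subtype.val h)),
     fun x => by
      obtain ⟨a, b, e⟩ := E.mem_P.1 x.2
      exact ⟨(a, b), Subtype.ext e.symm⟩⟩

theorem equivP_apply (p : Fin 3 × Fin 3) : ((E.equivP p : E.P) : G) = E.z ^ (p.1 : ℕ) * E.f ^ (p.2 : ℕ) := rfl

theorem card_P : Nat.card E.P = 9 := by
  rw [← Nat.card_congr E.equivP, Nat.card_prod, Nat.card_fin]

theorem P_comm {x w : G} (hx : x ∈ E.P) (hw : w ∈ E.P) : Commute x w := by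
  obtain ⟨a, b, rfl⟩ := hx
  obtain ⟨c, d, rfl⟩ := hw
  exact ((Commute.pow_pow (Commute.refl E.z) a c).mul_right (E.z_f.pow_pow a d)).mul_left
    ((E.z_f.symm.pow_pow b c).mul_right (Commute.pow_pow (Commute.refl E.f) b d))

theorem P_cube {x : G} (hx : x ∈ E.P) : x ^ 3 = 1 := by
  obtain ⟨a, b, rfl⟩ := hx
  rw [(E.z_f.pow_pow a b).mul_pow, ← pow_mul, mul_comm a, pow_mul, E.z_cube, one_pow, ← pow_mul, mul_comm b,
    pow_mul, E.f_cube, one_pow, one_mul]

theorem P_t {x : G} (hx : x ∈ E.P) : Commute x E.t := by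
  obtain ⟨a, b, rfl⟩ := hx
  exact (E.z_t.pow_left a).mul_left (E.f_t.pow_left b)

theorem y_ne : E.y ≠ 1 := fun h => by
  have := E.P_injective (a := 1) (b := 1) (a' := 0) (b' := 0) (by simpa [y] using h)
  exact absurd this.1 (by decide)

theorem y_ord : orderOf E.y = 3 := orderOf_eq_prime E.y_cube E.y_ne

theorem z_ne : E.z ≠ 1 := fun h => by
  have := E.P_injective (a := 1) (b := 0) (a' := 0) (b' := 0) (by simpa using h)
  exact absurd this.1 (by decide)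

theorem z_ord : orderOf E.z = 3 := orderOf_eq_prime E.z_cube E.z_ne

/-- The fixed points of `T` in the group of order nine. -/
theorem P_fixed_T {x : G} (hx : x ∈ E.P) (hT : Commute E.T x) : x ∈ zpowers E.y := by
  obtain ⟨a, b, rfl⟩ := E.mem_P.1 hx
  have hab : a = b := by
    refine ab_fixed a b ?_
    refine (E.img_T.conj (E.img_P a b)).unique ?_
    rw [conj_eq_iff.2 hT]
    exact E.img_P a b
  rw [hab, ← E.z_f.mul_pow]
  exact pow_mem (mem_zpowers _) _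

/-- The elements of `C` commuting with `y`. -/
theorem Cy_form {g : G} (ht : Commute g E.t) (hy : Commute g E.y) :
    ∃ p ∈ E.P, ∃ e c : Fin 2, g = p * E.T ^ (e : ℕ) * E.t ^ (c : ℕ) := by
  classical
  obtain ⟨σ, hσ⟩ := E.exists_img ht
  have hσm : σ ∈ evenCent (pA * pB) := ⟨mem_alternatingGroup.2 hσ.sign_eq, mem_centralizer_singleton_iff.2
    ((hσ.mul E.img_y).unique (hy.eq ▸ E.img_y.mul hσ))⟩
  have hbij : Function.Bijective (fun q : Fin 3 × Fin 3 × Fin 2 => (⟨yCent q.1 q.2.1 q.2.2,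
      mem_alternatingGroup.2 (yCent_facts.1 _ _ _).1,
      mem_centralizer_singleton_iff.2 (yCent_facts.1 _ _ _).2⟩ : evenCent (pA * pB))) := by
    refine (Nat.bijective_iff_injective_and_card _).2 ⟨fun q q' h => ?_, ?_⟩
    · obtain ⟨h1, h2, h3⟩ := yCent_facts.2 _ _ _ _ _ _ (congrArg Subtype.val h)
      exact Prod.ext h1 (Prod.ext h2 h3)
    · rw [card_evenCent_AB, Nat.card_prod, Nat.card_prod, Nat.card_fin, Nat.card_fin]
  obtain ⟨⟨a, b, e⟩, hq⟩ := hbij.surjective ⟨σ, hσm⟩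
  have hq' : yCent a b e = σ := congrArg Subtype.val hq
  refine ⟨E.z ^ (a : ℕ) * E.f ^ (b : ℕ), ⟨a, b, rfl⟩, e, ?_⟩
  have himg : E.D.Img (E.z ^ (a : ℕ) * E.f ^ (b : ℕ) * E.T ^ (e : ℕ)) σ := by
    rw [← hq']
    exact (E.img_P a b).mul (E.img_T.pow e)
  rcases himg.lift_eq hσ with h | h
  · exact ⟨0, by simpa using h⟩
  · exact ⟨1, by simpa [t] using h⟩

/-- The elements of odd order commuting with `y` and `t`. -/
theorem Cy_odd {g : G} (ht : Commute g E.t) (hy : Commute g E.y) (ho : Odd (orderOf g)) : g ∈ E.P := by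
  have h9 : g ^ 9 = 1 := by
    have hd : orderOf g ∣ 36 := by
      rw [← E.card_Cy]
      exact Subgroup.orderOf_dvd_natCard _ ⟨E.mem_C.2 ht, mem_cent_iff.2 hy⟩
    refine orderOf_dvd_iff_pow_eq_one.1 ?_
    rw [show 36 = 9 * 4 by norm_num] at hd
    exact ((Nat.Coprime.pow_right 2 (Nat.coprime_two_right.2 ho)) : (orderOf g).Coprime 4).dvd_of_dvd_mul_right hd
  obtain ⟨p, hp, e, c, rfl⟩ := E.Cy_form ht hy
  obtain ⟨a, b, rfl⟩ := E.mem_P.1 hp
  have himg := (((E.img_P a b).mul (E.img_T.pow e)).mul (E.img_t.pow c)).pow 9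
  rw [h9, one_pow, mul_one] at himg
  have he : e = 0 := (by decide +kernel : ∀ a b : Fin 3, ∀ e : Fin 2,
    (1 : Perm (Fin 8)) = (pA ^ (a : ℕ) * pB ^ (b : ℕ) * pT ^ (e : ℕ)) ^ 9 → e = 0) a b e
      (Cfg.Img.one.unique himg)
  subst he
  simp only [Fin.val_zero, pow_zero, mul_one] at h9 ⊢
  fin_cases c
  · simpa using hp
  · exfalso
    simp only [pow_one] at h9
    rw [(E.P_t hp).mul_pow, show (9 : ℕ) = 3 * 3 by norm_num, pow_mul, E.P_cube hp, one_pow, one_mul,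
      ← show (9 : ℕ) = 3 * 3 by norm_num, t, Cfg.pow_z (by decide)] at h9
    exact E.t_ne h9

/-- The four group. -/
theorem Cy_T {g : G} (ht : Commute g E.t) (hy : Commute g E.y) (hT : Commute g E.T) (h2 : g * g = 1) :
    g = 1 ∨ g = E.t ∨ g = E.T ∨ g = E.T * E.t := by
  obtain ⟨p, hp, e, c, rfl⟩ := E.Cy_form ht hy
  have cTe : Commute (E.T ^ (e : ℕ)) E.T := Commute.pow_self E.T _
  have ctc : Commute (E.t ^ (c : ℕ)) E.T := E.T_t.symm.pow_left _
  have hpT : Commute p E.T := by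
    have := ((hT.mul_left (ctc.inv_left)).mul_left (cTe.inv_left))
    simpa [mul_assoc] using this
  have hv : (E.T ^ (e : ℕ) * E.t ^ (c : ℕ)) * (E.T ^ (e : ℕ) * E.t ^ (c : ℕ)) = 1 := by
    rw [Commute.mul_mul_mul_comm (E.T_t.symm.pow_pow _ _), ← (Commute.refl E.T).mul_pow, ← (Commute.refl E.t).mul_pow, E.T_sq, E.t_sq, one_pow,
      one_pow, one_mul]
  have hp2 : p * p = 1 := by
    have hc : Commute (E.T ^ (e : ℕ) * E.t ^ (c : ℕ)) p :=
      ((hpT.pow_right _).mul_right ((E.P_t hp).pow_right _)).symm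
    rw [mul_assoc p, hc.mul_mul_mul_comm, hv, mul_one] at h2
    exact h2
  have hp1 : p = 1 := by
    calc p = p ^ 3 * (p * p)⁻¹ := by rw [pow_succ, pow_two]; group
      _ = 1 := by rw [E.P_cube hp, hp2, inv_one, one_mul]
  subst hp1
  fin_cases e <;> fin_cases c <;> simp

/-- The only involution of `C` commuting with `z` is `t`. -/
theorem Cz_invol {g : G} (ht : Commute g E.t) (hz : Commute g E.z) (h2 : g * g = 1) (h1 : g ≠ 1) : g = E.t := by
  by_contra hne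
  obtain ⟨σ, hσ⟩ := E.exists_img ht
  obtain ⟨hσ2, m, hm, hmc⟩ := Cfg.exists_support hσ h2 h1 hne
  refine no_full_commuting hσ2 ((hσ.mul E.img_z).unique (hz.eq ▸ E.img_z.mul hσ)) ?_
  have := Finset.card_le_univ σ.support
  rw [Fintype.card_fin] at this
  omega

/-- The centralizer of `z` has no four group. -/
theorem z_no_four {a b : G} (haz : Commute a E.z) (hbz : Commute b E.z) (ha : a * a = 1) (hb : b * b = 1)
    (ha1 : a ≠ 1) (hb1 : b ≠ 1) (hab : Commute a b) : a = b := by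
  classical
  set X := centralizer ({E.z} : Set G)
  have hR : IsPGroup 2 (zpowers a ⊔ zpowers b : Subgroup G) := by
    refine IsPGroup.to_sup_of_normal_right' (isPGroup_zpowers ha) (isPGroup_zpowers hb) ?_
    intro x hx
    refine mem_normalizer_fintype fun w hw => ?_
    obtain ⟨i, rfl⟩ := hx
    obtain ⟨k, rfl⟩ := hw
    rw [(hab.zpow_zpow i k).eq, mul_inv_cancel_right]
    exact ⟨k, rfl⟩
  obtain ⟨g, hg, S, hS, hSX, htS, hgS⟩ := exists_conj_le_two hR
    (sup_le (zpowers_le.2 (mem_cent_iff.2 haz)) (zpowers_le.2 (mem_cent_iff.2 hbz))) (R := zpowers E.t)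
    (isPGroup_zpowers E.t_sq) (zpowers_le.2 (mem_cent_iff.2 E.z_t.symm))
  obtain ⟨c, hcS, hc2, hc1, hcc⟩ := exists_central_invol hS (fun e => E.t_ne (by
    have := htS (mem_zpowers E.t)
    rwa [e, mem_bot] at this))
  obtain rfl := E.Cz_invol (hcc _ (htS (mem_zpowers _))) (mem_cent_iff.1 (hSX hcS)) hc2 hc1
  have key : ∀ x ∈ (zpowers a ⊔ zpowers b : Subgroup G), x * x = 1 → x ≠ 1 → g * x * g⁻¹ = E.t := by
    intro x hx hx2 hx1
    refine E.Cz_invol (hcc _ (hgS x hx)).symm (mem_cent_iff.1 (hSX (hgS x hx))) ?_ (mt conj_eq_one_iff.1 hx1)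
    rw [show g * x * g⁻¹ * (g * x * g⁻¹) = g * (x * x) * g⁻¹ by group, hx2, mul_one, mul_inv_cancel]
  exact mul_left_cancel (mul_right_cancel ((key a (mem_sup_left (mem_zpowers a)) ha ha1).trans
    (key b (mem_sup_right (mem_zpowers b)) hb hb1).symm))

/-- Elements commuting with `y'` or with `y` are not conjugate to `z`. -/
theorem y_not_conj_z (g : G) : g * E.y * g⁻¹ ≠ E.z := by
  intro h
  have hc : ∀ v, Commute v E.y → Commute (g * v * g⁻¹) E.z := fun v hv => h ▸ (Commute.conj_iff g).2 hv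
  have hsq : ∀ v : G, v * v = 1 → g * v * g⁻¹ * (g * v * g⁻¹) = 1 := fun v hv => by
    rw [show g * v * g⁻¹ * (g * v * g⁻¹) = g * (v * v) * g⁻¹ by group, hv, mul_one, mul_inv_cancel]
  have := E.z_no_four (hc _ E.y_t.symm) (hc _ E.T_y) (hsq _ E.t_sq) (hsq _ E.T_sq)
    (mt conj_eq_one_iff.1 E.t_ne) (mt conj_eq_one_iff.1 E.T_ne_one) ((Commute.conj_iff g).2 E.T_t.symm)
  exact E.T_ne_t (mul_left_cancel (mul_right_cancel this)).symm

theorem y'_not_conj_z (g : G) : g * E.y' * g⁻¹ ≠ E.z := by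
  intro h
  refine E.y_not_conj_z (g * E.j) ?_
  rw [show g * E.j * E.y * (g * E.j)⁻¹ = g * (E.j * E.y * E.j⁻¹) * g⁻¹ by group, E.j_y, h]

end Setup

end Cfsg.Agent.Spor.McLCent
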