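import Cfsg.Agent.Lib.Spor.McLCent.NormJ
import Cfsg.Agent.Lib.Invol.SimpleOrder360
import Cfsg.Agent.Lib.Spor.McLThree.NAut

/-!
An involution with centralizer a nonsplit double cover of the alternating group of degree eight, not isolated: the
three-local data of the McLaughlin group hold, and the automorphism group does not occur.
-/

set_option autoImplicit false
set_option linter.unusedSectionVars false

namespace Cfsg.Agent.Spor.McLCent

open Equiv Equiv.Perm Subgroup
open Cfsg.Agent.Invol.TwoAn (Cfg)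
open Cfsg.Agent.Spor.McLThree (Hyp three_mem_of_index_two card_mulAut_mcl)

universe u

variable {G : Type u} [Group G] [Finite G]

namespace Setup

variable (E : Setup G)

include E in
theorem exists_phi : ∃ φ : E.M0 →* alternatingGroup (Fin 6), Function.Surjective φ ∧
    ∀ g : E.M0, φ g = 1 ↔ (g : G) ∈ E.J := by
  set J' : Subgroup E.M0 := E.J.subgroupOf E.M0
  haveI : J'.Normal := ⟨fun a ha g => mem_subgroupOf.2
    ((mem_normalizer_iff.1 (E.M0_le g.2) (a : G)).1 (mem_subgroupOf.1 ha))⟩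
  have hcard : Nat.card (E.M0 ⧸ J') = 360 := by
    have h := Subgroup.card_eq_card_quotient_mul_card_subgroup J'
    rw [Nat.card_congr (subgroupOfEquivOfLe E.J_le_M0).toEquiv, E.card_J, E.card_M0] at h
    omega
  haveI : Nontrivial (E.M0 ⧸ J') := Finite.one_lt_card_iff_nontrivial.1 (by rw [hcard]; norm_num)
  haveI hs : IsSimpleGroup (E.M0 ⧸ J') := by
    refine ⟨fun R hR => ?_⟩
    haveI := hR
    set R' : Subgroup E.M0 := R.comap (QuotientGroup.mk' J') with hR'
    haveI : R'.Normal := hR.comap _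
    have hJR : E.J ≤ R'.map E.M0.subtype := fun x hx => by
      refine ⟨⟨x, E.J_le_M0 hx⟩, ?_, rfl⟩
      show QuotientGroup.mk' J' ⟨x, E.J_le_M0 hx⟩ ∈ R
      rw [show QuotientGroup.mk' J' ⟨x, E.J_le_M0 hx⟩ = 1 from
        (QuotientGroup.eq_one_iff _).2 (mem_subgroupOf.2 hx)]
      exact R.one_mem
    have hn : ∀ g ∈ E.M0, ∀ x ∈ R'.map E.M0.subtype, g * x * g⁻¹ ∈ R'.map E.M0.subtype := by
      rintro g hg _ ⟨x, hx, rfl⟩
      exact ⟨⟨g, hg⟩ * x * ⟨g, hg⟩⁻¹, Subgroup.Normal.conj_mem inferInstance x hx _, rfl⟩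
    rcases E.normal_cases hJR (map_subtype_le _) hn with e | e
    · left
      refine (eq_bot_iff_forall _).2 fun q hq => ?_
      obtain ⟨x, rfl⟩ := QuotientGroup.mk'_surjective J' q
      refine (QuotientGroup.eq_one_iff x).2 (mem_subgroupOf.2 ?_)
      rw [← e]
      exact ⟨x, hq, rfl⟩
    · right
      refine eq_top_iff.2 fun q _ => ?_
      obtain ⟨x, rfl⟩ := QuotientGroup.mk'_surjective J' q
      obtain ⟨y, hy, hyx⟩ : (x : G) ∈ R'.map E.M0.subtype := e.symm ▸ x.2
      rw [← (Subtype.ext hyx : y = x)]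
      exact hy
  haveI : IsSimpleGroup (alternatingGroup (Fin 6)) := alternatingGroup.isSimpleGroup (by simp)
  obtain ⟨e⟩ := Invol.O360.iso (G := E.M0 ⧸ J') (H := alternatingGroup (Fin 6)) hcard
    (by rw [nat_card_alternatingGroup, Nat.card_eq_fintype_card, Fintype.card_fin]; rfl)
  refine ⟨e.toMonoidHom.comp (QuotientGroup.mk' J'), fun q => ?_, fun g => ?_⟩
  · obtain ⟨x, hx⟩ := QuotientGroup.mk'_surjective J' (e.symm q)
    exact ⟨x, by rw [MonoidHom.comp_apply, hx]; exact e.apply_symm_apply q⟩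
  · rw [MonoidHom.comp_apply, MulEquiv.coe_toMonoidHom, MulEquiv.map_eq_one_iff]
    exact (QuotientGroup.eq_one_iff g).trans mem_subgroupOf

/-- The subgroup generated by the elements of three-power order centralizing `z`. -/
noncomputable def L0 : Subgroup G := Subgroup.closure {g : G | g * E.z = E.z * g ∧ ∃ k : ℕ, g ^ 3 ^ k = 1}

theorem L0_conj {g x : G} (hg : Commute g E.z) (hx : x ∈ E.L0) : g * x * g⁻¹ ∈ E.L0 := by
  have h : E.L0.map (MulAut.conj g).toMonoidHom ≤ E.L0 := by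
    rw [L0, MonoidHom.map_closure, closure_le]
    rintro _ ⟨w, ⟨hw, k, hk⟩, rfl⟩
    refine subset_closure ⟨?_, k, ?_⟩
    · exact ((hg.mul_left (show Commute w E.z from hw)).mul_left hg.inv_left).eq
    · show (g * w * g⁻¹) ^ 3 ^ k = 1
      rw [conj_pow, hk, mul_one, mul_inv_cancel]
  exact h ⟨x, hx, rfl⟩

theorem L0_eq : E.L0 = E.Zc := by
  refine le_antisymm ((closure_le _).2 fun g hg => mem_cent_iff.2 hg.1) fun g hg => ?_
  have hf : E.f ∈ E.L0 := subset_closure ⟨E.z_f.symm.eq, 1, by rw [pow_one]; exact E.f_cube⟩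
  have hN : E.L0 ⊓ E.L = E.L := E.L_normal inf_le_right (fun l hl x hx =>
    ⟨E.L0_conj (E.L_z hl) hx.1, E.L.mul_mem (E.L.mul_mem hl hx.2) (E.L.inv_mem hl)⟩)
    (x := E.f) ⟨hf, E.f_L⟩ (fun h => E.f_not_K (h ▸ E.K.one_mem))
    (fun h => by
      have h3 := E.f_cube
      rw [h, pow_succ, pow_two, E.t_sq, one_mul] at h3
      exact E.t_ne h3)
  obtain ⟨k, hk, l, hl, rfl⟩ := E.Zc_form (mem_cent_iff.1 hg)
  obtain ⟨m, hm⟩ := E.K_three ⟨k, hk⟩
  exact mul_mem (subset_closure ⟨(E.K_z hk).eq, m, congrArg Subtype.val hm⟩) (hN.ge hl).1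

include E in
theorem exists_hyp : Nonempty (Hyp G) := by
  obtain ⟨φ, hφs, hφ⟩ := E.exists_phi
  refine ⟨{
    z := E.z, Q := E.K, J := E.J, S := E.S, L := E.L0, M := E.M0
    ψ := E.ψ.comp (Subgroup.inclusion E.L0_eq.le)
    φ := φ
    z_order := E.z_ord
    z_Q := E.z_K
    Q_card := E.card_K
    Q_cube := fun _ ha => E.K_cube ha
    z_cen := fun _ ha => (E.K_z ha).eq.symm
    Q_comm := E.K_commutator
    Q_cen := fun _ ha hc => E.K_center ha hc
    cent_Q := fun _ hg => E.K_self_cent hg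
    norm_Q := fun _ hg _ hq => E.K_conj hg hq
    L_def := rfl
    ψ_surj := fun y => ?_
    ψ_ker := fun g => E.ψ_ker _
    S_card := E.card_S
    S_cz := fun _ hs => (mem_cent_iff.1 (E.S_le_Zc hs)).eq
    S_max := E.S_max
    J_le_S := E.J_le_S
    J_card := E.card_J
    J_cube := fun _ ha => E.J_cube ha
    J_comm := fun _ ha _ hb => (E.J_comm ha hb).eq
    M_def := rfl
    φ_surj := hφs
    φ_ker := hφ }⟩
  obtain ⟨x, hx⟩ := E.ψ_surj y
  exact ⟨⟨x, E.L0_eq.ge x.2⟩, hx⟩

/-- Every noncentral involution of the centralizer is conjugate to `T` there. -/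
theorem exists_conj_T {s : G} (hs : Commute s E.t) (h2 : s * s = 1) (h1 : s ≠ 1) (hne : s ≠ E.t) :
    ∃ d : G, Commute d E.t ∧ d * E.T * d⁻¹ = s := by
  obtain ⟨σ, hσ⟩ := E.exists_img hs
  obtain ⟨hσ2, m, hm, hmc⟩ := Cfg.exists_support hσ h2 h1 hne
  have h8 : σ.support.card = 8 := by
    have := Finset.card_le_univ σ.support
    rw [Fintype.card_fin] at this
    omega
  obtain ⟨ρ, hρs, hρ⟩ := Cfg.conj_even pT_facts.1 hσ2 (fun e => by
    have := pT_facts.2.1; rw [e, support_one] at this; simp at this) (pT_facts.2.1.trans h8.symm)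
  obtain ⟨d, hd⟩ := Cfg.exists_img (K := E.D) hρs
  rcases (hρ ▸ hd.conj E.img_T : E.D.Img (d * E.T * d⁻¹) σ).lift_eq hσ with e | e
  · exact ⟨d, hd.comm, e.symm⟩
  · refine ⟨d * E.u, (show Commute d E.t from hd.comm).mul_left E.u_t, ?_⟩
    rw [show d * E.u * E.T * (d * E.u)⁻¹ = d * (E.u * E.T * E.u⁻¹) * d⁻¹ by group, E.u_T, conj_mul',
      conj_eq_iff.2 (show Commute d E.t from hd.comm), e]
    rfl

theorem card_cent_invol {s : G} (hs : Commute s E.t) (h2 : s * s = 1) (h1 : s ≠ 1) (hne : s ≠ E.t) :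
    Nat.card ↥(E.C ⊓ centralizer ({s} : Set G)) = 192 := by
  obtain ⟨d, hd, hds⟩ := E.exists_conj_T hs h2 h1 hne
  have e : E.C ⊓ centralizer ({s} : Set G) = E.H.map (MulAut.conj d).toMonoidHom := by
    ext x
    rw [Subgroup.mem_map]
    constructor
    · rintro ⟨hxt, hxs⟩
      refine ⟨d⁻¹ * x * d, E.mem_H.2 ⟨(hd.inv_left.mul_left (E.mem_C.1 hxt)).mul_left hd, ?_⟩, ?_⟩
      · have h := commute_conj (g := d⁻¹) (mem_cent_iff.1 hxs)
        rw [← hds, show d⁻¹ * (d * E.T * d⁻¹) * d⁻¹⁻¹ = E.T by group, inv_inv] at h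
        exact h
      · show d * (d⁻¹ * x * d) * d⁻¹ = x
        group
    · rintro ⟨w, hw, rfl⟩
      obtain ⟨hwt, hwT⟩ := E.mem_H.1 hw
      refine ⟨E.mem_C.2 ((hd.mul_left hwt).mul_left hd.inv_left), mem_cent_iff.2 ?_⟩
      show Commute (d * w * d⁻¹) s
      rw [← hds]
      exact commute_conj hwT
  rw [e, Subgroup.card_map_of_injective (MulAut.conj d).injective, E.card_H]

include E in
/-- The centralizer of the involution contains a Sylow two-subgroup. -/
theorem two_le {R : Subgroup G} (hR : IsPGroup 2 R) : Nat.card R ≤ 128 := by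
  haveI : Fact (Nat.Prime 2) := ⟨Nat.prime_two⟩
  obtain ⟨P⟩ := (inferInstance : Nonempty (Sylow 2 E.C))
  have hPc : Nat.card P = 128 := by
    rw [P.card_eq_multiplicity, E.card_C]
    have h : (40320 : ℕ).factorization 2 = 7 := by
      rw [show (40320 : ℕ) = 2 ^ 7 * 315 from rfl, Nat.factorization_mul (by norm_num) (by norm_num),
        Finsupp.add_apply, Nat.Prime.factorization_pow Nat.prime_two, Finsupp.single_eq_same,
        Nat.factorization_eq_zero_of_not_dvd (by norm_num : ¬ 2 ∣ 315)]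
    rw [h]
    norm_num
  set P0 : Subgroup G := (P : Subgroup E.C).map E.C.subtype with hP0def
  have hP0 : IsPGroup 2 P0 := P.2.map _
  have hP0c : Nat.card P0 = 128 := by rw [hP0def, Subgroup.card_map_of_injective E.C.subtype_injective]; exact hPc
  have hP0C : P0 ≤ E.C := map_subtype_le _
  have hmax : ∀ {R : Subgroup G}, IsPGroup 2 R → R ≤ E.C → Nat.card R ≤ 128 := by
    intro R hR hRC
    obtain ⟨n, hn⟩ := IsPGroup.iff_card.1 hR
    have h := card_dvd_of_le hRC
    rw [E.card_C, hn] at h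
    rw [hn]
    by_contra hlt
    have h8 : 8 ≤ n := by
      by_contra h8
      exact hlt (le_trans (Nat.pow_le_pow_right (by norm_num) (show n ≤ 7 by omega)) (by norm_num))
    exact absurd ((pow_dvd_pow 2 h8).trans h) (by norm_num)
  obtain ⟨PS, hPS⟩ := hP0.exists_le_sylow
  have htP : E.t ∈ P0 := by
    have hle : IsPGroup 2 ↥(P0 ⊔ zpowers E.t) := by
      refine hP0.to_sup_of_normal_right' (isPGroup_zpowers E.t_sq) fun x hx => mem_normalizer_of_conj ?_
      intro y hy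
      obtain ⟨i, rfl⟩ := hy
      rw [conj_eq_iff.2 ((E.mem_C.1 (hP0C hx)).zpow_right i)]
      exact zpow_mem (mem_zpowers _) _
    have h := eq_of_le_of_card_ge (le_sup_left : P0 ≤ P0 ⊔ zpowers E.t)
      ((hmax hle (sup_le hP0C (zpowers_le.2 (E.mem_C.2 (Commute.refl _))))).trans hP0c.ge)
    rw [h]
    exact mem_sup_right (mem_zpowers _)
  have heq : (PS : Subgroup G) = P0 := by
    by_contra hne
    have hlt : P0 < PS := lt_of_le_of_ne hPS (Ne.symm hne)
    haveI : Group.IsNilpotent PS := PS.2.isNilpotent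
    have hnc := Group.normalizerCondition_of_isNilpotent (G := PS) (P0.subgroupOf PS)
      (lt_top_iff_ne_top.2 fun e => hlt.not_ge (subgroupOf_eq_top.1 e))
    obtain ⟨g, hgN, hgP⟩ := SetLike.exists_of_lt hnc
    have hgn : ∀ x ∈ P0, (g : G) * x * (g : G)⁻¹ ∈ P0 := fun x hx =>
      mem_subgroupOf.1 ((mem_normalizer_iff.1 hgN ⟨x, hPS hx⟩).1 (mem_subgroupOf.2 hx))
    set s := (g : G) * E.t * (g : G)⁻¹ with hs
    have hcomm : ∀ x ∈ P0, Commute x s := fun x hx => by
      have hgi : ((g : PS)⁻¹ : PS) ∈ normalizer ((P0.subgroupOf PS : Subgroup PS) : Set PS) := inv_mem hgN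
      have hy : (g : G)⁻¹ * x * (g : G) ∈ P0 := by
        have := mem_subgroupOf.1 ((mem_normalizer_iff.1 hgi ⟨x, hPS hx⟩).1 (mem_subgroupOf.2 hx))
        simpa using this
      have h := commute_conj (g := (g : G)) (E.mem_C.1 (hP0C hy))
      rwa [show (g : G) * ((g : G)⁻¹ * x * (g : G)) * (g : G)⁻¹ = x by group] at h
    by_cases hst : s = E.t
    · have hgC : (g : G) ∈ E.C := E.mem_C.2 (conj_eq_iff.1 hst)
      have hle : IsPGroup 2 ↥(P0 ⊔ zpowers (g : G)) :=
        PS.2.to_le (sup_le hPS (zpowers_le.2 g.2))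
      have h := eq_of_le_of_card_ge (le_sup_left : P0 ≤ P0 ⊔ zpowers (g : G))
        ((hmax hle (sup_le hP0C (zpowers_le.2 hgC))).trans hP0c.ge)
      exact hgP (mem_subgroupOf.2 (h.symm ▸ mem_sup_right (mem_zpowers _)))
    · have hss : s * s = 1 := by
        rw [hs, show (g : G) * E.t * (g : G)⁻¹ * ((g : G) * E.t * (g : G)⁻¹) = g * (E.t * E.t) * (g : G)⁻¹ by group,
          E.t_sq, mul_one, mul_inv_cancel]
      have hs1 : s ≠ 1 := fun e => E.t_ne (conj_eq_one_iff.1 e)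
      have hle : P0 ≤ E.C ⊓ centralizer ({s} : Set G) := le_inf hP0C fun x hx => mem_cent_iff.2 (hcomm x hx)
      have h := card_dvd_of_le hle
      rw [hP0c, E.card_cent_invol (E.mem_C.1 (hP0C (hgn _ htP))) hss hs1 hst] at h
      norm_num at h
  obtain ⟨RS, hRS⟩ := hR.exists_le_sylow
  refine (card_le_of_le hRS).trans (le_of_eq ?_)
  rw [RS.card_eq_multiplicity, ← PS.card_eq_multiplicity, heq, hP0c]

theorem C_index_odd : ¬ 2 ∣ E.C.index := by
  haveI : Fact (Nat.Prime 2) := ⟨Nat.prime_two⟩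
  intro h
  have hd : 2 ^ 8 ∣ Nat.card G := by
    rw [← E.C.card_mul_index, E.card_C]
    exact (show 2 ^ 8 ∣ 40320 * 2 from by norm_num).trans (mul_dvd_mul_left _ h)
  obtain ⟨R, hR⟩ := Sylow.exists_subgroup_card_pow_prime 2 hd
  have := E.two_le (IsPGroup.of_card (n := 8) hR)
  rw [hR] at this
  norm_num at this

theorem C_le_of_index_two {N : Subgroup G} (hN : N.index = 2) : E.C ≤ N := by
  have htN : E.t ∈ N := E.u_sq ▸ mul_self_mem_of_index_two hN E.u
  let S : Subgroup (Perm (Fin 8)) := (N.subgroupOf E.C).map E.D.P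
  have hS : alternatingGroup (Fin 8) ≤ S := by
    rw [← Equiv.Perm.closure_three_cycles_eq_alternating, closure_le]
    intro σ hσ
    obtain ⟨g, ⟨hgC, hg⟩, hg3⟩ := Cfg.exists_img_odd (K := E.D) (by decide : Odd 3)
      (show σ ^ 3 = 1 by rw [← hσ.orderOf]; exact pow_orderOf_eq_one σ)
    exact ⟨⟨g, hgC⟩, three_mem_of_index_two hN 1 g (by rw [pow_one]; exact hg3), hg⟩
  intro g hg
  obtain ⟨⟨n, hnC⟩, hn, hne⟩ := hS (mem_alternatingGroup.2 (E.D.even ⟨g, hg⟩))
  have hnN : n ∈ N := mem_subgroupOf.1 hn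
  rcases (show E.D.Img n (E.D.P ⟨g, hg⟩) from ⟨hnC, hne⟩).lift_eq ⟨hg, rfl⟩ with e | e
  · exact e ▸ hnN
  · rw [e]; exact mul_mem hnN htN

include E in
theorem iso_mcl : Nonempty (G ≃* Cfsg.Spor.McL) := by
  obtain ⟨H⟩ := E.exists_hyp
  refine H.mcl_or_aut.resolve_right fun ⟨e⟩ => ?_
  obtain ⟨N, -, ⟨eN⟩, -⟩ := H.exists_normal
  have hidx : N.index = 2 := by
    have h := N.card_mul_index
    rw [Nat.card_congr e.toEquiv, card_mulAut_mcl, ← Nat.card_congr eN.toEquiv, mul_comm] at h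
    exact Nat.eq_of_mul_eq_mul_right Nat.card_pos h
  exact E.C_index_odd (hidx ▸ index_dvd_of_le (E.C_le_of_index_two hidx))

end Setup

/-- An involution with centralizer a nonsplit double cover of the alternating group of degree eight. -/
theorem isolated_or_mcl (t : G) (ht : orderOf t = 2)
    (hcov : Cfsg.IsNonsplitDoubleCover (centralizer ({t} : Set G)) (alternatingGroup (Fin 8))) :
    centralizer ({t} : Set G) ⊔ Cfsg.oddCore G = ⊤ ∨ Nonempty (G ≃* Cfsg.Spor.McL) :=
  (exists_setup t ht hcov).imp id fun ⟨E, _⟩ => E.iso_mcl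

end Cfsg.Agent.Spor.McLCent
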