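import Cfsg.Agent.Lib.Spor.McLCent.ZCent

/-!
The normalizer of `J` and the subgroup generated by its 3-elements.
-/

set_option autoImplicit false
set_option linter.unusedSectionVars false
set_option maxHeartbeats 800000

namespace Cfsg.Agent.Spor.McLCent

open Equiv Equiv.Perm Subgroup
open scoped Pointwise
open Cfsg.Agent.Invol.TwoAn (Cfg IsQuad)
open Cfsg.Agent.Spor.McLThree (SL5)

universe u

variable {G : Type u} [Group G] [Finite G]

set_option maxRecDepth 100000 in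
set_option synthInstance.maxSize 4096 in
/-- The normalizer of a group of order three in `SL₂(5)` has at most twelve elements. -/
theorem sl5_norm_card : ∀ x : SL5, x * x * x = 1 → x ≠ 1 →
    (Finset.univ.filter fun r : SL5 => r * x = x * r ∨ r * x = x * x * r).card ≤ 12 := by
  decide +kernel

/-- A permutation of order four moving sixteen points, none of them fixed by its square, is even. -/
theorem sign_four {α : Type*} [Fintype α] [DecidableEq α] {σ : Perm α} (h4 : σ ^ 4 = 1)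
    (h16 : σ.support.card = 16) (hsq : ∀ x, σ (σ x) = x → σ x = x) : sign σ = 1 := by
  have hct : ∀ n ∈ σ.cycleType, n = 4 := by
    intro n hn
    have hd : n ∣ 4 := (Perm.dvd_of_mem_cycleType hn).trans (orderOf_dvd_of_pow_eq_one h4)
    have h2 := Perm.two_le_of_mem_cycleType hn
    obtain ⟨i, hi, rfl⟩ := (Nat.dvd_prime_pow Nat.prime_two).1 (show n ∣ 2 ^ 2 from hd)
    interval_cases i
    · norm_num at h2
    · exfalso
      obtain ⟨c, τ, rfl, hdisj, hc, hcard⟩ := Perm.mem_cycleType_iff.1 hn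
      obtain ⟨x, hx⟩ := Finset.card_pos.1 (show 0 < c.support.card by omega)
      have hτ : ∀ y ∈ c.support, τ y = y := fun y hy => (hdisj y).resolve_left (Perm.mem_support.1 hy)
      have hcx : c x ∈ c.support := Perm.apply_mem_support.2 hx
      have hc2 : c (c x) = x := by
        have h := pow_orderOf_eq_one c
        rw [hc.orderOf, hcard] at h
        have h' := congrArg (fun p : Perm α => p x) h
        simpa [pow_two] using h'
      have := hsq x (by rw [Perm.mul_apply, Perm.mul_apply, hτ x hx, hτ _ hcx, hc2])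
      rw [Perm.mul_apply, hτ x hx] at this
      exact Perm.mem_support.1 hx this
    · norm_num
  have hrep : σ.cycleType = Multiset.replicate σ.cycleType.card 4 := Multiset.eq_replicate_card.2 hct
  have hsum := Perm.sum_cycleType σ
  rw [hrep, Multiset.sum_replicate, smul_eq_mul, h16] at hsum
  rw [Perm.sign_of_cycleType, hrep, Multiset.sum_replicate, Multiset.card_replicate, smul_eq_mul,
    show σ.cycleType.card = 4 by omega]
  rfl

namespace Setup

variable (E : Setup G)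

theorem T_mem_N : E.T ∈ E.N := E.mem_N_of_P E.T_conj_P

theorem u_mem_N : E.u ∈ E.N := E.mem_N_of_P E.u_conj_P

theorem t_mem_N : E.t ∈ E.N := E.mem_N_of_P E.t_conj_P

theorem S_le_N : E.S ≤ E.N :=
  sup_le E.K_le_N (zpowers_le.2 (E.mem_N_of_P fun p hp => by
    rw [conj_eq_iff.2 (E.P_comm E.f_mem_P hp)]; exact hp))

theorem ψ_mem {x : G} (hx : x ∈ E.S) : E.ψ ⟨x, E.S_le_Zc hx⟩ ∈
    zpowers (E.ψ ⟨E.f, mem_cent_iff.2 E.z_f.symm⟩) := by
  set B := ((zpowers (E.ψ ⟨E.f, mem_cent_iff.2 E.z_f.symm⟩)).comap E.ψ).map E.Zc.subtype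
  have hB : E.S ≤ B := sup_le
    (fun a ha => ⟨⟨a, E.K_le ha⟩, by
      rw [SetLike.mem_coe, mem_comap, (E.ψ_ker _).2 (show ((⟨a, E.K_le ha⟩ : E.Zc) : G) ∈ E.K from ha)]
      exact one_mem _, rfl⟩)
    (zpowers_le.2 (show E.f ∈ B from ⟨⟨E.f, mem_cent_iff.2 E.z_f.symm⟩, mem_zpowers _, rfl⟩))
  obtain ⟨a, ha, e⟩ := hB hx
  exact (Subtype.ext e : a = ⟨x, E.S_le_Zc hx⟩) ▸ ha

theorem ψ_f_order : orderOf (E.ψ ⟨E.f, mem_cent_iff.2 E.z_f.symm⟩) = 3 := by
  haveI : Fact (Nat.Prime 3) := ⟨Nat.prime_three⟩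
  refine orderOf_eq_prime ?_ fun e => E.f_not_K ((E.ψ_ker _).1 e)
  rw [← map_pow, show (⟨E.f, mem_cent_iff.2 E.z_f.symm⟩ : E.Zc) ^ 3 = 1 from Subtype.ext E.f_cube, map_one]

theorem card_N_inf_Zc : Nat.card ↥(E.N ⊓ E.Zc) = 2916 := by
  classical
  haveI : Fact (Nat.Prime 3) := ⟨Nat.prime_three⟩
  let ρ : ↥(E.N ⊓ E.Zc) →* SL5 := E.ψ.comp (inclusion inf_le_right)
  set x := E.ψ ⟨E.f, mem_cent_iff.2 E.z_f.symm⟩
  have hxo : orderOf x = 3 := E.ψ_f_order
  have hx3 : x * x * x = 1 := by rw [← pow_three', ← hxo, pow_orderOf_eq_one]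
  have hle : Nat.card ρ.range ≤ 12 := by
    refine le_trans ?_ (sl5_norm_card x hx3 fun e => by rw [e, orderOf_one] at hxo; omega)
    rw [← Fintype.card_coe, ← Nat.card_eq_fintype_card]
    refine Nat.card_le_card_of_injective (fun r : ρ.range => (⟨(r : SL5), ?_⟩ :
      (Finset.univ.filter fun r : SL5 => r * x = x * r ∨ r * x = x * x * r : Finset SL5))) fun a b h =>
        Subtype.ext (congrArg Subtype.val h :)
    obtain ⟨r, g, rfl⟩ := r
    simp only [Finset.mem_filter, Finset.mem_univ, true_and]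
    have hfS : (g : G) * E.f * (g : G)⁻¹ ∈ E.S :=
      E.J_le_S ((mem_normalizer_iff.1 g.2.1 E.f).1 (E.P_le_J E.f_mem_P))
    obtain ⟨i, hi⟩ := eq_pow_of_mem_zpowers (show x ^ 3 = 1 by rw [pow_three', hx3]) (E.ψ_mem hfS)
    have e : ρ g * x * (ρ g)⁻¹ = x ^ (i : ℕ) := by
      rw [← hi, show ρ g = E.ψ (inclusion inf_le_right g) from rfl, ← map_inv, ← map_mul, ← map_mul]
      rfl
    fin_cases i <;> simp only [Fin.mk_one, Fin.zero_eta, Fin.isValue, Fin.reduceFinMk, Fin.val_zero, Fin.val_one,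
      Fin.val_two, pow_zero, pow_one, pow_two] at e
    · exact absurd (conj_eq_one_iff.1 e) fun e' => by rw [e', orderOf_one] at hxo; omega
    · exact Or.inl (mul_inv_eq_iff_eq_mul.1 e)
    · exact Or.inr (mul_inv_eq_iff_eq_mul.1 e)
  have h12 : 12 ∣ Nat.card ρ.range := by
    have hf : x ∈ ρ.range :=
      ⟨⟨E.f, E.S_le_N (mem_sup_right (mem_zpowers _)), mem_cent_iff.2 E.z_f.symm⟩, rfl⟩
    set jz : ↥(E.N ⊓ E.Zc) := ⟨E.j, E.j_mem_N, mem_cent_iff.2 (conj_eq_iff.1 E.j_z)⟩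
    have hj4 : orderOf (ρ jz) = 2 ^ (1 + 1) := by
      haveI : Fact (Nat.Prime 2) := ⟨Nat.prime_two⟩
      refine orderOf_eq_prime_pow ?_ ?_
      · rw [pow_one, pow_two, ← map_mul]
        intro h
        have hK : E.j * E.j ∈ E.K := (E.ψ_ker _).1 h
        rw [E.j_sq] at hK
        have ho := E.K_odd.of_dvd_nat (Subgroup.orderOf_dvd_natCard _ hK)
        rw [E.t_ord] at ho
        exact absurd ho (by decide)
      · rw [← map_pow, show jz ^ 2 ^ (1 + 1) = 1 from Subtype.ext ?_, map_one]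
        show E.j ^ 2 ^ (1 + 1) = 1
        rw [show 2 ^ (1 + 1) = 2 + 2 by norm_num, pow_add, pow_two, E.j_sq, E.t_sq]
    have h3 := Subgroup.orderOf_dvd_natCard _ hf
    have h4 := Subgroup.orderOf_dvd_natCard (x := ρ jz) ρ.range ⟨jz, rfl⟩
    rw [hxo] at h3
    rw [hj4] at h4
    exact (show Nat.Coprime 3 (2 ^ (1 + 1)) by norm_num).mul_dvd_of_dvd_of_dvd h3 h4
  have h := ρ.ker.card_mul_index
  rw [index_ker, show Nat.card ρ.range = 12 from le_antisymm hle (Nat.le_of_dvd Nat.card_pos h12)] at h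
  have e : ρ.ker = E.K.subgroupOf (E.N ⊓ E.Zc) := Subgroup.ext fun g => (E.ψ_ker _).trans mem_subgroupOf.symm
  rw [e, Nat.card_congr (subgroupOfEquivOfLe (le_inf E.K_le_N E.K_le)).toEquiv, E.card_K] at h
  omega

theorem card_K_inf_cf : Nat.card ↥(E.K ⊓ centralizer ({E.f} : Set G)) = 27 := by
  rw [show E.K ⊓ centralizer ({E.f} : Set G) = E.K ⊓ E.J from ?_, E.card_K_inf_J]
  refine le_antisymm (fun k hk => ⟨hk.1, ?_⟩) (fun k hk => ⟨hk.1, mem_cent_iff.2 (E.mem_cP.1 (E.J_le_cP hk.2)).2⟩)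
  exact E.J_spec.2.2.1 _ (E.mem_cP.2 ⟨E.K_z hk.1, mem_cent_iff.1 hk.2⟩)
    (E.K_odd.of_dvd_nat (Subgroup.orderOf_dvd_natCard _ hk.1))

/-- The orbit of `z`. -/
def orb (R : Subgroup G) (x : G) : Type u := {w : G // ∃ m ∈ R, m * x * m⁻¹ = w}

instance (R : Subgroup G) (x : G) : Finite (orb R x) := Subtype.finite

theorem z_sq : E.z⁻¹ = E.z * E.z := inv_eq_of_mul_eq_one_right (by rw [← mul_assoc, ← pow_three', E.z_cube])

theorem twenty_le {R : Subgroup G} (hK : E.K ≤ R) (hT : E.T ∈ R) (hu : E.u ∈ R) :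
    20 ≤ Nat.card (orb R E.z) := by
  classical
  have hz1 : ∃ m ∈ R, m * E.z * m⁻¹ = E.z⁻¹ := ⟨E.u, hu, E.u_z⟩
  have hKf : ∀ k ∈ E.K, ∀ e : Fin 2, ∃ m ∈ R, m * E.z * m⁻¹ = k * (if e = 0 then E.f else E.f⁻¹) * k⁻¹ := by
    intro k hk e
    fin_cases e
    · exact ⟨k * E.T, mul_mem (hK hk) hT, by rw [conj_comp, E.T_z]; rfl⟩
    · exact ⟨k * (E.u * E.T), mul_mem (hK hk) (mul_mem hu hT), by rw [conj_comp, conj_comp, E.T_z, E.u_f]; rfl⟩
  have h9 : Nat.card (orb E.K E.f) = 9 := by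
    have h := card_conj_orbit E.K E.f
    rw [E.card_K, E.card_K_inf_cf] at h
    show Nat.card {w : G // ∃ m ∈ E.K, m * E.f * m⁻¹ = w} = 9
    omega
  have hinvorb : ∀ w : orb E.K E.f, ∃ m ∈ R, m * E.z * m⁻¹ = (w.1)⁻¹ := by
    rintro ⟨w, k, hk, rfl⟩
    obtain ⟨m, hm, e⟩ := hKf k hk 1
    refine ⟨m, hm, e.trans ?_⟩
    show k * E.f⁻¹ * k⁻¹ = (k * E.f * k⁻¹)⁻¹
    group
  let v : Fin 2 ⊕ (orb E.K E.f ⊕ orb E.K E.f) → orb R E.z
    | .inl i => if i = 0 then ⟨E.z, 1, one_mem _, by simp⟩ else ⟨E.z⁻¹, hz1⟩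
    | .inr (.inl w) => ⟨w.1, by obtain ⟨k, hk, e⟩ := w.2; rw [← e]; exact hKf k hk 0⟩
    | .inr (.inr w) => ⟨(w.1)⁻¹, hinvorb w⟩
  -- separate by the image in `SL₂(5)`
  have hval : ∀ w : orb E.K E.f, ∃ h : w.1 ∈ E.Zc, E.ψ ⟨w.1, h⟩ = E.ψ ⟨E.f, mem_cent_iff.2 E.z_f.symm⟩ := by
    rintro ⟨w, k, hk, rfl⟩
    have hkZ := E.K_le hk
    refine ⟨mul_mem (mul_mem hkZ (mem_cent_iff.2 E.z_f.symm)) (inv_mem hkZ), ?_⟩
    rw [show (⟨k * E.f * k⁻¹, _⟩ : E.Zc) = ⟨k, hkZ⟩ * ⟨E.f, mem_cent_iff.2 E.z_f.symm⟩ * ⟨k, hkZ⟩⁻¹ from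
      Subtype.ext rfl, map_mul, map_mul, map_inv, (E.ψ_ker ⟨k, hkZ⟩).2 hk]
    simp
  have hzne : E.z⁻¹ ≠ E.z := fun h => E.z_ne (by
    rw [E.z_sq] at h
    exact mul_eq_left.1 h)
  have hne1 : ∀ w : orb E.K E.f, w.1 ∉ E.K := fun w h => by
    obtain ⟨hw, e⟩ := hval w
    rw [(E.ψ_ker ⟨w.1, hw⟩).2 h] at e
    exact E.f_not_K ((E.ψ_ker _).1 e.symm)
  have hne2 : ∀ a b : orb E.K E.f, a.1 ≠ (b.1)⁻¹ := fun a b h => by
    obtain ⟨ha, ea⟩ := hval a
    obtain ⟨hb, eb⟩ := hval b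
    rw [show (⟨a.1, ha⟩ : E.Zc) = (⟨b.1, hb⟩ : E.Zc)⁻¹ from Subtype.ext h, map_inv, eb] at ea
    have h2 : E.ψ ⟨E.f, mem_cent_iff.2 E.z_f.symm⟩ ^ 2 = 1 := by
      rw [pow_two]
      nth_rw 1 [← ea]
      exact inv_mul_cancel _
    have := orderOf_dvd_of_pow_eq_one h2
    rw [E.ψ_f_order] at this
    norm_num at this
  have hinj : Function.Injective v := by
    intro a b h
    have h' := congrArg Subtype.val h
    rcases a with i | a | a <;> rcases b with k | b | b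
    · fin_cases i <;> fin_cases k <;> simp [v] at h' ⊢
      · exact hzne h'.symm
      · exact hzne h'
    · exfalso; fin_cases i <;> simp [v] at h'
      · exact hne1 b (h' ▸ E.z_K)
      · exact hne1 b (h' ▸ inv_mem E.z_K)
    · exfalso; fin_cases i <;> simp [v] at h'
      · exact hne1 b (inv_mem_iff.1 (h' ▸ E.z_K))
      · exact hne1 b (h' ▸ E.z_K)
    · exfalso; fin_cases k <;> simp [v] at h'
      · exact hne1 a (h'.symm ▸ E.z_K)
      · exact hne1 a (h'.symm ▸ inv_mem E.z_K)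
    · exact congrArg (fun w => Sum.inr (Sum.inl w)) (Subtype.ext h')
    · exact absurd h' (hne2 a b)
    · exfalso; fin_cases k <;> simp [v] at h'
      · exact hne1 a (inv_mem_iff.1 (h'.symm ▸ E.z_K))
      · exact hne1 a (h'.symm ▸ E.z_K)
    · exact absurd h'.symm (hne2 b a)
    · exact congrArg (fun w => Sum.inr (Sum.inr w)) (Subtype.ext (inv_injective h'))
  have := Nat.card_le_card_of_injective v hinj
  rw [Nat.card_sum, Nat.card_sum, h9, Nat.card_fin] at this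
  exact this

theorem orb_z_twenty : Nat.card (orb E.N E.z) = 20 ∧ Nat.card E.N = 58320 := by
  classical
  have h1 := card_conj_orbit E.N E.z
  have h2 := card_conj_orbit E.N E.y
  rw [show E.N ⊓ centralizer ({E.z} : Set G) = E.N ⊓ E.Zc from rfl, E.card_N_inf_Zc] at h1
  rw [show E.N ⊓ centralizer ({E.y} : Set G) = E.Y from inf_eq_right.2 E.Y_le_N, E.card_Y, h1] at h2
  have h20 := E.twenty_le E.K_le_N E.T_mem_N E.u_mem_N
  have hJ : ∀ {x : G}, x ∈ E.P → ∀ w : orb E.N x, w.1 ∈ E.J := fun {x} hx w => by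
    obtain ⟨m, hm, e⟩ := w.2
    rw [← e]
    exact (mem_normalizer_iff.1 hm x).1 (E.P_le_J hx)
  let v : Option (orb E.N E.z ⊕ orb E.N E.y) → E.J
    | none => 1
    | some (.inl w) => ⟨w.1, hJ E.z_mem_P w⟩
    | some (.inr w) => ⟨w.1, hJ E.y_mem_P w⟩
  have hne : ∀ {x : G}, x ≠ 1 → ∀ w : orb E.N x, w.1 ≠ 1 := fun {x} hx w h => by
    obtain ⟨m, -, e⟩ := w.2
    rw [h] at e
    exact hx (conj_eq_one_iff.1 e)
  have hzy : ∀ (a : orb E.N E.z) (b : orb E.N E.y), a.1 ≠ b.1 := fun a b h => by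
    obtain ⟨m, -, e⟩ := a.2
    obtain ⟨n, -, e'⟩ := b.2
    refine E.y_not_conj_z (m⁻¹ * n) ?_
    rw [conj_comp, e', ← h, ← e]
    group
  have hinj : Function.Injective v := by
    intro a b h
    have h' := congrArg Subtype.val h
    rcases a with _ | a | a <;> rcases b with _ | b | b
    · rfl
    · exact absurd h'.symm (hne E.z_ne b)
    · exact absurd h'.symm (hne E.y_ne b)
    · exact absurd h' (hne E.z_ne a)
    · exact congrArg (fun w => some (Sum.inl w)) (Subtype.ext h')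
    · exact absurd h' (hzy a b)
    · exact absurd h' (hne E.y_ne a)
    · exact absurd h'.symm (hzy b a)
    · exact congrArg (fun w => some (Sum.inr w)) (Subtype.ext h')
  have hle := Nat.card_le_card_of_injective v hinj
  rw [Finite.card_option, Nat.card_sum, E.card_J] at hle
  have hz : Nat.card (orb E.N E.z) = Nat.card {w : G // ∃ m ∈ E.N, m * E.z * m⁻¹ = w} := rfl
  have hy : Nat.card (orb E.N E.y) = Nat.card {w : G // ∃ m ∈ E.N, m * E.y * m⁻¹ = w} := rfl
  rw [hz] at h20 hle ⊢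
  rw [hy] at hle
  constructor <;> omega

/-- The action of the normalizer on the orbit of `z`. -/
noncomputable def orbPerm : E.N →* Perm (orb E.N E.z) where
  toFun g :=
    { toFun := fun w => ⟨g * w.1 * (g : G)⁻¹, by
        obtain ⟨m, hm, e⟩ := w.2
        exact ⟨g * m, mul_mem g.2 hm, by rw [conj_comp, e]⟩⟩
      invFun := fun w => ⟨(g : G)⁻¹ * w.1 * g, by
        obtain ⟨m, hm, e⟩ := w.2
        exact ⟨(g : G)⁻¹ * m, mul_mem (inv_mem g.2) hm, by rw [conj_comp, e, inv_inv]⟩⟩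
      left_inv := fun w => Subtype.ext (by
        show (g : G)⁻¹ * ((g : G) * w.1 * (g : G)⁻¹) * g = w.1
        group)
      right_inv := fun w => Subtype.ext (by
        show (g : G) * ((g : G)⁻¹ * w.1 * g) * (g : G)⁻¹ = w.1
        group) }
  map_one' := Equiv.ext fun w => Subtype.ext (by
    show ((1 : E.N) : G) * w.1 * ((1 : E.N) : G)⁻¹ = w.1
    simp)
  map_mul' a b := Equiv.ext fun w => Subtype.ext (by
    show ((a * b : E.N) : G) * w.1 * ((a * b : E.N) : G)⁻¹ = _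
    rw [Subgroup.coe_mul, conj_comp]; rfl)

theorem orbPerm_apply (g : E.N) (w : orb E.N E.z) : (E.orbPerm g w).1 = (g : G) * w.1 * (g : G)⁻¹ := rfl

theorem orb_fixed_t {w : orb E.N E.z} (h : Commute w.1 E.t) :
    w.1 = E.z ∨ w.1 = E.z⁻¹ ∨ w.1 = E.f ∨ w.1 = E.f⁻¹ := by
  obtain ⟨m, hm, e⟩ := w.2
  have hP : w.1 ∈ E.P := by
    rw [← E.J_inf_t]
    exact ⟨e ▸ (mem_normalizer_iff.1 hm E.z).1 (E.P_le_J E.z_mem_P), mem_cent_iff.2 h⟩
  have ny : ∀ g, g * E.z * g⁻¹ ≠ E.y := fun g e' => E.y_not_conj_z g⁻¹ (by rw [← e']; group)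
  have ny' : ∀ g, g * E.z * g⁻¹ ≠ E.y' := fun g e' => E.y'_not_conj_z g⁻¹ (by rw [← e']; group)
  have sz : E.z ^ 2 = E.z⁻¹ := eq_inv_of_mul_eq_one_left (by rw [← pow_succ, E.z_cube])
  have sf : E.f ^ 2 = E.f⁻¹ := eq_inv_of_mul_eq_one_left (by rw [← pow_succ, E.f_cube])
  obtain ⟨a, b, hab⟩ := E.mem_P.1 hP
  fin_cases a <;> fin_cases b <;> simp only [Fin.mk_one, Fin.zero_eta, Fin.isValue, Fin.reduceFinMk, Fin.val_zero,
    Fin.val_one, Fin.val_two, pow_zero, pow_one, one_mul, mul_one, sz, sf] at hab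
  · exact absurd (conj_eq_one_iff.1 (e.trans hab)) E.z_ne
  · exact Or.inr (Or.inr (Or.inl hab))
  · exact Or.inr (Or.inr (Or.inr hab))
  · exact Or.inl hab
  · exact absurd (e.trans hab) (ny m)
  · exact absurd (e.trans hab) (ny' m)
  · exact Or.inr (Or.inl hab)
  · refine absurd ?_ (ny' (E.T * m))
    rw [conj_comp, e, hab, conj_mul', show E.T * E.z⁻¹ * E.T⁻¹ = (E.T * E.z * E.T⁻¹)⁻¹ by group, E.T_z, E.T_f, y']
    exact E.z_f.symm.inv_left.eq
  · refine absurd ?_ (ny (E.u * m))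
    rw [conj_comp, e, hab, conj_mul', show E.u * E.z⁻¹ * E.u⁻¹ = (E.u * E.z * E.u⁻¹)⁻¹ by group, E.u_z,
      show E.u * E.f⁻¹ * E.u⁻¹ = (E.u * E.f * E.u⁻¹)⁻¹ by group, E.u_f, inv_inv, inv_inv]
    rfl

theorem sign_j [Fintype (orb E.N E.z)] [DecidableEq (orb E.N E.z)] :
    sign (E.orbPerm ⟨E.j, E.j_mem_N⟩) = -1 := by
  set π := E.orbPerm ⟨E.j, E.j_mem_N⟩
  have hzo : ∃ m ∈ E.N, m * E.z * m⁻¹ = E.z := ⟨1, one_mem _, by simp⟩
  have hzi : ∃ m ∈ E.N, m * E.z * m⁻¹ = E.z⁻¹ := ⟨E.u, E.u_mem_N, E.u_z⟩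
  have hfo : ∃ m ∈ E.N, m * E.z * m⁻¹ = E.f := ⟨E.T, E.T_mem_N, E.T_z⟩
  have hfi : ∃ m ∈ E.N, m * E.z * m⁻¹ = E.f⁻¹ := ⟨E.u * E.T, mul_mem E.u_mem_N E.T_mem_N, by
    rw [conj_comp, E.T_z, E.u_f]⟩
  let a : orb E.N E.z := ⟨E.z, hzo⟩
  let a' : orb E.N E.z := ⟨E.z⁻¹, hzi⟩
  let b : orb E.N E.z := ⟨E.f, hfo⟩
  let b' : orb E.N E.z := ⟨E.f⁻¹, hfi⟩
  have hfne : E.f⁻¹ ≠ E.f := fun h => E.f_not_K (by
    have : E.f = 1 := by
      have e : E.f * E.f = 1 := by nth_rw 1 [← h]; exact inv_mul_cancel _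
      calc E.f = E.f ^ 3 * (E.f * E.f)⁻¹ := by rw [pow_succ, pow_two]; group
        _ = 1 := by rw [E.f_cube, e, inv_one, one_mul]
    rw [this]; exact one_mem _)
  have hzne : E.z⁻¹ ≠ E.z := fun h => E.z_ne (by rw [E.z_sq] at h; exact mul_eq_left.1 h)
  have hbb : b ≠ b' := fun h => hfne (congrArg Subtype.val h).symm
  have hzf : ∀ {p q : G}, p ∈ E.K → q ∉ E.K → p ≠ q := fun hp hq e => hq (e ▸ hp)
  have hfi' : E.f⁻¹ ∉ E.K := fun h => E.f_not_K (inv_mem_iff.1 h)
  have hd : a ≠ b ∧ a ≠ b' ∧ a' ≠ b ∧ a' ≠ b' ∧ a ≠ a' :=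
    ⟨fun h => hzf E.z_K E.f_not_K (congrArg Subtype.val h), fun h => hzf E.z_K hfi' (congrArg Subtype.val h),
     fun h => hzf (inv_mem E.z_K) E.f_not_K (congrArg Subtype.val h),
     fun h => hzf (inv_mem E.z_K) hfi' (congrArg Subtype.val h), fun h => hzne (congrArg Subtype.val h).symm⟩
  have hjz' : E.j * E.z⁻¹ * E.j⁻¹ = E.z⁻¹ := by
    rw [show E.j * E.z⁻¹ * E.j⁻¹ = (E.j * E.z * E.j⁻¹)⁻¹ by group, E.j_z]
  have hjf' : E.j * E.f⁻¹ * E.j⁻¹ = E.f := by
    rw [show E.j * E.f⁻¹ * E.j⁻¹ = (E.j * E.f * E.j⁻¹)⁻¹ by group, E.j_f, inv_inv]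
  have pa : π a = a := Subtype.ext E.j_z
  have pa' : π a' = a' := Subtype.ext hjz'
  have pb : π b = b' := Subtype.ext E.j_f
  have pb' : π b' = b := Subtype.ext hjf'
  set π' := swap b b' * π with hπ'
  have qa : π' a = a := by rw [hπ', Perm.mul_apply, pa, swap_apply_of_ne_of_ne hd.1 hd.2.1]
  have qa' : π' a' = a' := by rw [hπ', Perm.mul_apply, pa', swap_apply_of_ne_of_ne hd.2.2.1 hd.2.2.2.1]
  have qb : π' b = b := by rw [hπ', Perm.mul_apply, pb, swap_apply_right]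
  have qb' : π' b' = b' := by rw [hπ', Perm.mul_apply, pb', swap_apply_left]
  have hfour : ∀ w, π (π w) = w → w = a ∨ w = a' ∨ w = b ∨ w = b' := by
    intro w hw
    have h := congrArg Subtype.val hw
    simp only [π, orbPerm_apply] at h
    rw [← conj_comp, E.j_sq] at h
    rcases E.orb_fixed_t (conj_eq_iff.1 h).symm with e | e | e | e
    · exact Or.inl (Subtype.ext e)
    · exact Or.inr (Or.inl (Subtype.ext e))
    · exact Or.inr (Or.inr (Or.inl (Subtype.ext e)))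
    · exact Or.inr (Or.inr (Or.inr (Subtype.ext e)))
  have hcomm : Commute (swap b b') π := by
    have := Equiv.mul_swap_eq_swap_mul π b b'
    rw [pb, pb', swap_comm b' b] at this
    exact this.symm
  have hπ4 : π ^ 4 = 1 := by
    rw [← map_pow, show (⟨E.j, E.j_mem_N⟩ : E.N) ^ 4 = 1 from Subtype.ext (by
      show E.j ^ 4 = 1
      rw [show 4 = 2 + 2 from rfl, pow_add, pow_two, E.j_sq, E.t_sq]), map_one]
  have h4' : π' ^ 4 = 1 := by
    rw [hπ', hcomm.mul_pow, hπ4, mul_one, show 4 = 2 * 2 from rfl, pow_mul, pow_two (swap b b'), swap_mul_self,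
      one_pow]
  have hsq : ∀ w, π' (π' w) = w → π' w = w := by
    intro w hw
    have e : π' (π' w) = π (π w) := by
      have : π' * π' = π * π := by
        rw [hπ', Commute.mul_mul_mul_comm hcomm.symm, swap_mul_self, one_mul]
      rw [← Perm.mul_apply, this, Perm.mul_apply]
    rcases hfour w (e.symm.trans hw) with rfl | rfl | rfl | rfl
    exacts [qa, qa', qb, qb']
  have h16 : π'.support.card = 16 := by
    have hsupp : π'.support = Finset.univ \ {a, a', b, b'} := by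
      ext w
      simp only [Perm.mem_support, Finset.mem_sdiff, Finset.mem_univ, true_and, Finset.mem_insert,
        Finset.mem_singleton]
      constructor
      · rintro h (rfl | rfl | rfl | rfl)
        exacts [h qa, h qa', h qb, h qb']
      · intro h hw
        refine h (hfour w ?_)
        have : π' * π' = π * π := by
          rw [hπ', Commute.mul_mul_mul_comm hcomm.symm, swap_mul_self, one_mul]
        rw [← Perm.mul_apply, ← this, Perm.mul_apply, hw, hw]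
    rw [hsupp, Finset.card_sdiff_of_subset (Finset.subset_univ _), Finset.card_univ, ← Nat.card_eq_fintype_card,
      E.orb_z_twenty.1]
    simp [hd.1, hd.2.1, hd.2.2.1, hd.2.2.2.1, hd.2.2.2.2, hbb]
  have hs := sign_four h4' h16 hsq
  rw [hπ', map_mul, sign_swap hbb, neg_one_mul] at hs
  rw [← neg_neg (sign π), hs]

/-- The subgroup generated by the 3-elements of the normalizer. -/
noncomputable def M0 : Subgroup G := Subgroup.closure {g : G | g ∈ E.N ∧ ∃ k : ℕ, g ^ 3 ^ k = 1}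

theorem M0_le : E.M0 ≤ E.N := (closure_le _).2 fun _ hg => hg.1

theorem three_M0 {g : G} (hg : g ∈ E.N) {k : ℕ} (hk : g ^ 3 ^ k = 1) : g ∈ E.M0 := subset_closure ⟨hg, k, hk⟩

theorem M0_conj {g x : G} (hg : g ∈ E.N) (hx : x ∈ E.M0) : g * x * g⁻¹ ∈ E.M0 := by
  have h : E.M0.map (MulAut.conj g).toMonoidHom ≤ E.M0 := by
    rw [M0, MonoidHom.map_closure, closure_le]
    rintro _ ⟨w, ⟨hw, k, hk⟩, rfl⟩
    refine E.three_M0 (mul_mem (mul_mem hg hw) (inv_mem hg)) (k := k) ?_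
    show (g * w * g⁻¹) ^ 3 ^ k = 1
    rw [conj_pow, hk, mul_one, mul_inv_cancel]
  exact h ⟨x, hx, rfl⟩

theorem S_le_M0 : E.S ≤ E.M0 := fun x hx => by
  obtain ⟨k, hk⟩ := E.S_three ⟨x, hx⟩
  exact E.three_M0 (E.S_le_N hx) (k := k) (congrArg Subtype.val hk)

theorem σ_M0 : E.σ ∈ E.M0 := by
  obtain ⟨k, hk⟩ := E.σ_three
  exact E.three_M0 E.σ_mem_N hk

theorem t_M0 : E.t ∈ E.M0 := by
  have h := mul_mem E.σ_M0 (E.M0_conj E.T_mem_N (inv_mem E.σ_M0))
  rwa [show E.σ * (E.T * E.σ⁻¹ * E.T⁻¹) = E.σ * E.T * E.σ⁻¹ * E.T⁻¹ by group, E.σ_T, E.T_t.eq,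
    mul_inv_cancel_right] at h

theorem T_M0 : E.T ∈ E.M0 := by
  have h := mul_mem (mul_mem E.σ_M0 (E.M0_conj E.t_mem_N (inv_mem E.σ_M0))) E.t_M0
  rwa [show E.σ * (E.t * E.σ⁻¹ * E.t⁻¹) * E.t = E.σ * E.t * E.σ⁻¹ by group, E.σ_t] at h

theorem u_M0 : E.u ∈ E.M0 := by
  have h := mul_mem E.T_M0 (E.M0_conj E.j_mem_N E.T_M0)
  rcases E.T_u_exists with e | e
  · rwa [e] at h
  · rw [e] at h
    have h2 := mul_mem h E.t_M0
    rwa [mul_assoc, E.t_sq, mul_one] at h2

theorem card_M0 : Nat.card E.M0 = 29160 := by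
  classical
  haveI := Fintype.ofFinite (orb E.N E.z)
  -- at least half
  have h1 := card_conj_orbit E.M0 E.z
  have h20 := E.twenty_le ((le_sup_left : E.K ≤ E.S).trans E.S_le_M0) E.T_M0 E.u_M0
  have hst : 1458 ≤ Nat.card ↥(E.M0 ⊓ centralizer ({E.z} : Set G)) := by
    set A := E.M0 ⊓ centralizer ({E.z} : Set G)
    have h3 : 729 ∣ Nat.card A := by
      rw [← E.card_S]
      exact card_dvd_of_le (le_inf E.S_le_M0 E.S_le_Zc)
    have h2 : 2 ∣ Nat.card A := by
      rw [← E.t_ord]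
      exact Subgroup.orderOf_dvd_natCard _ ⟨E.t_M0, mem_cent_iff.2 E.z_t.symm⟩
    exact Nat.le_of_dvd Nat.card_pos ((show Nat.Coprime 2 729 by norm_num).mul_dvd_of_dvd_of_dvd h2 h3)
  have hge : 29160 ≤ Nat.card E.M0 := by
    rw [h1]
    exact le_trans (by norm_num) (Nat.mul_le_mul (show 20 ≤ Nat.card {w : G // ∃ m ∈ E.M0, m * E.z * m⁻¹ = w} from h20) hst)
  -- at most half
  let χ : E.N →* ℤˣ := sign.comp E.orbPerm
  have hker : ∀ g (hg : g ∈ E.M0), χ ⟨g, E.M0_le hg⟩ = 1 := by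
    intro g hg
    have hle : E.M0 ≤ χ.ker.map E.N.subtype := by
      rw [M0, closure_le]
      rintro w ⟨hw, k, hk⟩
      refine ⟨⟨w, hw⟩, ?_, rfl⟩
      show χ ⟨w, hw⟩ = 1
      have h := congrArg χ (show (⟨w, hw⟩ : E.N) ^ 3 ^ k = 1 from Subtype.ext hk)
      rw [map_pow, map_one] at h
      rcases Int.units_eq_one_or (χ ⟨w, hw⟩) with e | e
      · exact e
      · rw [e, (Odd.pow (by decide : Odd 3)).neg_one_pow] at h
        exact absurd h (by decide)
    obtain ⟨w, hw, e⟩ := hle hg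
    exact (Subtype.ext e : w = ⟨g, E.M0_le hg⟩) ▸ hw
  have hlt : E.M0.subgroupOf E.N ≠ ⊤ := fun htop => by
    have hj : E.j ∈ E.M0 := subgroupOf_eq_top.1 htop E.j_mem_N
    have h := hker _ hj
    rw [show χ ⟨E.j, E.M0_le hj⟩ = -1 from E.sign_j] at h
    exact absurd h (by decide)
  have h := (E.M0.subgroupOf E.N).card_mul_index
  rw [Nat.card_congr (subgroupOfEquivOfLe E.M0_le).toEquiv, E.orb_z_twenty.2] at h
  have h2 := (E.M0.subgroupOf E.N).one_lt_index_of_ne_top hlt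
  nlinarith

theorem J_le_M0 : E.J ≤ E.M0 := E.J_le_S.trans E.S_le_M0

theorem K_conj_u {x : G} (hx : x ∈ E.K) : E.u * x * E.u⁻¹ ∈ E.K :=
  Invol.TwoAn.coreIn_conj (fun a => by
    rw [mem_cent_iff, mem_cent_iff, commute_conj_iff,
      show E.u⁻¹ * E.z * E.u = E.z⁻¹ by
        calc E.u⁻¹ * E.z * E.u = (E.u⁻¹ * E.z⁻¹ * E.u)⁻¹ := by group
          _ = (E.u⁻¹ * (E.u * E.z * E.u⁻¹) * E.u)⁻¹ := by rw [E.u_z]
          _ = _ := by group,
      Commute.inv_right_iff]) hx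

theorem inverted_outside {A : Subgroup G} (hA : A ≤ E.K) (ht : ∀ x ∈ A, E.t * x * E.t⁻¹ ∈ A) (hzA : E.z ∈ A)
    (h : 27 < Nat.card A) : ∃ i ∈ A, E.t * i * E.t⁻¹ = i⁻¹ ∧ i ∉ E.J := by
  by_contra hno
  push Not at hno
  have hodd : Odd (Nat.card A) := E.K_odd.of_dvd_nat (card_dvd_of_le hA)
  have hKJ : Odd (Nat.card ↥(E.K ⊓ E.J)) := by rw [E.card_K_inf_J]; exact ⟨13, rfl⟩
  have h1 := Invol.SmallCent.card_eq_fixed_mul_inverted A hodd E.t_sq ht
  have h2 := Invol.SmallCent.card_eq_fixed_mul_inverted (E.K ⊓ E.J) hKJ E.t_sq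
    (fun x hx => ⟨E.K_conj E.z_t.symm hx.1, E.conj_mem_J E.t_conj_P hx.2⟩)
  have e1 : A ⊓ centralizer ({E.t} : Set G) = (E.K ⊓ E.J) ⊓ centralizer ({E.t} : Set G) := by
    refine le_antisymm (fun x hx => ?_) fun x hx => ?_
    · exact ⟨⟨hA hx.1, E.P_le_J (zpowers_le.2 E.z_mem_P (E.K_inf_C (hA hx.1) (mem_cent_iff.1 hx.2)))⟩, hx.2⟩
    · exact ⟨zpowers_le.2 hzA (E.K_inf_C hx.1.1 (mem_cent_iff.1 hx.2)), hx.2⟩
  rw [e1] at h1
  have h3 : Nat.card (Invol.SmallCent.inverted A E.t) ≤ Nat.card (Invol.SmallCent.inverted (E.K ⊓ E.J) E.t) :=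
    Nat.card_le_card_of_injective (fun i => (⟨i.1, ⟨hA i.2.1, hno i.1 i.2.1 i.2.2⟩, i.2.2⟩ :
      Invol.SmallCent.inverted (E.K ⊓ E.J) E.t)) fun a b e => Subtype.ext (congrArg Subtype.val e :)
  have h4 := Nat.mul_le_mul_left (Nat.card ↥((E.K ⊓ E.J) ⊓ centralizer ({E.t} : Set G))) h3
  rw [← h1, ← h2, E.card_K_inf_J] at h4
  omega

theorem mem_of_sq {R : Subgroup G} {x : G} (ho : Odd (orderOf x)) (h : E.t * x * E.t⁻¹ * x⁻¹ ∈ R)
    (hi : E.t * x * E.t⁻¹ = x⁻¹) : x ∈ R := by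
  refine Invol.TwoAn.mem_of_sq_mem ho ?_
  rw [hi] at h
  rw [← inv_mem_iff, mul_inv_rev]
  exact h

/-- A normal subgroup of the group generated by the 3-elements lying over `J` is trivial or everything. -/
theorem normal_cases {R : Subgroup G} (hJR : E.J ≤ R) (hR : R ≤ E.M0)
    (hn : ∀ g ∈ E.M0, ∀ x ∈ R, g * x * g⁻¹ ∈ R) : R = E.J ∨ R = E.M0 := by
  classical
  haveI : Fact (Nat.Prime 3) := ⟨Nat.prime_three⟩
  haveI : Fact (Nat.Prime 2) := ⟨Nat.prime_two⟩
  by_cases hSR : E.S ≤ R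
  · right
    refine le_antisymm hR ((closure_le _).2 ?_)
    rintro g ⟨hgN, k, hk⟩
    have hg : g ∈ E.M0 := E.three_M0 hgN hk
    have hp : IsPGroup 3 (zpowers (⟨g, hg⟩ : E.M0)) := fun w => ⟨k, by
      obtain ⟨i, hi⟩ := w.2
      refine Subtype.ext ?_
      show (w : E.M0) ^ 3 ^ k = 1
      rw [← show (⟨g, hg⟩ : E.M0) ^ i = (w : E.M0) from hi, ← zpow_natCast, ← zpow_mul, mul_comm, zpow_mul,
        zpow_natCast, show (⟨g, hg⟩ : E.M0) ^ 3 ^ k = 1 from Subtype.ext hk, one_zpow]⟩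
    obtain ⟨A, hA⟩ := hp.exists_le_sylow
    obtain ⟨B, hB⟩ := (E.S_three.comap_of_injective E.M0.subtype E.M0.subtype_injective).exists_le_sylow
    obtain ⟨c, hc⟩ := MulAction.exists_smul_eq E.M0 A B
    have hfac : (Nat.card E.M0).factorization 3 = 6 := by
      rw [E.card_M0, show (29160 : ℕ) = 3 ^ 6 * 40 by norm_num, Nat.factorization_mul (by norm_num) (by norm_num),
        Finsupp.add_apply, Nat.Prime.factorization_pow (by norm_num), Finsupp.single_eq_same,
        Nat.factorization_eq_zero_of_not_dvd (by norm_num)]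
    have hBe : E.S.subgroupOf E.M0 = B := by
      refine eq_of_le_of_card_ge hB ?_
      rw [B.card_eq_multiplicity, hfac, Nat.card_congr (subgroupOfEquivOfLe E.S_le_M0).toEquiv, E.card_S]
      norm_num
    have h1 : c * ⟨g, hg⟩ * c⁻¹ ∈ (B : Subgroup E.M0) := by
      rw [← hc]
      exact Subgroup.smul_mem_pointwise_smul _ (MulAut.conj c) _ (hA (mem_zpowers _))
    rw [← hBe] at h1
    have h2 := hn (c : G)⁻¹ (inv_mem c.2) _ (hSR (mem_subgroupOf.1 h1))
    simpa [mul_assoc] using h2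
  left
  have hKR : ¬ E.K ≤ R := fun h => hSR (sup_le h (zpowers_le.2 (hJR (E.P_le_J E.f_mem_P))))
  -- the intersection with `S` is `J`
  have hRS : R ⊓ E.S = E.J := by
    refine le_antisymm ?_ (le_inf hJR E.J_le_S)
    by_contra hne
    obtain ⟨s, hs, hsJ⟩ := SetLike.not_le_iff_exists.1 hne
    set A := R ⊓ E.K
    have hs' : (s : G) ∈ (E.K : Set G) * (zpowers E.f : Set G) := by
      rw [← Subgroup.coe_mul_of_right_le_normalizer_left _ _
        (zpowers_le.2 (mem_normalizer_of_conj fun _ hx => E.K_conj E.z_f.symm hx))]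
      exact hs.2
    obtain ⟨k, hk, w, hw, rfl⟩ := hs'
    have hwJ : w ∈ E.J := zpowers_le.2 (E.P_le_J E.f_mem_P) hw
    have hkR : k ∈ R := by
      have := R.mul_mem hs.1 (R.inv_mem (hJR hwJ))
      rwa [mul_inv_cancel_right] at this
    have hkJ : k ∉ E.J := fun h => hsJ (mul_mem h hwJ)
    have hA27 : 27 < Nat.card A := by
      have h1 : E.K ⊓ E.J ≤ A := fun x hx => ⟨hJR hx.2, hx.1⟩
      have h2 := card_le_of_le h1
      rw [E.card_K_inf_J] at h2
      refine lt_of_le_of_ne h2 fun e => hkJ ?_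
      exact ((eq_of_le_of_card_ge h1 (by rw [E.card_K_inf_J, ← e])).ge (show k ∈ A from ⟨hkR, hk⟩)).2
    have hA81 : Nat.card A ≤ 81 := by
      have h := card_dvd_of_le (inf_le_right : A ≤ E.K)
      rw [E.card_K] at h
      obtain ⟨m, hm, hme⟩ := (Nat.dvd_prime_pow Nat.prime_three).1 (show Nat.card A ∣ 3 ^ 5 from h)
      rw [hme]
      refine (Nat.pow_le_pow_right (by norm_num) (show m ≤ 4 from ?_)).trans (by norm_num)
      by_contra hm4
      refine hKR ?_
      rw [← eq_of_le_of_card_ge (inf_le_right : A ≤ E.K) (by rw [E.card_K, hme, show m = 5 by omega]; norm_num)]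
      exact inf_le_left
    -- `u` squares to `t` and acts on a group of order three
    set B := E.K ⊓ E.J
    have hBA : B ≤ A := fun x hx => ⟨hJR hx.2, hx.1⟩
    have hAt : ∀ x ∈ A, E.t * x * E.t⁻¹ ∈ A := fun x hx => ⟨hn _ E.t_M0 x hx.1, E.K_conj E.z_t.symm hx.2⟩
    have hAu : ∀ x ∈ A, E.u * x * E.u⁻¹ ∈ A := fun x hx => ⟨hn _ E.u_M0 x hx.1, E.K_conj_u hx.2⟩
    obtain ⟨i, hiA, hti, hiJ⟩ := E.inverted_outside (A := A) inf_le_right hAt ⟨hJR (E.P_le_J E.z_mem_P), E.z_K⟩ hA27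
    have hBn : ∀ x ∈ E.K, ∀ b ∈ B, x * b * x⁻¹ ∈ B := fun x hx b hb => by
      refine ⟨E.K.mul_mem (E.K.mul_mem hx hb.1) (E.K.inv_mem hx), ?_⟩
      exact (mem_normalizer_iff.1 (E.K_le_N hx) b).1 hb.2
    have hi_n : zpowers i ≤ normalizer (B : Set G) := zpowers_le.2 (mem_normalizer_of_conj (hBn i hiA.2))
    have hgen : ∀ x ∈ A, ∃ e : Fin 3, x * (i ^ (e : ℕ))⁻¹ ∈ B := by
      have hD : B ⊔ zpowers i = A := by
        refine eq_of_le_of_card_ge (sup_le hBA (zpowers_le.2 hiA)) ?_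
        have hlt : 27 < Nat.card ↥(B ⊔ zpowers i) := by
          have h2 := card_le_of_le (le_sup_left : B ≤ B ⊔ zpowers i)
          rw [E.card_K_inf_J] at h2
          refine lt_of_le_of_ne h2 fun e => hiJ ?_
          exact ((eq_of_le_of_card_ge (le_sup_left : B ≤ B ⊔ zpowers i) (by rw [E.card_K_inf_J, ← e])).ge
            (mem_sup_right (mem_zpowers i))).2
        have h3 := card_dvd_of_le (sup_le hBA (zpowers_le.2 hiA) : B ⊔ zpowers i ≤ A)
        have h4 := card_dvd_of_le (inf_le_right : A ≤ E.K)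
        rw [E.card_K] at h4
        obtain ⟨m, hm, hme⟩ := (Nat.dvd_prime_pow Nat.prime_three).1
          (show Nat.card ↥(B ⊔ zpowers i) ∣ 3 ^ 5 from h3.trans h4)
        rw [hme] at hlt ⊢
        have : 4 ≤ m := by
          by_contra hm4
          have := Nat.pow_le_pow_right (show 0 < 3 by norm_num) (show m ≤ 3 by omega)
          omega
        exact hA81.trans ((show 81 = 3 ^ 4 by norm_num).le.trans (Nat.pow_le_pow_right (by norm_num) this))
      intro x hx
      have hx' : x ∈ (B : Set G) * (zpowers i : Set G) := by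
        rw [← Subgroup.coe_mul_of_right_le_normalizer_left _ _ hi_n, hD]; exact hx
      obtain ⟨b, hb, q, hq, rfl⟩ := hx'
      obtain ⟨e, rfl⟩ := eq_pow_of_mem_zpowers (E.K_cube hiA.2) hq
      exact ⟨e, by rwa [mul_inv_cancel_right]⟩
    obtain ⟨e, he⟩ := hgen _ (hAu i hiA)
    have hstep : E.t * i * E.t⁻¹ * (i ^ ((e : ℕ) * (e : ℕ)))⁻¹ ∈ B := by
      set b := E.u * i * E.u⁻¹ * (i ^ (e : ℕ))⁻¹
      have e1 : E.u * i * E.u⁻¹ = b * i ^ (e : ℕ) := by
        show _ = E.u * i * E.u⁻¹ * (i ^ (e : ℕ))⁻¹ * i ^ (e : ℕ)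
        rw [inv_mul_cancel_right]
      have hub : E.u * b * E.u⁻¹ ∈ B := ⟨E.K_conj_u he.1, E.conj_mem_J E.u_conj_P he.2⟩
      rw [← E.u_sq, conj_comp, e1, conj_mul', ← conj_pow, e1]
      -- `(b * w) ^ e` is `w ^ e` up to `B`
      set w := i ^ (e : ℕ)
      have hw : w ∈ E.K := pow_mem hiA.2 _
      have hpow : ∀ n : ℕ, (b * w) ^ n * (w ^ n)⁻¹ ∈ B := by
        intro n
        induction n with
        | zero => simp
        | succ n ih =>
          rw [pow_succ', pow_succ',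
            show b * w * (b * w) ^ n * (w * w ^ n)⁻¹ = b * (w * ((b * w) ^ n * (w ^ n)⁻¹) * w⁻¹) by group]
          exact mul_mem he (hBn w hw _ ih)
      rw [pow_mul, mul_assoc]
      exact mul_mem hub (hpow _)
    have hsq : ((e : ℕ) * (e : ℕ)) % 3 = 1 ∨ e = 0 :=
      (by decide : ∀ e : Fin 3, ((e : ℕ) * (e : ℕ)) % 3 = 1 ∨ e = 0) e
    rcases hsq with h1 | rfl
    · rw [pow_mod_three (E.K_cube hiA.2), h1, pow_one] at hstep
      exact hiJ (E.mem_of_sq (E.K_odd.of_dvd_nat (Subgroup.orderOf_dvd_natCard _ hiA.2)) hstep hti).2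
    · simp only [Fin.val_zero, pow_zero, inv_one, mul_one, mul_zero] at hstep
      rw [hti] at hstep
      exact hiJ (inv_mem_iff.1 hstep).2
  -- the order
  have hdvd : Nat.card R ∣ 3240 := by
    set RM := R.subgroupOf E.M0
    haveI : RM.Normal := ⟨fun a ha g => mem_subgroupOf.2 (hn g g.2 a (mem_subgroupOf.1 ha))⟩
    set SM := E.S.subgroupOf E.M0
    have h1 : RM.relIndex SM * Nat.card ↥(R ⊓ E.S) = 729 := by
      rw [← E.card_S, ← Nat.card_congr (subgroupOfEquivOfLe E.S_le_M0).toEquiv,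
        ← Nat.card_congr (subgroupOfEquivOfLe (inf_le_left.trans hR : R ⊓ E.S ≤ E.M0)).toEquiv,
        show (R ⊓ E.S).subgroupOf E.M0 = RM ⊓ SM from Subgroup.comap_inf _ _ _]
      rw [← Subgroup.inf_relIndex_right, ← Subgroup.relIndex_bot_left SM, ← Subgroup.relIndex_bot_left (RM ⊓ SM),
        mul_comm, Subgroup.relIndex_mul_relIndex _ _ _ bot_le inf_le_right]
    rw [hRS, E.card_J] at h1
    have h2 : RM.relIndex SM ∣ RM.index := Subgroup.relIndex_dvd_index_of_normal _ _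
    have h3 := RM.card_mul_index
    rw [Nat.card_congr (subgroupOfEquivOfLe hR).toEquiv, E.card_M0] at h3
    have h9 : RM.relIndex SM = 9 := by omega
    rw [h9] at h2
    obtain ⟨q, hq⟩ := h2
    rw [hq] at h3
    exact ⟨q, by nlinarith⟩
  -- no involution
  have hodd : Odd (Nat.card R) := by
    rcases odd_or_invol (R := R) with h | ⟨v, hv, hv2, hv1⟩
    · exact h
    exfalso
    set D := (zpowers E.u ⊔ zpowers E.T : Subgroup G)
    have huT : E.T * E.u * E.T⁻¹ = E.u * E.t := by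
      have h := E.u_T
      calc E.T * E.u * E.T⁻¹ = E.T * (E.u * E.T * E.u⁻¹)⁻¹ * E.u := by group
        _ = E.T * (E.T * E.t)⁻¹ * E.u := by rw [h]
        _ = _ := by
          rw [mul_inv_rev, E.t_inv, E.T_inv, ← mul_assoc E.T, E.T_t.eq, mul_assoc E.t, E.T_sq, mul_one]
          exact E.u_t.eq.symm
    have hu4 : E.u ^ 4 = 1 := by rw [show 4 = 2 + 2 from rfl, pow_add, pow_two, E.u_sq, E.t_sq]
    have hn' : zpowers E.T ≤ normalizer ((zpowers E.u : Subgroup G) : Set G) :=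
      zpowers_le.2 (mem_normalizer_of_conj fun x hx => by
        obtain ⟨i, rfl⟩ := hx
        rw [← conj_zpow, huT]
        exact zpow_mem (mul_mem (mem_zpowers _) (E.u_sq ▸ mul_mem (mem_zpowers _) (mem_zpowers _))) i)
    have hD2 : IsPGroup 2 D := IsPGroup.to_sup_of_normal_left' (fun w => ⟨2, by
      obtain ⟨i, hi⟩ := w.2
      refine Subtype.ext ?_
      show (w : G) ^ 2 ^ 2 = 1
      rw [← show E.u ^ i = (w : G) from hi, ← zpow_natCast, ← zpow_mul, mul_comm, zpow_mul, zpow_natCast,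
        show (2 : ℕ) ^ 2 = 4 from rfl, hu4, one_zpow]⟩) (isPGroup_zpowers E.T_sq) hn'
    have hDM : D ≤ E.M0 := sup_le (zpowers_le.2 E.u_M0) (zpowers_le.2 E.T_M0)
    have hTu : E.T ∉ zpowers E.u := fun h => by
      obtain ⟨i, hi⟩ := h
      have := conj_eq_iff.2 ((Commute.refl E.u).zpow_right i)
      rw [show E.u ^ i = E.T from hi, E.u_T] at this
      exact E.t_ne (mul_eq_left.1 this)
    obtain ⟨A, hA⟩ := (IsPGroup.of_card (n := 1) (by
      rw [Nat.card_zpowers, ← Subgroup.orderOf_coe, orderOf_eq_prime (x := v) (by rw [pow_two, hv2]) hv1, pow_one]) :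
        IsPGroup 2 (zpowers (⟨v, hR hv⟩ : E.M0))).exists_le_sylow
    obtain ⟨B, hB⟩ := (hD2.comap_of_injective E.M0.subtype E.M0.subtype_injective).exists_le_sylow
    obtain ⟨c, hc⟩ := MulAction.exists_smul_eq E.M0 A B
    have hfac : (Nat.card E.M0).factorization 2 = 3 := by
      rw [E.card_M0, show (29160 : ℕ) = 2 ^ 3 * 3645 by norm_num, Nat.factorization_mul (by norm_num) (by norm_num),
        Finsupp.add_apply, Nat.Prime.factorization_pow (by norm_num), Finsupp.single_eq_same,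
        Nat.factorization_eq_zero_of_not_dvd (by norm_num)]
    have hBe : D.subgroupOf E.M0 = B := by
      refine eq_of_le_of_card_ge hB ?_
      rw [B.card_eq_multiplicity, hfac, Nat.card_congr (subgroupOfEquivOfLe hDM).toEquiv]
      have h4 : Nat.card (zpowers E.u) = 4 := by
        rw [Nat.card_zpowers]
        refine orderOf_eq_prime_pow (p := 2) (n := 1) ?_ hu4
        rw [pow_one, pow_two, E.u_sq]
        exact E.t_ne
      have hlt : 4 < Nat.card D := by
        have h5 := card_le_of_le (le_sup_left : zpowers E.u ≤ D)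
        rw [h4] at h5
        refine lt_of_le_of_ne h5 fun e => hTu ?_
        exact (eq_of_le_of_card_ge (le_sup_left : zpowers E.u ≤ D) (by rw [h4, ← e])).ge
          (mem_sup_right (mem_zpowers _))
      obtain ⟨m, hm⟩ := IsPGroup.iff_card.1 hD2
      rw [hm] at hlt ⊢
      exact Nat.pow_le_pow_right (by norm_num) (show 3 ≤ m by
        by_contra h3
        have := Nat.pow_le_pow_right (show 0 < 2 by norm_num) (show m ≤ 2 by omega)
        omega)
    have h1 : c * ⟨v, hR hv⟩ * c⁻¹ ∈ (B : Subgroup E.M0) := by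
      rw [← hc]
      exact Subgroup.smul_mem_pointwise_smul _ (MulAut.conj c) _ (hA (mem_zpowers _))
    rw [← hBe] at h1
    set w := (c : G) * v * (c : G)⁻¹ with hwdef
    have hwD : w ∈ D := mem_subgroupOf.1 h1
    have hwR : w ∈ R := hn _ c.2 v hv
    have hw2 : w * w = 1 := by rw [hwdef, ← conj_mul', hv2, mul_one, mul_inv_cancel]
    have hw1 : w ≠ 1 := mt conj_eq_one_iff.1 hv1
    have htR : E.t ∈ R := by
      have hw' : w ∈ ((zpowers E.u : Subgroup G) : Set G) * (zpowers E.T : Set G) := by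
        rw [← Subgroup.coe_mul_of_right_le_normalizer_left _ _ hn']; exact hwD
      obtain ⟨a, ⟨i, hi⟩, b, ⟨k, hk⟩, hab⟩ := hw'
      have hau : Commute E.u a := by rw [← hi]; exact (Commute.refl E.u).zpow_right i
      have hb : b = 1 ∨ b = E.T := by
        have h2 : E.T ^ (2 : ℤ) = 1 := by rw [zpow_ofNat, pow_two, E.T_sq]
        rcases Int.even_or_odd' k with ⟨l, rfl | rfl⟩
        · left; rw [← hk]; show E.T ^ (2 * l) = 1; rw [zpow_mul, h2, one_zpow]
        · right; rw [← hk]; show E.T ^ (2 * l + 1) = E.T; rw [zpow_add, zpow_mul, h2, one_zpow, one_mul, zpow_one]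
      rcases hb with rfl | rfl
      · have hwa : w = a := hab.symm.trans (mul_one a)
        obtain ⟨l, hl, hla⟩ := Finset.mem_image.1
          ((mem_zpowers_iff_mem_range_orderOf).1 (show a ∈ zpowers E.u from ⟨i, hi⟩))
        have h4 : orderOf E.u = 4 := orderOf_eq_prime_pow (p := 2) (n := 1) (by
          rw [pow_one, pow_two, E.u_sq]; exact E.t_ne) hu4
        rw [Finset.mem_range, h4] at hl
        rw [hwa, ← hla] at hw1 hw2 hwR
        rw [← pow_add] at hw2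
        have hd := orderOf_dvd_of_pow_eq_one hw2
        rw [h4] at hd
        interval_cases l
        · exact absurd (pow_zero _) hw1
        · norm_num at hd
        · rwa [pow_two, E.u_sq] at hwR
        · norm_num at hd
      · have h2 := R.mul_mem (hn _ E.u_M0 w hwR) hwR
        have e1 : E.u * w * E.u⁻¹ = w * E.t := by rw [← hab, conj_mul', conj_eq_iff.2 hau, E.u_T, mul_assoc]
        have e2 : E.t * w = w * E.t := (show Commute w E.t by
            rw [← hab, ← hi]; exact ((E.u_t).zpow_left i).mul_left E.T_t).eq.symm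
        rwa [e1, mul_assoc, e2, ← mul_assoc, hw2, one_mul] at h2
    -- `t` inverts a complement in `K`
    obtain ⟨i, hiK, hti, hiJ⟩ := E.inverted_outside le_rfl (fun x hx => E.K_conj E.z_t.symm hx) E.z_K
      (by rw [E.card_K]; norm_num)
    refine hiJ (E.mem_of_sq (E.K_odd.of_dvd_nat (Subgroup.orderOf_dvd_natCard _ hiK)) ?_ hti)
    rw [← hRS]
    refine ⟨?_, mem_sup_left (mul_mem (E.K_conj E.z_t.symm hiK) (inv_mem hiK))⟩
    have h := R.mul_mem htR (hn i (E.S_le_M0 (mem_sup_left hiK)) _ (R.inv_mem htR))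
    rwa [show E.t * (i * E.t⁻¹ * i⁻¹) = E.t * i * E.t⁻¹ * i⁻¹ by group] at h
  by_cases h5 : 5 ∣ Nat.card R
  swap
  · refine (eq_of_le_of_card_ge hJR ?_).symm
    rw [E.card_J]
    have h81 : Nat.card R ∣ 81 := by
      rw [show (3240 : ℕ) = 81 * (2 ^ 3 * 5) by norm_num] at hdvd
      exact Nat.Coprime.dvd_of_dvd_mul_right ((Nat.Coprime.pow_right 3 (Nat.coprime_two_right.2 hodd)).mul_right
        ((Nat.prime_five.coprime_iff_not_dvd.2 h5).symm)) hdvd
    exact Nat.le_of_dvd (by norm_num) h81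
  exfalso
  -- `t` centralizes the quotient of order five
  have h405 : Nat.card R = 405 := by
    have h81 : 81 ∣ Nat.card R := E.card_J ▸ card_dvd_of_le hJR
    have h1 : Nat.card R ∣ 405 := by
      rw [show (3240 : ℕ) = 405 * 2 ^ 3 by norm_num] at hdvd
      exact Nat.Coprime.dvd_of_dvd_mul_right (Nat.Coprime.pow_right 3 (Nat.coprime_two_right.2 hodd)) hdvd
    obtain ⟨a, ha⟩ := h81
    obtain ⟨b, hb⟩ := h5
    have hle := Nat.le_of_dvd (by norm_num) h1
    have hpos : 0 < Nat.card R := Nat.card_pos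
    have : 405 ∣ Nat.card R := by omega
    obtain ⟨c, hc⟩ := this
    omega
  haveI : (E.J.subgroupOf E.M0).Normal := ⟨fun a ha g => mem_subgroupOf.2
    ((mem_normalizer_iff.1 (E.M0_le g.2) _).1 (mem_subgroupOf.1 ha))⟩
  set π := QuotientGroup.mk' (E.J.subgroupOf E.M0)
  set Rb : Subgroup (E.M0 ⧸ E.J.subgroupOf E.M0) := (R.subgroupOf E.M0).map π
  haveI hRn : (R.subgroupOf E.M0).Normal := ⟨fun a ha g => mem_subgroupOf.2 (hn g g.2 a (mem_subgroupOf.1 ha))⟩
  haveI : Rb.Normal := hRn.map π (QuotientGroup.mk'_surjective _)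
  have hRb5 : Nat.card Rb = 5 := by
    have h := (R.subgroupOf E.M0).card_mul_index
    have hidx : Rb.index = (R.subgroupOf E.M0).index :=
      index_map_eq _ (QuotientGroup.mk'_surjective _) (by
        rw [QuotientGroup.ker_mk']
        exact fun x hx => mem_subgroupOf.2 (hJR (mem_subgroupOf.1 hx)))
    have h2 := Rb.card_mul_index
    rw [hidx, ← index_eq_card] at h2
    have h3 := (E.J.subgroupOf E.M0).card_mul_index
    rw [Nat.card_congr (subgroupOfEquivOfLe E.J_le_M0).toEquiv, E.card_J, E.card_M0] at h3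
    rw [Nat.card_congr (subgroupOfEquivOfLe hR).toEquiv, h405, E.card_M0] at h
    nlinarith
  haveI : Fact (Nat.Prime 5) := ⟨Nat.prime_five⟩
  haveI : IsCyclic Rb := isCyclic_of_prime_card hRb5
  let act : E.M0 →* MulAut Rb := MulAut.conjNormal.comp π
  have hker : ∀ g : E.M0, act g = 1 := by
    intro g
    have hle : E.M0 ≤ act.ker.map E.M0.subtype := by
      conv_lhs => rw [M0]
      refine (closure_le _).2 ?_
      rintro w ⟨hw, k, hk⟩
      refine ⟨⟨w, E.three_M0 hw hk⟩, MonoidHom.mem_ker.2 (orderOf_eq_one_iff.1 ?_), rfl⟩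
      have h1 : orderOf (act ⟨w, E.three_M0 hw hk⟩) ∣ 3 ^ k := orderOf_dvd_of_pow_eq_one (by
        rw [← map_pow, show (⟨w, E.three_M0 hw hk⟩ : E.M0) ^ 3 ^ k = 1 from Subtype.ext hk, map_one])
      have h2 : orderOf (act ⟨w, E.three_M0 hw hk⟩) ∣ 2 ^ 2 := by
        refine (_root_.orderOf_dvd_natCard _).trans ?_
        rw [IsCyclic.card_mulAut, hRb5, Nat.totient_prime Nat.prime_five]
        norm_num
      exact Nat.eq_one_of_dvd_coprimes (Nat.Coprime.pow k 2 (by norm_num : Nat.Coprime 3 2)) h1 h2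
    obtain ⟨a, ha, e⟩ := hle g.2
    exact (Subtype.ext e : a = g) ▸ ha
  have htcomm : ∀ x ∈ R, E.t * x * E.t⁻¹ * x⁻¹ ∈ E.J := by
    intro x hx
    set tM : E.M0 := ⟨E.t, E.t_M0⟩
    set xM : E.M0 := ⟨x, hR hx⟩
    have h := congrArg Subtype.val (DFunLike.congr_fun (hker tM) ⟨π xM, ⟨xM, mem_subgroupOf.2 hx, rfl⟩⟩)
    simp only [act, MonoidHom.comp_apply, MulAut.conjNormal_apply, MulAut.one_apply, ← map_inv, ← map_mul] at h
    have h2 : tM * xM * tM⁻¹ * xM⁻¹ ∈ E.J.subgroupOf E.M0 := by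
      rw [← QuotientGroup.eq_one_iff]
      show π (tM * xM * tM⁻¹ * xM⁻¹) = 1
      rw [map_mul, h, ← map_mul, mul_inv_cancel, map_one]
    exact mem_subgroupOf.1 h2
  -- count the inverted elements
  have hfix5 : ¬ 5 ∣ Nat.card ↥(R ⊓ centralizer ({E.t} : Set G)) := by
    intro hd
    obtain ⟨⟨r, hr⟩, hr5⟩ := exists_prime_orderOf_dvd_card' 5 hd
    rw [Subgroup.orderOf_mk] at hr5
    have hrN : r ∈ E.N := E.M0_le (hR hr.1)
    have hrt : Commute r E.t := mem_cent_iff.1 hr.2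
    -- `r` fixes the four elements
    let F := {w : orb E.N E.z // Commute w.1 E.t}
    have hF : ∀ (g : zpowers r) (w : F), Commute ((g : G) * w.1.1 * (g : G)⁻¹) E.t := fun g w => by
      obtain ⟨i, hi⟩ := g.2
      have hgt : Commute (g : G) E.t := hi ▸ hrt.zpow_left i
      exact (hgt.mul_left w.2).mul_left hgt.inv_left
    letI : MulAction (zpowers r) F :=
      { smul := fun g w => ⟨E.orbPerm ⟨g, zpowers_le.2 hrN g.2⟩ w.1, hF g w⟩
        one_smul := fun w => Subtype.ext (Subtype.ext (by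
          show ((1 : zpowers r) : G) * w.1.1 * ((1 : zpowers r) : G)⁻¹ = w.1.1
          simp))
        mul_smul := fun g g' w => Subtype.ext (Subtype.ext (by
          show ((g * g' : zpowers r) : G) * w.1.1 * ((g * g' : zpowers r) : G)⁻¹ = _
          rw [Subgroup.coe_mul, conj_comp]; rfl)) }
    have hF4 : Nat.card F ≤ 4 := by
      let v : F → ({E.z, E.z⁻¹, E.f, E.f⁻¹} : Finset G) := fun w => ⟨w.1.1, by
        simp only [Finset.mem_insert, Finset.mem_singleton]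
        exact E.orb_fixed_t w.2⟩
      refine (Nat.card_le_card_of_injective v fun a b h =>
        Subtype.ext (Subtype.ext (congrArg Subtype.val h :))).trans ?_
      rw [Nat.card_eq_fintype_card, Fintype.card_coe]
      exact Finset.card_le_four
    have hall : ∀ w : F, r * w.1.1 * r⁻¹ = w.1.1 := by
      intro w
      haveI : Finite F := Subtype.finite
      have horb := MulAction.index_stabilizer (zpowers r) w
      have hd5 : (MulAction.stabilizer (zpowers r) w).index ∣ 5 := by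
        have := (MulAction.stabilizer (zpowers r) w).index_dvd_card
        rwa [Nat.card_zpowers, hr5] at this
      have h1 : (MulAction.stabilizer (zpowers r) w).index = 1 := by
        refine (Nat.prime_five.eq_one_or_self_of_dvd _ hd5).resolve_right fun h => ?_
        rw [h] at horb
        have := Set.ncard_le_card (MulAction.orbit (zpowers r) w)
        omega
      have hm : (⟨r, mem_zpowers r⟩ : zpowers r) ∈ MulAction.stabilizer (zpowers r) w := by
        rw [index_eq_one.1 h1]; exact mem_top _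
      exact congrArg (fun w : F => w.1.1) (MulAction.mem_stabilizer_iff.1 hm)
    have hz := hall ⟨⟨E.z, 1, one_mem _, by simp⟩, E.z_t⟩
    have hf := hall ⟨⟨E.f, E.T, E.T_mem_N, E.T_z⟩, E.f_t⟩
    have hr' := Subgroup.orderOf_dvd_natCard _ (E.mem_cP.2 ⟨conj_eq_iff.1 hz, conj_eq_iff.1 hf⟩)
    rw [hr5, E.card_cP] at hr'
    norm_num at hr'
  have hle81 : Nat.card ↥(R ⊓ centralizer ({E.t} : Set G)) ∣ 81 := by
    have h := card_dvd_of_le (inf_le_left : R ⊓ centralizer ({E.t} : Set G) ≤ R)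
    rw [h405, show (405 : ℕ) = 81 * 5 by norm_num] at h
    exact Nat.Coprime.dvd_of_dvd_mul_right ((Nat.prime_five.coprime_iff_not_dvd.2 hfix5).symm) h
  have e1 : R ⊓ centralizer ({E.t} : Set G) ≤ E.J := by
    intro x hx
    -- a 3-element of `R` lies in `J`
    obtain ⟨a, b, hab⟩ : ∃ a b : ℕ, Nat.card R = 5 * a ∧ orderOf x ∣ b ∧ b = 81 := ⟨81, 81, by omega,
      (Subgroup.orderOf_dvd_natCard _ hx).trans hle81, rfl⟩
    set xM : E.M0 := ⟨x, hR hx.1⟩
    have h5' : orderOf (π xM) ∣ 5 := by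
      rw [← hRb5]
      exact Subgroup.orderOf_dvd_natCard _ ⟨xM, mem_subgroupOf.2 hx.1, rfl⟩
    have h81' : orderOf (π xM) ∣ 81 := by
      refine (orderOf_map_dvd π xM).trans ?_
      rw [← Subgroup.orderOf_coe]
      exact (Subgroup.orderOf_dvd_natCard _ hx).trans hle81
    have h1 := orderOf_eq_one_iff.1 (Nat.eq_one_of_dvd_coprimes (show Nat.Coprime 5 81 by norm_num) h5' h81')
    exact mem_subgroupOf.1 ((QuotientGroup.eq_one_iff xM).1 h1)
  have h1 := Invol.SmallCent.card_eq_fixed_mul_inverted R hodd E.t_sq (hn _ E.t_M0)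
  have h2 := Invol.SmallCent.card_eq_fixed_mul_inverted E.J E.J_spec.2.1 E.t_sq
    (fun x hx => E.conj_mem_J E.t_conj_P hx)
  have e2 : R ⊓ centralizer ({E.t} : Set G) = E.J ⊓ centralizer ({E.t} : Set G) :=
    le_antisymm (le_inf e1 inf_le_right) (inf_le_inf_right _ hJR)
  have h3 : Nat.card (Invol.SmallCent.inverted R E.t) ≤ Nat.card (Invol.SmallCent.inverted E.J E.t) :=
    Nat.card_le_card_of_injective (fun i => (⟨i.1, E.mem_of_sq (hodd.of_dvd_nat (Subgroup.orderOf_dvd_natCard _ i.2.1))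
      (htcomm i.1 i.2.1) i.2.2, i.2.2⟩ : Invol.SmallCent.inverted E.J E.t)) fun a b e => Subtype.ext (congrArg Subtype.val e :)
  have h4 := Nat.mul_le_mul_left (Nat.card ↥(E.J ⊓ centralizer ({E.t} : Set G))) h3
  rw [e2] at h1
  rw [← h1, ← h2, h405, E.card_J] at h4
  omega

end Setup

end Cfsg.Agent.Spor.McLCent
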