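import Cfsg.Agent.Lib.Spor.McLCent.JGroup

/-!
The centralizer of `y` has order `972`.
-/

set_option autoImplicit false
set_option linter.unusedSectionVars false
set_option maxHeartbeats 800000

namespace Cfsg.Agent.Spor.McLCent

open Equiv Equiv.Perm Subgroup
open scoped Pointwise
open Cfsg.Agent.Invol.TwoAn (Cfg IsQuad)

universe u

variable {G : Type u} [Group G] [Finite G]

/-- Orbit and stabilizer for conjugation. -/
theorem card_conj_orbit (M : Subgroup G) (x : G) :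
    Nat.card M = Nat.card {w : G // ∃ m ∈ M, m * x * m⁻¹ = w} * Nat.card ↥(M ⊓ centralizer ({x} : Set G)) := by
  classical
  rw [← Nat.card_prod]
  let rep : {w : G // ∃ m ∈ M, m * x * m⁻¹ = w} → G := fun w => Classical.choose w.2
  have hrep : ∀ w, rep w ∈ M ∧ rep w * x * (rep w)⁻¹ = (w : G) := fun w => Classical.choose_spec w.2
  refine (Nat.card_eq_of_bijective (fun p => (⟨rep p.1 * p.2, mul_mem (hrep p.1).1 p.2.2.1⟩ : M))
    ⟨fun p q h => ?_, fun m => ?_⟩).symm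
  · have h' : rep p.1 * p.2 = rep q.1 * (q.2 : G) := congrArg Subtype.val h
    have e1 : ∀ p : {w : G // ∃ m ∈ M, m * x * m⁻¹ = w} × ↥(M ⊓ centralizer ({x} : Set G)),
        rep p.1 * p.2 * x * (rep p.1 * p.2)⁻¹ = (p.1 : G) := fun p => by
      rw [conj_comp, conj_eq_iff.2 (mem_cent_iff.1 p.2.2.2), (hrep p.1).2]
    have hw : p.1 = q.1 := Subtype.ext (by rw [← e1 p, h', e1 q])
    exact Prod.ext hw (Subtype.ext (mul_left_cancel (hw ▸ h')))
  · refine ⟨(⟨(m : G) * x * (m : G)⁻¹, m, m.2, rfl⟩, ⟨(rep ⟨(m : G) * x * (m : G)⁻¹, m, m.2, rfl⟩)⁻¹ * m,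
      M.mul_mem (M.inv_mem (hrep _).1) m.2, mem_cent_iff.2 (conj_eq_iff.1 ?_)⟩), Subtype.ext (mul_inv_cancel_left _ _)⟩
    set r := rep ⟨(m : G) * x * (m : G)⁻¹, m, m.2, rfl⟩
    have hr : r * x * r⁻¹ = (m : G) * x * (m : G)⁻¹ := (hrep _).2
    rw [conj_comp, ← hr]
    group

theorem mem_normalizer_of_conj {K : Subgroup G} {g : G} (h : ∀ x ∈ K, g * x * g⁻¹ ∈ K) :
    g ∈ normalizer (K : Set G) := mem_normalizer_fintype fun x hx => h x hx

theorem odd_or_invol {R : Subgroup G} : Odd (Nat.card R) ∨ ∃ v ∈ R, v * v = 1 ∧ v ≠ 1 := by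
  haveI : Fact (Nat.Prime 2) := ⟨Nat.prime_two⟩
  by_cases h : Odd (Nat.card R)
  · exact Or.inl h
  rw [Nat.not_odd_iff_even, even_iff_two_dvd] at h
  obtain ⟨⟨v, hv⟩, hv2⟩ := exists_prime_orderOf_dvd_card' 2 h
  rw [Subgroup.orderOf_mk] at hv2
  refine Or.inr ⟨v, hv, by rw [← pow_two, ← hv2, pow_orderOf_eq_one], fun e => ?_⟩
  rw [e, orderOf_one] at hv2; omega

namespace Setup

variable (E : Setup G)

/-- The normalizer of `J`. -/
noncomputable abbrev N : Subgroup G := normalizer (E.J : Set G)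

/-- The elements centralizing `y` and normalizing `J`. -/
noncomputable def M : Subgroup G := E.Y ⊓ E.N

theorem mem_M {g : G} : g ∈ E.M ↔ Commute g E.y ∧ g ∈ E.N := by
  rw [M, Subgroup.mem_inf, mem_cent_iff]

theorem mem_N_of_P {g : G} (hg : ∀ p ∈ E.P, g * p * g⁻¹ ∈ E.P) : g ∈ E.N :=
  mem_normalizer_of_conj fun _ hx => E.conj_mem_J hg hx

theorem M_le_Y : E.M ≤ E.Y := inf_le_left

theorem J_le_M : E.J ≤ E.M := fun x hx => E.mem_M.2 ⟨E.cP_comm (E.J_le_cP hx) E.y_mem_P,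
  mem_normalizer_of_conj fun a ha => by
    rw [conj_eq_iff.2 (E.J_comm hx ha)]
    exact ha⟩

theorem σ_mem_M : E.σ ∈ E.M := E.mem_M.2 ⟨E.σ_y, mem_normalizer_of_conj fun _ hx => E.σ_conj_J hx⟩

theorem t_mem_M : E.t ∈ E.M := E.mem_M.2 ⟨E.y_t.symm, E.mem_N_of_P E.t_conj_P⟩

theorem T_mem_M : E.T ∈ E.M := E.mem_M.2 ⟨E.T_y, E.mem_N_of_P E.T_conj_P⟩

theorem cP_le_M : E.cP ≤ E.M := fun g hg => E.mem_M.2 ⟨E.cP_comm hg E.y_mem_P, E.mem_N_of_P fun p hp => by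
  rw [conj_eq_iff.2 (E.cP_comm hg hp)]
  exact hp⟩

theorem cent_y_t_le {g : G} (hy : Commute g E.y) (ht : Commute g E.t) : g ∈ E.M := by
  obtain ⟨p, hp, e, c, rfl⟩ := E.Cy_form ht hy
  exact mul_mem (mul_mem (E.J_le_M (E.P_le_J hp)) (pow_mem E.T_mem_M _)) (pow_mem E.t_mem_M _)

theorem cent_y_invol_le {v g : G} (hv : v = E.t ∨ v = E.T ∨ v = E.T * E.t) (hy : Commute g E.y) (hg : Commute g v) :
    g ∈ E.M := by
  have pull : ∀ s, Commute s E.y → s * E.t * s⁻¹ = v → s⁻¹ * g * s ∈ E.M := fun s hs e =>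
    E.cent_y_t_le ((hs.inv_left.mul_left hy).mul_left hs) (by
      have := commute_conj (g := s⁻¹) hg
      rwa [inv_inv, show s⁻¹ * v * s = E.t by rw [← e]; group] at this)
  rcases hv with rfl | rfl | rfl
  · exact E.cent_y_t_le hy hg
  · have := pull _ E.σ_y E.σ_t
    rw [show g = E.σ * (E.σ⁻¹ * g * E.σ) * E.σ⁻¹ by group]
    exact mul_mem (mul_mem E.σ_mem_M this) (inv_mem E.σ_mem_M)
  · have := pull (E.σ * E.σ) (E.σ_y.mul_left E.σ_y) (by rw [conj_comp, E.σ_t, E.σ_T])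
    rw [show g = E.σ * E.σ * ((E.σ * E.σ)⁻¹ * g * (E.σ * E.σ)) * (E.σ * E.σ)⁻¹ by group]
    exact mul_mem (mul_mem (mul_mem E.σ_mem_M E.σ_mem_M) this) (inv_mem (mul_mem E.σ_mem_M E.σ_mem_M))

/-- Involutions in a subgroup of `C(y)` containing the four group and `σ` are conjugate there. -/
theorem invol_conj {R : Subgroup G} (hR : R ≤ E.Y) (htR : E.t ∈ R) (hTR : E.T ∈ R) (hσR : E.σ ∈ R) {v : G}
    (hv : v ∈ R) (hv2 : v * v = 1) (hv1 : v ≠ 1) : ∃ w ∈ R, w * E.t * w⁻¹ = v := by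
  have hV : IsPGroup 2 (zpowers E.t ⊔ zpowers E.T : Subgroup G) := by
    refine IsPGroup.to_sup_of_normal_right' (isPGroup_zpowers E.t_sq) (isPGroup_zpowers E.T_sq) ?_
    rintro x ⟨i, rfl⟩
    refine mem_normalizer_fintype ?_
    rintro w ⟨k, rfl⟩
    rw [(E.T_t.symm.zpow_zpow i k).eq, mul_inv_cancel_right]
    exact ⟨k, rfl⟩
  obtain ⟨g, hg, S, hS, hSR, hVS, hgS⟩ := exists_conj_le_two (isPGroup_zpowers hv2) (zpowers_le.2 hv) hV
    (sup_le (zpowers_le.2 htR) (zpowers_le.2 hTR))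
  have htS : E.t ∈ S := hVS (mem_sup_left (mem_zpowers _))
  have hTS : E.T ∈ S := hVS (mem_sup_right (mem_zpowers _))
  have hle := E.y_two_le hS fun x hx => mem_cent_iff.1 (hR (hSR hx))
  -- the four elements fill `S`
  classical
  haveI := Fintype.ofFinite S
  have hall : ∀ x ∈ S, x = 1 ∨ x = E.t ∨ x = E.T ∨ x = E.T * E.t := by
    intro x hx
    by_contra hno
    simp only [not_or] at hno
    obtain ⟨h1, h2, h3, h4⟩ := hno
    let l : Finset G := {1, E.t, E.T, E.T * E.t, x}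
    have hl : l.card = 5 := by
      have n4 : E.T * E.t ≠ 1 := fun e => E.T_ne_t ((eq_inv_of_mul_eq_one_left e).trans E.t_inv)
      have n5 : E.T * E.t ≠ E.t := fun e => E.T_ne_one (mul_eq_right.1 e)
      have n6 : E.T * E.t ≠ E.T := fun e => E.t_ne (mul_eq_left.1 e)
      simp [l, E.t_ne.symm, E.T_ne_one.symm, n4.symm, Ne.symm h1, E.T_ne_t.symm, n5.symm, Ne.symm h2, n6.symm,
        Ne.symm h3, Ne.symm h4]
    have hsub : ∀ a ∈ l, a ∈ S := by
      intro a ha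
      simp only [l, Finset.mem_insert, Finset.mem_singleton] at ha
      rcases ha with rfl | rfl | rfl | rfl | rfl
      exacts [one_mem _, htS, hTS, mul_mem hTS htS, hx]
    have := Nat.card_le_card_of_injective (fun a : l => (⟨a, hsub a a.2⟩ : S))
      fun a b h => Subtype.ext (congrArg Subtype.val h :)
    rw [Nat.card_eq_fintype_card, Fintype.card_coe, hl] at this
    omega
  obtain ⟨s, hs, hsv⟩ : ∃ s ∈ R, s * E.t * s⁻¹ = g * v * g⁻¹ := by
    rcases hall _ (hgS v (mem_zpowers v)) with e | e | e | e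
    · exact absurd (conj_eq_one_iff.1 e) hv1
    · exact ⟨1, one_mem _, by rw [e]; group⟩
    · exact ⟨E.σ, hσR, by rw [e, E.σ_t]⟩
    · exact ⟨E.σ * E.σ, mul_mem hσR hσR, by rw [e, conj_comp, E.σ_t, E.σ_T]⟩
  refine ⟨g⁻¹ * s, mul_mem (inv_mem hg) hs, ?_⟩
  rw [conj_comp, hsv]
  group

theorem card_cP : Nat.card E.cP = 162 := by
  classical
  have htJ : E.t ∉ E.J := fun h => by
    obtain ⟨k, hk⟩ := E.odd_of_J h
    rw [E.t_ord] at hk
    omega
  rw [show 162 = Nat.card E.J * Nat.card (Fin 2) by rw [E.card_J, Nat.card_fin], ← Nat.card_prod]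
  refine (Nat.card_eq_of_bijective (fun q : E.J × Fin 2 => (⟨(q.1 : G) * E.t ^ (q.2 : ℕ),
    mul_mem (E.J_le_cP q.1.2) (pow_mem (E.mem_cP.2 ⟨E.z_t.symm, E.f_t.symm⟩) _)⟩ : E.cP)) ⟨?_, ?_⟩).symm
  · rintro ⟨a, i⟩ ⟨b, k⟩ h
    have h' : (a : G) * E.t ^ (i : ℕ) = b * E.t ^ (k : ℕ) := congrArg Subtype.val h
    fin_cases i <;> fin_cases k <;> simp only [Fin.mk_one, Fin.zero_eta, Fin.val_zero, Fin.val_one, pow_zero,
      pow_one, mul_one] at h' ⊢
    · exact Prod.ext (Subtype.ext h') rfl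
    · exact absurd (show E.t = (b : G)⁻¹ * a by rw [h', inv_mul_cancel_left])
        fun e => htJ (e ▸ mul_mem (inv_mem b.2) a.2)
    · exact absurd (show E.t = (a : G)⁻¹ * b by rw [← h', inv_mul_cancel_left])
        fun e => htJ (e ▸ mul_mem (inv_mem a.2) b.2)
    · exact Prod.ext (Subtype.ext (mul_right_cancel h')) rfl
  · rintro ⟨x, hx⟩
    rcases E.cP_cases hx with h | h
    · exact ⟨(⟨x, h⟩, 0), Subtype.ext (by simp)⟩
    · exact ⟨(⟨x * E.t, h⟩, 1), Subtype.ext (by simp [mul_assoc, E.t_sq])⟩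

theorem M_inf_cz : E.M ⊓ centralizer ({E.z} : Set G) = E.cP := by
  refine le_antisymm (fun g hg => ?_) (le_inf E.cP_le_M fun g hg => mem_cent_iff.2 (E.mem_cP.1 hg).1)
  obtain ⟨h1, h2⟩ := hg
  have hz := mem_cent_iff.1 h2
  refine E.mem_cP.2 ⟨hz, ?_⟩
  have := hz.inv_right.mul_right (E.mem_M.1 h1).1
  rwa [show E.z⁻¹ * E.y = E.f by rw [y, inv_mul_cancel_left]] at this

theorem σ_not_J : E.σ ∉ E.J := fun h => by
  have h2 := card_le_of_le (show E.P1 ≤ E.P by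
    rintro _ ⟨p, hp, rfl⟩
    show E.σ * p * E.σ⁻¹ ∈ E.P
    rw [conj_eq_iff.2 (E.J_comm h (E.P_le_J hp))]
    exact hp)
  have h3 : E.P1 = E.P := eq_of_le_of_card_ge (show E.P1 ≤ E.P by
    rintro _ ⟨p, hp, rfl⟩
    show E.σ * p * E.σ⁻¹ ∈ E.P
    rw [conj_eq_iff.2 (E.J_comm h (E.P_le_J hp))]
    exact hp) (by rw [E.card_P, E.card_P1])
  have h4 := E.P_inf_P1
  rw [h3, inf_idem] at h4
  have h5 := E.card_P
  rw [h4, Nat.card_zpowers, E.y_ord] at h5
  omega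

/-- The subgroup generated by `J` and `σ`. -/
noncomputable def Jσ : Subgroup G := E.J ⊔ zpowers E.σ

theorem Jσ_three : IsPGroup 3 E.Jσ := by
  haveI : Fact (Nat.Prime 3) := ⟨Nat.prime_three⟩
  refine IsPGroup.to_sup_of_normal_left' (IsPGroup.of_card (n := 4) (by rw [E.card_J]; norm_num)) (fun w => ?_)
    (zpowers_le.2 (E.mem_M.1 E.σ_mem_M).2)
  obtain ⟨k, hk⟩ := E.σ_three
  obtain ⟨i, hi⟩ := w.2
  refine ⟨k, Subtype.ext ?_⟩
  show (w : G) ^ 3 ^ k = 1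
  rw [← show E.σ ^ i = (w : G) from hi, ← zpow_natCast, ← zpow_mul, mul_comm, zpow_mul, zpow_natCast, hk, one_zpow]

theorem Jσ_le_M : E.Jσ ≤ E.M := sup_le E.J_le_M (zpowers_le.2 E.σ_mem_M)

theorem card_Jσ_ge : 243 ≤ Nat.card E.Jσ := by
  haveI : Fact (Nat.Prime 3) := ⟨Nat.prime_three⟩
  obtain ⟨n, hn⟩ := IsPGroup.iff_card.1 E.Jσ_three
  have hlt : 81 < Nat.card E.Jσ := by
    have h := card_le_of_le (le_sup_left : E.J ≤ E.Jσ)
    rw [E.card_J] at h
    refine lt_of_le_of_ne h fun e => E.σ_not_J ?_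
    rw [eq_of_le_of_card_ge (le_sup_left : E.J ≤ E.Jσ) (by rw [E.card_J]; exact e.ge)]
    exact mem_sup_right (mem_zpowers _)
  rw [hn] at hlt ⊢
  calc 243 = 3 ^ 5 := by norm_num
    _ ≤ 3 ^ n := Nat.pow_le_pow_right (by norm_num) (by
      by_contra hlt'
      have := Nat.pow_le_pow_right (show 0 < 3 by norm_num) (show n ≤ 4 by omega)
      omega)

theorem odd_cent_le {R : Subgroup G} (hy : ∀ x ∈ R, Commute x E.y) (ht : ∀ x ∈ R, Commute x E.t)
    (ho : Odd (Nat.card R)) : Nat.card R ∣ 9 := by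
  rw [← E.card_P]
  exact card_dvd_of_le fun x hx => E.Cy_odd (ht x hx) (hy x hx) (ho.of_dvd_nat (Subgroup.orderOf_dvd_natCard _ hx))

theorem card_M : Nat.card E.M = 972 := by
  classical
  have horb := card_conj_orbit E.M E.z
  rw [E.M_inf_cz, E.card_cP] at horb
  set O := {w : G // ∃ m ∈ E.M, m * E.z * m⁻¹ = w}
  haveI := Fintype.ofFinite O
  -- a 2-part of four
  have h4 : ¬ 8 ∣ Nat.card E.M := by
    intro h
    haveI : Fact (Nat.Prime 2) := ⟨Nat.prime_two⟩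
    obtain ⟨R, hR⟩ := Sylow.exists_subgroup_card_pow_prime 2 (G := E.M) (n := 3) (by simpa using h)
    have := E.y_two_le ((IsPGroup.of_card hR).map E.M.subtype) fun x hx =>
      (E.mem_M.1 (map_subtype_le _ hx)).1
    rw [← Nat.card_congr (equivMapOfInjective R _ E.M.subtype_injective).toEquiv, hR] at this
    norm_num at this
  have h81 : 243 ∣ Nat.card E.M := by
    haveI : Fact (Nat.Prime 3) := ⟨Nat.prime_three⟩
    obtain ⟨n, hn⟩ := IsPGroup.iff_card.1 E.Jσ_three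
    have h1 := E.card_Jσ_ge
    rw [hn] at h1
    refine dvd_trans (show (243 : ℕ) ∣ 3 ^ n from ?_) (hn ▸ card_dvd_of_le E.Jσ_le_M)
    rw [show (243 : ℕ) = 3 ^ 5 by norm_num]
    exact pow_dvd_pow 3 ((Nat.pow_le_pow_iff_right (show 1 < 3 by norm_num)).1 (by simpa using h1))
  have h36 : 36 ∣ Nat.card E.M := by
    rw [← E.card_Cy]
    exact card_dvd_of_le fun g hg => E.cent_y_t_le (mem_cent_iff.1 hg.2) (E.mem_C.1 hg.1)
  -- the orbit is small
  have hOJ : ∀ w : O, (w : G) ∈ E.J := fun ⟨w, m, hm, e⟩ => e ▸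
    ((mem_normalizer_iff.1 (E.mem_M.1 hm).2) E.z).1 (E.P_le_J E.z_mem_P)
  have hOy : ∀ (w : O) (k : Fin 3), (w : G) * E.y ^ (k : ℕ) ∈ E.J := fun w k =>
    mul_mem (hOJ w) (pow_mem (E.P_le_J E.y_mem_P) _)
  have hzy : ∀ k : Fin 3, k ≠ 0 → ∀ m, Commute m E.y → m * E.z * m⁻¹ ≠ E.z * E.y ^ (k : ℕ) := by
    intro k hk m hm h
    fin_cases k <;> simp only [Fin.mk_one, Fin.zero_eta, Fin.isValue, Fin.reduceFinMk, Fin.val_one, Fin.val_two,
      pow_one, ne_eq, not_true_eq_false] at hk h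
    · refine E.y'_not_conj_z ((E.T * m)⁻¹) ?_
      have e : E.T * m * E.z * (E.T * m)⁻¹ = E.y' := by
        rw [conj_comp, h, conj_mul', conj_eq_iff.2 E.T_y, E.T_z, y, ← mul_assoc, ← E.z_f.eq, mul_assoc, y',
          show E.f * E.f = E.f⁻¹ from (inv_eq_of_mul_eq_one_right (by rw [← mul_assoc, ← pow_three',
            E.f_cube])).symm]
      rw [← e]
      group
    · have e1 : E.z * E.y ^ 2 = E.f ^ 2 := by
        rw [y, E.z_f.mul_pow, ← mul_assoc, ← pow_succ', E.z_cube, one_mul]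
      have hf : m * E.f * m⁻¹ = E.y' := by
        have ef : (E.f ^ 2)⁻¹ = E.f := inv_eq_of_mul_eq_one_right (by rw [← pow_succ, E.f_cube])
        calc m * E.f * m⁻¹ = m * (E.z⁻¹ * E.y) * m⁻¹ := by rw [y, inv_mul_cancel_left]
          _ = (m * E.z * m⁻¹)⁻¹ * (m * E.y * m⁻¹) := by group
          _ = E.f * E.y := by rw [h, e1, conj_eq_iff.2 hm, ef]
          _ = E.z * (E.f * E.f) := by rw [y, ← mul_assoc, ← E.z_f.eq, mul_assoc]
          _ = E.y' := by rw [y', show E.f * E.f = E.f⁻¹ from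
              (inv_eq_of_mul_eq_one_right (by rw [← mul_assoc, ← pow_three', E.f_cube])).symm]
      refine E.y'_not_conj_z (E.T * m⁻¹) ?_
      rw [conj_comp, ← hf, show m⁻¹ * (m * E.f * m⁻¹) * m⁻¹⁻¹ = E.f by group, E.T_f]
  have hinj : Function.Injective (fun p : O × Fin 3 => (⟨(p.1 : G) * E.y ^ (p.2 : ℕ), hOy p.1 p.2⟩ : E.J)) := by
    rintro ⟨⟨w, m, hm, e⟩, k⟩ ⟨⟨w', m', hm', e'⟩, l⟩ h
    have h' : w * E.y ^ (k : ℕ) = w' * E.y ^ (l : ℕ) := congrArg Subtype.val h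
    have key : w' = w * E.y ^ (((k : ℕ) + 2 * (l : ℕ)) % 3) := by
      rw [← pow_mod_three E.y_cube, pow_add, ← mul_assoc, h', mul_assoc, ← pow_add,
        show (l : ℕ) + 2 * l = 3 * l by ring, pow_mul, E.y_cube, one_pow, mul_one]
    have hk0 : ((k : ℕ) + 2 * (l : ℕ)) % 3 = 0 := by
      by_contra hne
      refine hzy ⟨_, Nat.mod_lt _ (by norm_num)⟩ (fun e0 => hne (congrArg Fin.val e0)) (m⁻¹ * m')
        ((E.mem_M.1 hm).1.inv_left.mul_left (E.mem_M.1 hm').1) ?_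
      show m⁻¹ * m' * E.z * (m⁻¹ * m')⁻¹ = E.z * E.y ^ (((k : ℕ) + 2 * (l : ℕ)) % 3)
      rw [conj_comp, e', key, ← e, conj_mul', inv_inv,
        show m⁻¹ * (m * E.z * m⁻¹) * m = E.z by group]
      congr 1
      have := conj_eq_iff.2 ((E.mem_M.1 hm).1.inv_left.pow_right (((k : ℕ) + 2 * (l : ℕ)) % 3))
      rwa [inv_inv] at this
    rw [hk0, pow_zero, mul_one] at key
    refine Prod.ext (Subtype.ext key.symm) (Fin.ext ?_)
    have := k.2
    have := l.2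
    simp only at hk0 ⊢
    omega
  have h78 : Nat.card O * 3 ≤ 81 := by
    rw [← E.card_J, ← Nat.card_fin 3, ← Nat.card_prod]
    exact Nat.card_le_card_of_injective _ hinj
  rw [horb] at h4 h81 h36 ⊢
  have h6 : 6 ∣ Nat.card O := by
    have h2 : 2 ∣ Nat.card O := by
      obtain ⟨a, ha⟩ := h36
      omega
    have h3 : 3 ∣ Nat.card O := by
      obtain ⟨a, ha⟩ := h81
      omega
    omega
  obtain ⟨r, hr⟩ := h6
  have hr4 : r ≤ 4 := by omega
  have hpos : 0 < Nat.card O := by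
    haveI : Nonempty O := ⟨⟨E.z, 1, one_mem _, by simp⟩⟩
    exact Nat.card_pos
  interval_cases r <;> rw [hr] at h4 h81 h36 hpos ⊢
  all_goals (try omega)
  -- order `2916`
  rw [hr] at horb
  exfalso
  haveI : Fact (Nat.Prime 3) := ⟨Nat.prime_three⟩
  obtain ⟨S0, hS0⟩ := (E.Jσ_three.comap_of_injective E.M.subtype E.M.subtype_injective).exists_le_sylow
  let φ : (S0 : Subgroup E.M) →* Perm (Sylow 3 E.M) :=
    (MulAction.toPermHom E.M (Sylow 3 E.M)).comp (S0 : Subgroup E.M).subtype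
  have hcS : Nat.card (S0 : Subgroup E.M) = 729 := by
    rw [S0.card_eq_multiplicity, horb, show 6 * 3 * 162 = 3 ^ 6 * 4 by norm_num,
      Nat.factorization_mul (by norm_num) (by norm_num), Finsupp.add_apply, Nat.Prime.factorization_pow (by norm_num),
      Finsupp.single_eq_same, Nat.factorization_eq_zero_of_not_dvd (by norm_num)]
    norm_num
  have hn4 : Nat.card (Sylow 3 E.M) ≤ 4 := by
    have h1 := S0.card_dvd_index
    have h2 := (S0 : Subgroup E.M).card_mul_index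
    rw [hcS, horb] at h2
    exact Nat.le_of_dvd (by norm_num) (by rwa [show (S0 : Subgroup E.M).index = 4 by omega] at h1)
  set R := φ.ker
  have hR : 243 ≤ Nat.card R := by
    have h := φ.ker.card_mul_index
    rw [index_ker, hcS] at h
    have hd : Nat.card φ.range ∣ 24 := by
      refine (card_subgroup_dvd_card _).trans ?_
      rw [Nat.card_perm]
      exact (Nat.factorial_dvd_factorial hn4).trans (by norm_num)
    have hd2 : Nat.card φ.range ∣ 3 ^ 6 := ⟨Nat.card φ.ker, ((mul_comm _ _).trans h).symm⟩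
    have h3 : Nat.card φ.range ∣ 3 := (Nat.dvd_gcd hd hd2).trans (by norm_num)
    have := Nat.le_of_dvd (by norm_num) h3
    nlinarith
  set R' : Subgroup E.M := R.map (S0 : Subgroup E.M).subtype
  have hR'S : ∀ S : Sylow 3 E.M, R' ≤ S := by
    rintro S _ ⟨a, ha, rfl⟩
    have hfix : (a : E.M) • S = S := DFunLike.congr_fun (MonoidHom.mem_ker.1 ha) S
    have hn : (a : E.M) ∈ normalizer ((S : Subgroup E.M) : Set E.M) :=
      Sylow.smul_eq_iff_mem_normalizer.1 hfix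
    have hp := S.isPGroup'.to_sup_of_normal_left' ((S0.isPGroup'.to_le (zpowers_le.2 a.2)))
      (zpowers_le.2 hn)
    exact S.is_maximal' hp le_sup_left ▸ mem_sup_right (mem_zpowers _)
  set R1 : Subgroup G := (⨅ S : Sylow 3 E.M, (S : Subgroup E.M)).map E.M.subtype
  have hR1n : ∀ g ∈ E.M, ∀ x ∈ R1, g * x * g⁻¹ ∈ R1 := by
    rintro g hg _ ⟨x, hx, rfl⟩
    refine ⟨⟨g, hg⟩ * x * ⟨g, hg⟩⁻¹, mem_iInf.2 fun S => ?_, rfl⟩
    have h1 := Subgroup.smul_mem_pointwise_smul _ (MulAut.conj (⟨g, hg⟩ : E.M)) _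
      (mem_iInf.1 hx ((⟨g, hg⟩ : E.M)⁻¹ • S))
    rw [← Sylow.coe_subgroup_smul] at h1
    simpa using h1
  have hR1card : 243 ≤ Nat.card R1 := by
    refine hR.trans ?_
    rw [← Nat.card_congr (equivMapOfInjective _ _ E.M.subtype_injective).toEquiv,
      Nat.card_congr (equivMapOfInjective R _ (S0 : Subgroup E.M).subtype_injective).toEquiv]
    exact card_le_of_le (le_iInf hR'S)
  have hodd : Odd (Nat.card R1) := by
    rw [← Nat.card_congr (equivMapOfInjective _ _ E.M.subtype_injective).toEquiv]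
    refine Odd.of_dvd_nat ?_ (card_dvd_of_le (iInf_le (fun S : Sylow 3 E.M => (S : Subgroup E.M)) S0))
    rw [hcS]
    exact ⟨364, rfl⟩
  have hyR : ∀ x ∈ R1, Commute x E.y := fun x hx => (E.mem_M.1 (map_subtype_le _ hx)).1
  have hf := Invol.SmallCent.card_four_fixed R1 hodd E.t_sq E.T_sq E.T_t.symm.eq (hR1n _ E.t_mem_M)
    (hR1n _ E.T_mem_M)
  have hb : ∀ v, (∃ s, Commute s E.y ∧ s * E.t * s⁻¹ = v) →
      Nat.card ↥(R1 ⊓ centralizer ({v} : Set G)) ≤ 9 := by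
    rintro v ⟨s, hsy, rfl⟩
    have h := E.odd_cent_le (R := (R1 ⊓ centralizer ({s * E.t * s⁻¹} : Set G)).map (MulAut.conj s⁻¹).toMonoidHom)
      (by
        rintro _ ⟨x, hx, rfl⟩
        have := commute_conj (g := s⁻¹) (hyR x hx.1)
        rwa [conj_eq_iff.2 hsy.inv_left] at this)
      (by
        rintro _ ⟨x, hx, rfl⟩
        have := commute_conj (g := s⁻¹) (mem_cent_iff.1 hx.2)
        rwa [show s⁻¹ * (s * E.t * s⁻¹) * s⁻¹⁻¹ = E.t by group] at this)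
      (by
        rw [← Nat.card_congr (equivMapOfInjective _ _ (MulAut.conj s⁻¹).injective).toEquiv]
        exact hodd.of_dvd_nat (card_dvd_of_le inf_le_left))
    rw [← Nat.card_congr (equivMapOfInjective _ _ (MulAut.conj s⁻¹).injective).toEquiv] at h
    exact Nat.le_of_dvd (by norm_num) h
  have h1 := hb E.t ⟨1, Commute.one_left _, by simp⟩
  have h2 := hb E.T ⟨E.σ, E.σ_y, E.σ_t⟩
  have h3 := hb (E.T * E.t) ⟨E.σ * E.σ, E.σ_y.mul_left E.σ_y, by rw [conj_comp, E.σ_t, E.σ_T]⟩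
  rw [E.T_t.symm.eq] at hf
  have hJR : E.J ≤ R1 := by
    intro x hx
    refine ⟨⟨x, E.J_le_M hx⟩, mem_iInf.2 fun S => ?_, rfl⟩
    haveI hn : (E.J.subgroupOf E.M).Normal := ⟨fun a ha g => mem_subgroupOf.2
      (((mem_normalizer_iff.1 (E.mem_M.1 g.2).2) _).1 (mem_subgroupOf.1 ha))⟩
    have hp := (IsPGroup.of_card (n := 4) (by rw [E.card_J]; norm_num) : IsPGroup 3 E.J).comap_of_injective
      E.M.subtype E.M.subtype_injective
    exact (IsPGroup.le_sylow_of_normal (N := E.J.subgroupOf E.M) hp S) (mem_subgroupOf.2 hx)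
  have hy3 : 3 ≤ Nat.card ↥(R1 ⊓ centralizer ({E.t} : Set G) ⊓ centralizer ({E.T} : Set G)) := by
    refine (le_of_eq ?_).trans (card_le_of_le (zpowers_le.2 (show E.y ∈ _ from
      ⟨⟨hJR (E.P_le_J E.y_mem_P), mem_cent_iff.2 E.y_t⟩, mem_cent_iff.2 E.T_y.symm⟩)))
    rw [Nat.card_zpowers, E.y_ord]
  nlinarith [Nat.mul_le_mul (Nat.mul_le_mul h1 h2) h3, Nat.mul_le_mul hR1card (Nat.pow_le_pow_left hy3 2)]

/-- Elements of `J` fixed by a 3-element of `M` outside `J` modulo `⟨y⟩` are few. -/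
theorem fixed_mod_le {g : G} (hg : g ∈ E.M) (hgJ : g ∉ E.J) {k : ℕ} (hk : g ^ 3 ^ k = 1) {A : Subgroup G}
    (hA : A ≤ E.J) (hfix : ∀ x ∈ A, g * x * g⁻¹ * x⁻¹ ∈ zpowers E.y) : Nat.card A ≤ 9 := by
  haveI : Fact (Nat.Prime 3) := ⟨Nat.prime_three⟩
  -- `g` is conjugate into the group generated by `J` and `σ`
  have hJp : IsPGroup 3 (E.J ⊔ zpowers g : Subgroup G) := by
    refine IsPGroup.to_sup_of_normal_left' (IsPGroup.of_card (n := 4) (by rw [E.card_J]; norm_num))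
      (fun w => ?_) (zpowers_le.2 (E.mem_M.1 hg).2)
    obtain ⟨i, hi⟩ := w.2
    refine ⟨k, Subtype.ext ?_⟩
    show (w : G) ^ 3 ^ k = 1
    rw [← show g ^ i = (w : G) from hi, ← zpow_natCast, ← zpow_mul, mul_comm, zpow_mul, zpow_natCast, hk, one_zpow]
  obtain ⟨S1, hS1⟩ := (hJp.comap_of_injective E.M.subtype E.M.subtype_injective).exists_le_sylow
  obtain ⟨S2, hS2⟩ := (E.Jσ_three.comap_of_injective E.M.subtype E.M.subtype_injective).exists_le_sylow
  obtain ⟨m, hm⟩ := MulAction.exists_smul_eq E.M S1 S2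
  have hfac : (Nat.card E.M).factorization 3 = 5 := by
    rw [E.card_M, show (972 : ℕ) = 3 ^ 5 * 4 by norm_num, Nat.factorization_mul (by norm_num) (by norm_num),
      Finsupp.add_apply, Nat.Prime.factorization_pow (by norm_num), Finsupp.single_eq_same,
      Nat.factorization_eq_zero_of_not_dvd (by norm_num)]
  have hS2e : E.Jσ.subgroupOf E.M = S2 := by
    refine eq_of_le_of_card_ge hS2 ?_
    rw [S2.card_eq_multiplicity, hfac, Nat.card_congr (subgroupOfEquivOfLe E.Jσ_le_M).toEquiv]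
    exact E.card_Jσ_ge
  have hh : (m : G) * g * (m : G)⁻¹ ∈ E.Jσ := by
    have h1 : m * ⟨g, hg⟩ * m⁻¹ ∈ (S2 : Subgroup E.M) := by
      rw [← hm]
      exact Subgroup.smul_mem_pointwise_smul _ (MulAut.conj m) _
        (hS1 (mem_subgroupOf.2 (mem_sup_right (mem_zpowers g))))
    rw [← hS2e] at h1
    exact mem_subgroupOf.1 h1
  obtain ⟨hmy, hmN⟩ := E.mem_M.1 m.2
  have hσn : zpowers E.σ ≤ normalizer (E.J : Set G) := zpowers_le.2 (E.mem_M.1 E.σ_mem_M).2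
  have hh' : (m : G) * g * (m : G)⁻¹ ∈ (E.J : Set G) * (zpowers E.σ : Set G) := by
    rw [← Subgroup.coe_mul_of_right_le_normalizer_left _ _ hσn]
    exact hh
  obtain ⟨a, ha, s, ⟨i, rfl⟩, hs⟩ := hh'
  -- reduce to `σ`
  set A' : Subgroup G := A.map (MulAut.conj (m : G)).toMonoidHom with hA'
  have hA'J : A' ≤ E.J := by
    rintro _ ⟨x, hx, rfl⟩
    exact ((mem_normalizer_iff.1 hmN) x).1 (hA hx)
  have hfix' : ∀ x ∈ A', E.σ ^ i * x * (E.σ ^ i)⁻¹ * x⁻¹ ∈ zpowers E.y := by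
    rintro _ ⟨x, hx, rfl⟩
    have hxJ : (m : G) * x * (m : G)⁻¹ ∈ E.J := ((mem_normalizer_iff.1 hmN) x).1 (hA hx)
    obtain ⟨l, hl⟩ := hfix x hx
    refine ⟨l, ?_⟩
    show E.y ^ l = E.σ ^ i * ((m : G) * x * (m : G)⁻¹) * (E.σ ^ i)⁻¹ * ((m : G) * x * (m : G)⁻¹)⁻¹
    have hσi : E.σ ^ i ∈ E.N := zpow_mem (E.mem_M.1 E.σ_mem_M).2 i
    have e1 : E.σ ^ i * ((m : G) * x * (m : G)⁻¹) * (E.σ ^ i)⁻¹ =
        (m : G) * g * (m : G)⁻¹ * ((m : G) * x * (m : G)⁻¹) * ((m : G) * g * (m : G)⁻¹)⁻¹ := by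
      rw [← hs, show a * E.σ ^ i * ((m : G) * x * (m : G)⁻¹) * (a * E.σ ^ i)⁻¹ =
        a * (E.σ ^ i * ((m : G) * x * (m : G)⁻¹) * (E.σ ^ i)⁻¹) * a⁻¹ from conj_comp _ _ _,
        conj_eq_iff.2 (E.J_comm ha (((mem_normalizer_iff.1 hσi) _).1 hxJ))]
    rw [e1, show (m : G) * g * (m : G)⁻¹ * ((m : G) * x * (m : G)⁻¹) * ((m : G) * g * (m : G)⁻¹)⁻¹ *
        ((m : G) * x * (m : G)⁻¹)⁻¹ = (m : G) * (g * x * g⁻¹ * x⁻¹) * (m : G)⁻¹ by group,
      ← show E.y ^ l = _ from hl, conj_eq_iff.2 (hmy.zpow_right l)]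
  have hi3 : ¬ (3 : ℤ) ∣ i := by
    rintro ⟨l, rfl⟩
    refine hgJ ?_
    have h3 : E.σ ^ (3 : ℤ) ∈ E.J := by
      refine E.P_le_J (E.Cy_odd ?_ (E.σ_y.zpow_left 3) ?_)
      · refine conj_eq_iff.1 ?_
        rw [zpow_ofNat, pow_succ, pow_two, conj_comp, conj_comp, E.σ_t, E.σ_T, E.σ_Tt]
      · obtain ⟨n, hn⟩ := E.σ_three
        refine (Odd.pow (by decide : Odd 3)).of_dvd_nat (orderOf_dvd_of_pow_eq_one (n := 3 ^ n) ?_)
        rw [zpow_ofNat, ← pow_mul, mul_comm, pow_mul, hn, one_pow]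
    have h5 : (m : G) * g * (m : G)⁻¹ ∈ E.J := by
      rw [← hs]
      refine mul_mem ha ?_
      show E.σ ^ (3 * l) ∈ E.J
      rw [zpow_mul]
      exact zpow_mem h3 l
    exact ((mem_normalizer_iff.1 hmN) g).2 h5
  rw [show Nat.card A = Nat.card A' from Nat.card_congr (equivMapOfInjective A _ (MulAut.conj (m : G)).injective).toEquiv]
  -- `σ` itself fixes modulo `⟨y⟩`
  let B : Subgroup G :=
    { carrier := {s | ∀ x ∈ A', s * x * s⁻¹ * x⁻¹ ∈ zpowers E.y ∧ s ∈ E.Y}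
      one_mem' := fun x _ => ⟨by simp, one_mem _⟩
      mul_mem' := fun {p q} hp hq x hx => by
        refine ⟨?_, mul_mem (hp x hx).2 (hq x hx).2⟩
        obtain ⟨c, hc⟩ := (hq x hx).1
        have hpy : p * E.y ^ c * p⁻¹ = E.y ^ c := conj_eq_iff.2 ((mem_cent_iff.1 (hp x hx).2).zpow_right c)
        rw [show p * q * x * (p * q)⁻¹ * x⁻¹ = p * (q * x * q⁻¹ * x⁻¹) * p⁻¹ * (p * x * p⁻¹ * x⁻¹) by group,
          ← show E.y ^ c = _ from hc, hpy]
        exact mul_mem (zpow_mem (mem_zpowers _) c) (hp x hx).1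
      inv_mem' := fun {p} hp x hx => by
        refine ⟨?_, inv_mem (hp x hx).2⟩
        obtain ⟨c, hc⟩ := (hp x hx).1
        have hpy : p⁻¹ * E.y ^ c * p = E.y ^ c := by
          have := conj_eq_iff.2 ((mem_cent_iff.1 (hp x hx).2).inv_left.zpow_right c)
          rwa [inv_inv] at this
        rw [show p⁻¹ * x * p⁻¹⁻¹ * x⁻¹ = (p⁻¹ * (p * x * p⁻¹ * x⁻¹) * p)⁻¹ by group,
          ← show E.y ^ c = _ from hc, hpy]
        exact inv_mem (zpow_mem (mem_zpowers _) c) }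
  have hσ : E.σ ∈ B := by
    obtain ⟨n, hn⟩ := E.σ_three
    have hi : E.σ ^ i ∈ B := fun x hx => ⟨hfix' x hx, zpow_mem (mem_cent_iff.2 E.σ_y) i⟩
    have hcop : IsCoprime i ((3 : ℤ) ^ n) :=
      ((Int.isCoprime_iff_nat_coprime.2 (Nat.Coprime.symm ((Nat.Prime.coprime_iff_not_dvd Nat.prime_three).2
        (fun h => hi3 (Int.natCast_dvd.2 h))))) : IsCoprime i (3 : ℤ)).pow_right
    obtain ⟨u, v, huv⟩ := hcop
    have : E.σ = (E.σ ^ i) ^ u := by
      conv_lhs => rw [← zpow_one E.σ, ← huv, zpow_add, mul_comm v, zpow_mul E.σ ((3 : ℤ) ^ n) v,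
        show E.σ ^ ((3 : ℤ) ^ n) = 1 by exact_mod_cast hn, one_zpow, mul_one, mul_comm u, zpow_mul]
    rw [this]
    exact zpow_mem hi u
  -- the trace to the fixed group of `t` is injective
  have hNt : ∀ {x}, x ∈ E.J → E.t * x * E.t⁻¹ ∈ E.J := fun h => E.conj_mem_J E.t_conj_P h
  have hNT : ∀ {x}, x ∈ E.J → E.T * x * E.T⁻¹ ∈ E.J := fun h => E.conj_mem_J E.T_conj_P h
  have tt : ∀ x : G, E.t * (E.t * x * E.t⁻¹) * E.t⁻¹ = x := fun x => by
    rw [← conj_comp, E.t_sq]; simp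
  have TT : ∀ x : G, E.T * (E.T * x * E.T⁻¹) * E.T⁻¹ = x := fun x => by
    rw [← conj_comp, E.T_sq]; simp
  let tr : A' → E.P := fun x => ⟨(x : G) * (E.t * x * E.t⁻¹), by
    rw [← E.J_inf_t]
    refine ⟨mul_mem (hA'J x.2) (hNt (hA'J x.2)), mem_cent_iff.2 (conj_eq_iff.1 ?_).symm⟩
    rw [conj_mul', tt]
    exact (E.J_comm (hA'J x.2) (hNt (hA'J x.2))).eq.symm⟩
  rw [← E.card_P]
  refine Nat.card_le_card_of_injective tr ?_
  intro x w hxw
  have hxw' : (x : G) * (E.t * x * E.t⁻¹) = w * (E.t * w * E.t⁻¹) := congrArg Subtype.val hxw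
  -- the difference
  set d := (x : G) * (w : G)⁻¹ with hd
  have hdA : d ∈ A' := mul_mem x.2 (inv_mem w.2)
  have hdJ := hA'J hdA
  have hwi : Commute (w : G)⁻¹ (E.t * x * E.t⁻¹) := E.J_comm (inv_mem (hA'J w.2)) (hNt (hA'J x.2))
  have htd : E.t * d * E.t⁻¹ = d⁻¹ := by
    refine eq_inv_of_mul_eq_one_right ?_
    rw [hd, conj_mul', show E.t * (w : G)⁻¹ * E.t⁻¹ = (E.t * w * E.t⁻¹)⁻¹ by group]
    calc (x : G) * (w : G)⁻¹ * (E.t * x * E.t⁻¹ * (E.t * w * E.t⁻¹)⁻¹)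
        = (x : G) * ((w : G)⁻¹ * (E.t * x * E.t⁻¹)) * (E.t * w * E.t⁻¹)⁻¹ := by group
      _ = (x : G) * (E.t * x * E.t⁻¹) * (w : G)⁻¹ * (E.t * w * E.t⁻¹)⁻¹ := by rw [hwi.eq]; group
      _ = (E.t * w * E.t⁻¹) * (w : G) * (w : G)⁻¹ * (E.t * w * E.t⁻¹)⁻¹ := by
        rw [hxw', (E.J_comm (hA'J w.2) (hNt (hA'J w.2))).eq]
      _ = 1 := by group
  obtain ⟨c, hc⟩ := (hσ d hdA).1
  have hdy : E.σ * d * E.σ⁻¹ = E.y ^ c * d := by
    rw [show E.y ^ c = _ from hc]; group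
  have hdy' : E.σ⁻¹ * d * E.σ = E.y ^ (-c) * d := by
    rw [show d = E.σ * (E.σ⁻¹ * d * E.σ) * E.σ⁻¹ by group] at hdy
    have e2 : E.σ * d * E.σ⁻¹ = E.y ^ c * d := by
      rw [show E.y ^ c = _ from hc]; group
    have e3 : d = E.y ^ c * (E.σ⁻¹ * d * E.σ) := by
      calc d = E.σ⁻¹ * (E.σ * d * E.σ⁻¹) * E.σ := by group
        _ = E.σ⁻¹ * (E.y ^ c * d) * E.σ := by rw [e2]
        _ = E.σ⁻¹ * E.y ^ c * E.σ * (E.σ⁻¹ * d * E.σ) := by group
        _ = _ := by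
          rw [show E.σ⁻¹ * E.y ^ c * E.σ = E.y ^ c by
            rw [(E.σ_y.inv_left.zpow_right c).eq, inv_mul_cancel_right]]
    rw [zpow_neg]
    exact eq_inv_mul_iff_mul_eq.2 e3.symm
  -- conjugating the inversion by `t` gives one by `T`
  have inv_y : ∀ {v : G} {c : ℤ}, Commute v E.y → v * (E.y ^ c * d) * v⁻¹ = (E.y ^ c * d)⁻¹ →
      v * d * v⁻¹ = (E.y ^ c * E.y ^ c)⁻¹ * d⁻¹ := by
    intro v c hv h
    rw [conj_mul', conj_eq_iff.2 (hv.zpow_right c)] at h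
    have e := congrArg (fun q => (E.y ^ c)⁻¹ * q) h
    simp only [inv_mul_cancel_left] at e
    have cc : Commute d⁻¹ (E.y ^ c)⁻¹ := ((E.J_comm hdJ (E.P_le_J E.y_mem_P)).zpow_right c).inv_left.inv_right
    rw [e, mul_inv_rev, cc.eq, mul_inv_rev (E.y ^ c) (E.y ^ c), mul_assoc]
  have htpush : E.T * (E.σ * d * E.σ⁻¹) * E.T⁻¹ = (E.σ * d * E.σ⁻¹)⁻¹ := by
    rw [← E.σ_t, show E.σ * E.t * E.σ⁻¹ * (E.σ * d * E.σ⁻¹) * (E.σ * E.t * E.σ⁻¹)⁻¹ =
      E.σ * (E.t * d * E.t⁻¹) * E.σ⁻¹ by group, htd]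
    group
  rw [hdy] at htpush
  have hTd := inv_y E.T_y htpush
  have hvpush : E.T * E.t * (E.σ⁻¹ * d * E.σ) * (E.T * E.t)⁻¹ = (E.σ⁻¹ * d * E.σ)⁻¹ := by
    have e2 : E.T * E.t = E.σ⁻¹ * E.t * E.σ := by
      calc E.T * E.t = E.σ⁻¹ * (E.σ * (E.T * E.t) * E.σ⁻¹) * E.σ := by group
        _ = _ := by rw [E.σ_Tt]
    rw [e2, show E.σ⁻¹ * E.t * E.σ * (E.σ⁻¹ * d * E.σ) * (E.σ⁻¹ * E.t * E.σ)⁻¹ =
      E.σ⁻¹ * (E.t * d * E.t⁻¹) * E.σ by group, htd]
    group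
  rw [hdy'] at hvpush
  have hvd := inv_y (E.T_y.mul_left E.y_t.symm) hvpush
  -- inverted by all three, so in `⟨y⟩`, so trivial
  have hdd : d ∈ zpowers E.y := by
    rw [conj_comp, htd, show E.T * d⁻¹ * E.T⁻¹ = (E.T * d * E.T⁻¹)⁻¹ by group, hTd, mul_inv_rev, inv_inv,
      inv_inv] at hvd
    -- `d ^ 2` is a power of `y`
    have h2 : d * d ∈ zpowers E.y := by
      have e := congrArg (fun q => q * (E.y ^ c * E.y ^ c)⁻¹ * d) hvd
      simp only [mul_inv_cancel_right] at e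
      rw [e, mul_assoc _ d⁻¹, ((E.J_comm (inv_mem hdJ) (inv_mem (E.P_le_J (mul_mem (zpow_mem E.y_mem_P c) (zpow_mem E.y_mem_P c)))))).eq,
        mul_assoc, mul_assoc, inv_mul_cancel, mul_one]
      exact mul_mem (inv_mem (mul_mem (zpow_mem (mem_zpowers _) _) (zpow_mem (mem_zpowers _) _)))
        (inv_mem (mul_mem (zpow_mem (mem_zpowers _) _) (zpow_mem (mem_zpowers _) _)))
    rw [show d = (d * d) * (d * d) by
      rw [← pow_two, ← pow_two, ← pow_mul, show 2 * 2 = 3 + 1 by norm_num, pow_succ, E.J_cube hdJ, one_mul]]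
    exact mul_mem h2 h2
  have hd1 : d = 1 := by
    obtain ⟨l, hl⟩ := hdd
    have hty : E.t * d * E.t⁻¹ = d := by rw [← show E.y ^ l = d from hl, conj_eq_iff.2 (E.y_t.symm.zpow_right l)]
    rw [htd] at hty
    calc d = d ^ 3 * (d * d)⁻¹ := by rw [pow_succ, pow_two]; group
      _ = 1 := by rw [E.J_cube hdJ, show d * d = 1 by nth_rw 1 [← hty]; exact inv_mul_cancel d, inv_one, one_mul]
  exact Subtype.ext (mul_inv_eq_one.1 hd1)

theorem y_zpow_P (c : ℤ) : E.y ^ c ∈ E.P := zpow_mem E.y_mem_P c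

/-- An abelian-modulo-`y` 3-subgroup of `M` of order `81` is `J`. -/
theorem eq_J {A : Subgroup G} (hA : A ≤ E.M) (hA81 : Nat.card A = 81)
    (hcomm : ∀ a ∈ A, ∀ b ∈ A, a * b * a⁻¹ * b⁻¹ ∈ zpowers E.y) : A = E.J := by
  haveI : Fact (Nat.Prime 3) := ⟨Nat.prime_three⟩
  by_contra hne
  obtain ⟨g, hgA, hgJ⟩ : ∃ g ∈ A, g ∉ E.J := SetLike.not_le_iff_exists.1 fun h =>
    hne (eq_of_le_of_card_ge h (by rw [hA81, E.card_J]))
  have hp : IsPGroup 3 A := IsPGroup.of_card (n := 4) (by rw [hA81]; norm_num)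
  obtain ⟨k, hk⟩ := hp ⟨g, hgA⟩
  have hle := E.fixed_mod_le (hA hgA) hgJ (k := k) (congrArg Subtype.val hk) (A := A ⊓ E.J) inf_le_right
    fun x hx => hcomm g hgA x hx.1
  have hsup : IsPGroup 3 (E.J ⊔ A : Subgroup G) :=
    IsPGroup.to_sup_of_normal_left' (IsPGroup.of_card (n := 4) (by rw [E.card_J]; norm_num)) hp
      fun a ha => (E.mem_M.1 (hA ha)).2
  have h243 : Nat.card ↥(E.J ⊔ A) ≤ 243 := by
    obtain ⟨n, hn⟩ := IsPGroup.iff_card.1 hsup
    have hd := card_dvd_of_le (sup_le E.J_le_M hA)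
    rw [E.card_M, hn] at hd
    rw [hn]
    have hn5 : n ≤ 5 := by
      by_contra hlt
      exact absurd ((pow_dvd_pow 3 (show 6 ≤ n by omega)).trans hd) (by norm_num)
    calc 3 ^ n ≤ 3 ^ 5 := Nat.pow_le_pow_right (by norm_num) hn5
      _ = 243 := by norm_num
  have hm := Invol.TwoAn.card_mul_le (le_sup_right : A ≤ E.J ⊔ A) (le_sup_left : E.J ≤ E.J ⊔ A)
  rw [hA81, E.card_J] at hm
  nlinarith

theorem M_invol {v : G} (hv : v ∈ E.M) (hv2 : v * v = 1) (hv1 : v ≠ 1) : ∃ w ∈ E.M, w * E.t * w⁻¹ = v :=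
  E.invol_conj inf_le_left E.t_mem_M E.T_mem_M E.σ_mem_M hv hv2 hv1

/-- Centralizers in `C(y)` of involutions of `M` lie in `M`. -/
theorem cent_le_M {v g : G} (hv : v ∈ E.M) (hv2 : v * v = 1) (hv1 : v ≠ 1) (hg : g ∈ E.Y) (hgv : Commute g v) :
    g ∈ E.M := by
  obtain ⟨w, hw, rfl⟩ := E.M_invol hv hv2 hv1
  have hwy := (E.mem_M.1 hw).1
  have h1 : w⁻¹ * g * w ∈ E.M := E.cent_y_t_le ((hwy.inv_left.mul_left (mem_cent_iff.1 hg)).mul_left hwy) (by
    have := commute_conj (g := w⁻¹) hgv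
    rwa [inv_inv, show w⁻¹ * (w * E.t * w⁻¹) * w = E.t by group] at this)
  rw [show g = w * (w⁻¹ * g * w) * w⁻¹ by group]
  exact mul_mem (mul_mem hw h1) (inv_mem hw)

theorem card_invol (R : Subgroup G) (hR : R ≤ E.Y) (hMR : E.M ≤ R) :
    Nat.card R = Nat.card {v : G // v ∈ R ∧ v * v = 1 ∧ v ≠ 1} * 36 := by
  have htR := hMR E.t_mem_M
  rw [card_conj_orbit R E.t]
  have e1 : R ⊓ centralizer ({E.t} : Set G) = E.C ⊓ centralizer ({E.y} : Set G) := by
    ext g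
    refine ⟨fun h => ⟨E.mem_C.2 (mem_cent_iff.1 h.2), hR h.1⟩, fun h => ⟨?_, mem_cent_iff.2 (E.mem_C.1 h.1)⟩⟩
    exact hMR (E.cent_y_t_le (mem_cent_iff.1 h.2) (E.mem_C.1 h.1))
  rw [e1, E.card_Cy]
  congr 1
  refine Nat.card_congr (Equiv.subtypeEquivRight fun v => ⟨?_, ?_⟩)
  · rintro ⟨m, hm, rfl⟩
    refine ⟨mul_mem (mul_mem hm htR) (inv_mem hm), ?_, mt conj_eq_one_iff.1 E.t_ne⟩
    rw [← conj_mul', E.t_sq, mul_one, mul_inv_cancel]
  · rintro ⟨hv, hv2, hv1⟩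
    exact E.invol_conj hR htR (hMR E.T_mem_M) (hMR E.σ_mem_M) hv hv2 hv1

/-- The centralizer of `y` normalizes `J`. -/
theorem M_eq : E.M = E.Y := by
  classical
  haveI := Fintype.ofFinite G
  haveI : Fact (Nat.Prime 3) := ⟨Nat.prime_three⟩
  by_contra hne
  have hlt : E.M < E.Y := lt_of_le_of_ne E.M_le_Y hne
  set I := {v : G // v ∈ E.Y ∧ v * v = 1 ∧ v ≠ 1}
  set IM := {v : G // v ∈ E.M ∧ v * v = 1 ∧ v ≠ 1}
  have hIM : Nat.card IM = 27 := by
    have := E.card_invol E.M E.M_le_Y le_rfl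
    rw [E.card_M] at this
    show Nat.card {v : G // v ∈ E.M ∧ v * v = 1 ∧ v ≠ 1} = 27
    omega
  have hI := E.card_invol E.Y le_rfl E.M_le_Y
  set M' : Subgroup E.Y := E.M.subgroupOf E.Y
  have hidx : M'.index * 27 = Nat.card I := by
    have h := M'.card_mul_index
    rw [Nat.card_congr (subgroupOfEquivOfLe E.M_le_Y).toEquiv, E.card_M, hI] at h
    show M'.index * 27 = Nat.card {v : G // v ∈ E.Y ∧ v * v = 1 ∧ v ≠ 1}
    omega
  have hidx2 : 2 ≤ M'.index := by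
    refine M'.one_lt_index_of_ne_top fun e => ?_
    exact hne (le_antisymm E.M_le_Y (subgroupOf_eq_top.1 e))
  -- some coset outside `M` holds at least 27 involutions
  let S : Finset G := Finset.univ.filter fun v => v ∈ E.Y ∧ v * v = 1 ∧ v ≠ 1 ∧ v ∉ E.M
  let cls : G → E.Y ⧸ M' := fun v => if h : v ∈ E.Y then QuotientGroup.mk ⟨v, h⟩ else QuotientGroup.mk 1
  have hScard : S.card + 27 = Nat.card I := by
    rw [← hIM, Nat.card_eq_fintype_card, Nat.card_eq_fintype_card, Fintype.card_subtype, Fintype.card_subtype,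
      ← Finset.card_filter_add_card_filter_not (p := fun v => v ∈ E.M)
        (s := Finset.univ.filter fun v => v ∈ E.Y ∧ v * v = 1 ∧ v ≠ 1), add_comm]
    congr 1
    · congr 1
      ext v
      simp only [Finset.mem_filter, Finset.mem_univ, true_and]
      exact ⟨fun ⟨h1, h2, h3⟩ => ⟨⟨E.M_le_Y h1, h2, h3⟩, h1⟩, fun ⟨⟨_, h2, h3⟩, h1⟩ => ⟨h1, h2, h3⟩⟩
    · congr 1
      ext v
      simp only [S, Finset.mem_filter, Finset.mem_univ, true_and]
      tauto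
  let tgt : Finset (E.Y ⧸ M') := Finset.univ.erase (QuotientGroup.mk 1)
  have hmaps : ∀ v ∈ S, cls v ∈ tgt := by
    intro v hv
    simp only [S, Finset.mem_filter, Finset.mem_univ, true_and] at hv
    simp only [tgt, Finset.mem_erase, Finset.mem_univ, and_true, cls, dif_pos hv.1, ne_eq, QuotientGroup.eq,
      mul_one]
    exact fun h => hv.2.2.2 (by simpa using mem_subgroupOf.1 (inv_mem h))
  have htgt : tgt.card + 1 = M'.index := by
    rw [Finset.card_erase_of_mem (Finset.mem_univ _), Finset.card_univ, ← Nat.card_eq_fintype_card,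
      ← index_eq_card]
    omega
  obtain ⟨q, hq, hq27⟩ := Finset.exists_le_card_fiber_of_mul_le_card_of_maps_to hmaps
    (by rw [← Finset.card_pos]; omega) (n := 27) (by
      have : (tgt.card + 1) * 27 = S.card + 27 := by rw [htgt, hScard, hidx]
      nlinarith)
  obtain ⟨u, hu⟩ := Finset.card_pos.1 (show 0 < (S.filter fun v => cls v = q).card by omega)
  simp only [S, Finset.mem_filter, Finset.mem_univ, true_and] at hu
  obtain ⟨⟨huY, hu2, hu1, huM⟩, huq⟩ := hu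
  have hui : u⁻¹ = u := inv_eq_of_mul_eq_one_left hu2
  have uu : ∀ x : G, u * (u * x * u⁻¹) * u⁻¹ = x := fun x => by rw [← conj_comp, hu2]; simp
  set D : Subgroup G := E.M ⊓ E.M.map (MulAut.conj u).toMonoidHom
  have memD : ∀ {x}, x ∈ D ↔ x ∈ E.M ∧ u * x * u⁻¹ ∈ E.M := fun {x} => by
    refine ⟨fun h => ⟨h.1, ?_⟩, fun h => ⟨h.1, ⟨_, h.2, uu x⟩⟩⟩
    obtain ⟨w, hw, e⟩ := h.2
    rw [← show u * w * u⁻¹ = x from e, uu]
    exact hw
  have hDn : ∀ x ∈ D, u * x * u⁻¹ ∈ D := fun x hx => memD.2 ⟨(memD.1 hx).2, by rw [uu]; exact (memD.1 hx).1⟩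
  have hDodd : Odd (Nat.card D) := by
    rcases odd_or_invol (R := D) with h | ⟨v, hv, hv2, hv1⟩
    · exact h
    exfalso
    obtain ⟨hvM, hv'M⟩ := memD.1 hv
    obtain ⟨w, hw, hwv⟩ := E.M_invol hvM hv2 hv1
    obtain ⟨w', hw', hwv'⟩ := E.M_invol hv'M (by rw [← conj_mul', hv2, mul_one, mul_inv_cancel])
      (mt conj_eq_one_iff.1 hv1)
    have hfix : Commute (u * (w' * w⁻¹)) v := conj_eq_iff.1 (by
      rw [conj_comp, conj_comp, inv_inv, show w⁻¹ * v * w = E.t by rw [← hwv]; group, hwv', uu])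
    have := E.cent_le_M hvM hv2 hv1 (mul_mem huY (E.M_le_Y (mul_mem hw' (inv_mem hw)))) hfix
    exact huM (by
      have h2 := mul_mem this (inv_mem (mul_mem hw' (inv_mem hw)))
      rwa [mul_inv_cancel_right] at h2)
  -- many inverted elements
  have hinv : 27 ≤ Nat.card (Invol.SmallCent.inverted D u) := by
    refine hq27.trans (le_of_eq_of_le (Fintype.card_coe _).symm ?_)
    rw [← Nat.card_eq_fintype_card]
    refine Nat.card_le_card_of_injective (fun v => (⟨u * v, ?_⟩ : Invol.SmallCent.inverted D u))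
      fun a b h => Subtype.ext (mul_left_cancel (congrArg Subtype.val h :))
    obtain ⟨v, hv⟩ := v
    simp only [S, Finset.mem_filter, Finset.mem_univ, true_and] at hv
    obtain ⟨⟨hvY, hv2, hv1, hvM⟩, hvq⟩ := hv
    have hc := huq.trans hvq.symm
    simp only [cls, dif_pos huY, dif_pos hvY, QuotientGroup.eq] at hc
    have hd : u * v ∈ E.M := by
      have := mem_subgroupOf.1 hc
      simpa [hui] using this
    have e : u * (u * v) * u⁻¹ = (u * v)⁻¹ := by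
      rw [← mul_assoc, hu2, one_mul, mul_inv_rev, inv_eq_of_mul_eq_one_left hv2, hui]
    exact ⟨memD.2 ⟨hd, by rw [e]; exact inv_mem hd⟩, e⟩
  have hprod := Invol.SmallCent.card_eq_fixed_mul_inverted D hDodd hu2 hDn
  obtain ⟨w, hw, hwu⟩ := E.invol_conj le_rfl (mem_cent_iff.2 E.y_t.symm) (mem_cent_iff.2 E.T_y)
    (mem_cent_iff.2 E.σ_y) huY hu2 hu1
  have hDy : ∀ x ∈ D, Commute x E.y := fun x hx => (E.mem_M.1 (memD.1 hx).1).1
  set Cf := D ⊓ centralizer ({u} : Set G)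
  have hc9 : Nat.card Cf ∣ 9 := by
    have h := E.odd_cent_le (R := Cf.map (MulAut.conj w⁻¹).toMonoidHom) (by
      rintro _ ⟨x, hx, rfl⟩
      have := commute_conj (g := w⁻¹) (hDy x hx.1)
      rwa [conj_eq_iff.2 (mem_cent_iff.1 hw).inv_left] at this) (by
      rintro _ ⟨x, hx, rfl⟩
      have := commute_conj (g := w⁻¹) (mem_cent_iff.1 hx.2)
      rwa [show w⁻¹ * u * w⁻¹⁻¹ = E.t by rw [← hwu]; group] at this) (by
      rw [← Nat.card_congr (equivMapOfInjective _ _ (MulAut.conj w⁻¹).injective).toEquiv]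
      exact hDodd.of_dvd_nat (card_dvd_of_le inf_le_left))
    rwa [← Nat.card_congr (equivMapOfInjective _ _ (MulAut.conj w⁻¹).injective).toEquiv] at h
  have huy : Commute u E.y := mem_cent_iff.1 huY
  have hyC : zpowers E.y ≤ Cf := zpowers_le.2 ⟨memD.2 ⟨E.J_le_M (E.P_le_J E.y_mem_P), by
    rw [conj_eq_iff.2 huy]; exact E.J_le_M (E.P_le_J E.y_mem_P)⟩, mem_cent_iff.2 huy.symm⟩
  have hc3 : 3 ≤ Nat.card Cf := by
    refine le_of_eq_of_le ?_ (card_le_of_le hyC)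
    rw [Nat.card_zpowers, E.y_ord]
  have hdvd : Nat.card D ∣ 3 ^ 5 := by
    have h := card_dvd_of_le (inf_le_left : D ≤ E.M)
    rw [E.card_M, show (972 : ℕ) = 3 ^ 5 * 4 by norm_num] at h
    exact (Nat.Coprime.dvd_of_dvd_mul_right (Nat.Coprime.pow_right 2 (Nat.coprime_two_right.2 hDodd)) h)
  obtain ⟨n, hn, hnD⟩ := (Nat.dvd_prime_pow Nat.prime_three).1 hdvd
  have hn4 : 4 ≤ n := by
    by_contra hlt
    have h2 : 3 ^ n ≤ 3 ^ 3 := Nat.pow_le_pow_right (by norm_num) (by omega)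
    rw [← hnD, hprod] at h2
    nlinarith
  have huN : u ∉ E.N := fun h => huM (E.mem_M.2 ⟨huy, h⟩)
  obtain rfl | rfl : n = 4 ∨ n = 5 := by omega
  · -- order 81
    rw [hprod] at hnD
    have hCy : zpowers E.y = Cf := by
      refine eq_of_le_of_card_ge hyC ?_
      rw [Nat.card_zpowers, E.y_ord]
      obtain ⟨i, hi, hie⟩ := (Nat.dvd_prime_pow Nat.prime_three).1 (show Nat.card Cf ∣ 3 ^ 2 from hc9)
      rw [hie] at hnD hc3 ⊢
      interval_cases i <;> omega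
    have hmod : ∀ x ∈ D, x * (u * x * u⁻¹) ∈ zpowers E.y := by
      intro x hx
      have hy2 := Invol.SmallCent.sqr_mul_self hDodd (D.mul_mem (D.inv_mem (hDn x hx)) hx)
      set i0 := Invol.SmallCent.sqr D ((u * x * u⁻¹)⁻¹ * x)
      have hi0 : i0 ∈ D := Invol.SmallCent.sqr_mem (D.mul_mem (D.inv_mem (hDn x hx)) hx)
      have hinv0 : u * i0 * u⁻¹ = i0⁻¹ := by
        show u * Invol.SmallCent.sqr D _ * u⁻¹ = _
        rw [Invol.SmallCent.conj_sqr]
        refine (Invol.SmallCent.eq_sqr hDodd (D.inv_mem hi0) ?_).symm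
        rw [← mul_inv_rev, hy2, conj_mul', show u * (u * x * u⁻¹)⁻¹ * u⁻¹ = (u * (u * x * u⁻¹) * u⁻¹)⁻¹ by simp [mul_assoc],
          uu]
        simp [mul_assoc]
      have hc : x * i0⁻¹ ∈ zpowers E.y := by
        rw [hCy]
        refine ⟨D.mul_mem hx (D.inv_mem hi0), mem_cent_iff.2 (conj_eq_iff.1 ?_).symm⟩
        calc u * (x * i0⁻¹) * u⁻¹ = (u * x * u⁻¹) * (u * i0 * u⁻¹)⁻¹ := by group
          _ = (u * x * u⁻¹) * (i0 * i0) * i0⁻¹ := by rw [hinv0]; group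
          _ = _ := by rw [hy2]; group
      have hcc : u * (x * i0⁻¹) * u⁻¹ = x * i0⁻¹ := by
        obtain ⟨l, hl⟩ := hc
        rw [← show E.y ^ l = _ from hl, conj_eq_iff.2 (huy.zpow_right l)]
      have hci : Commute (x * i0⁻¹) i0 := by
        obtain ⟨l, hl⟩ := hc
        rw [← show E.y ^ l = _ from hl]
        exact (hDy i0 hi0).symm.zpow_left l
      have : x * (u * x * u⁻¹) = (x * i0⁻¹) * (x * i0⁻¹) := by
        calc x * (u * x * u⁻¹) = (x * i0⁻¹) * i0 * ((u * (x * i0⁻¹) * u⁻¹) * (u * i0 * u⁻¹)) := by group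
          _ = (x * i0⁻¹) * i0 * ((x * i0⁻¹) * i0⁻¹) := by rw [hcc, hinv0]
          _ = (x * i0⁻¹) * ((i0 * (x * i0⁻¹)) * i0⁻¹) := by group
          _ = _ := by rw [← hci.eq]; group
      rw [this]
      exact mul_mem hc hc
    suffices hcom : ∀ a ∈ D, ∀ b ∈ D, a * b * a⁻¹ * b⁻¹ ∈ zpowers E.y by
      have hD := E.eq_J (A := D) inf_le_left (hprod.trans hnD) hcom
      exact huN (mem_normalizer_of_conj fun x hx => by
        rw [← hD] at hx ⊢
        exact hDn x hx)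
    intro a ha b hb
    obtain ⟨la, hla⟩ := hmod a ha
    obtain ⟨lb, hlb⟩ := hmod b hb
    obtain ⟨lab, hlab⟩ := hmod (b * a) (mul_mem hb ha)
    have ea : u * a * u⁻¹ = a⁻¹ * E.y ^ la := by rw [show E.y ^ la = _ from hla]; group
    have eb : u * b * u⁻¹ = b⁻¹ * E.y ^ lb := by rw [show E.y ^ lb = _ from hlb]; group
    have eab : u * (b * a) * u⁻¹ = (b * a)⁻¹ * E.y ^ lab := by rw [show E.y ^ lab = _ from hlab]; group
    rw [conj_mul', ea, eb] at eab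
    refine ⟨-lab + lb + la, ?_⟩
    show E.y ^ (-lab + lb + la) = _
    have hyc : ∀ (c : ℤ) {x : G}, x ∈ D → Commute (E.y ^ c) x := fun c x hx => (hDy x hx).symm.zpow_left c
    have e : b⁻¹ * a⁻¹ * (E.y ^ lb * E.y ^ la) = a⁻¹ * b⁻¹ * E.y ^ lab := by
      rw [← mul_inv_rev b a, ← eab]
      calc b⁻¹ * a⁻¹ * (E.y ^ lb * E.y ^ la) = b⁻¹ * (a⁻¹ * E.y ^ lb) * E.y ^ la := by group
        _ = b⁻¹ * (E.y ^ lb * a⁻¹) * E.y ^ la := by rw [(hyc lb (D.inv_mem ha)).eq]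
        _ = _ := by group
    calc E.y ^ (-lab + lb + la) = E.y ^ (-lab) * (a * b * (b⁻¹ * a⁻¹ * (E.y ^ lb * E.y ^ la))) := by
          rw [zpow_add, zpow_add]; group
      _ = E.y ^ (-lab) * ((a * b * a⁻¹ * b⁻¹) * E.y ^ lab) := by rw [e]; group
      _ = _ := by
        rw [← ((hyc lab (mul_mem (mul_mem (mul_mem ha hb) (inv_mem ha)) (inv_mem hb)))).eq, zpow_neg,
          inv_mul_cancel_left]
  · -- order 243
    have hJD : E.J ≤ D := by
      have hsup : IsPGroup 3 (E.J ⊔ D : Subgroup G) :=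
        IsPGroup.to_sup_of_normal_left' (IsPGroup.of_card (n := 4) (by rw [E.card_J]; norm_num))
          (IsPGroup.of_card (n := 5) hnD) fun a ha => (E.mem_M.1 (memD.1 ha).1).2
      obtain ⟨k, hk⟩ := IsPGroup.iff_card.1 hsup
      have hd := card_dvd_of_le (sup_le E.J_le_M (inf_le_left : D ≤ E.M))
      rw [E.card_M, hk] at hd
      have hk5 : k ≤ 5 := by
        by_contra hlt
        exact absurd ((pow_dvd_pow 3 (show 6 ≤ k by omega)).trans hd) (by norm_num)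
      rw [show D = E.J ⊔ D from eq_of_le_of_card_ge le_sup_right (by
        rw [hk, hnD]; exact Nat.pow_le_pow_right (by norm_num) hk5)]
      exact le_sup_left
    set A : Subgroup G := E.J.map (MulAut.conj u).toMonoidHom
    have hAM : A ≤ E.M := by
      rintro _ ⟨x, hx, rfl⟩
      exact (memD.1 (hJD hx)).2
    have hA : A = E.J := E.eq_J hAM
      (by rw [← E.card_J]; exact (Nat.card_congr (equivMapOfInjective _ _ (MulAut.conj u).injective).toEquiv).symm)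
      (by
        rintro _ ⟨a, ha, rfl⟩ _ ⟨b, hb, rfl⟩
        rw [← map_inv, ← map_inv, ← map_mul, ← map_mul, ← map_mul,
          show a * b * a⁻¹ * b⁻¹ = 1 by rw [(E.J_comm ha hb).eq]; group, map_one]
        exact one_mem _)
    exact huN (mem_normalizer_of_conj fun x hx => hA ▸ ⟨x, hx, rfl⟩)

theorem card_Y : Nat.card E.Y = 972 := by rw [← E.M_eq, E.card_M]

theorem Y_le_N : E.Y ≤ E.N := E.M_eq ▸ inf_le_right

end Setup

end Cfsg.Agent.Spor.McLCent
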