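import Cfsg.Agent.Lib.Spor.McLCent.YCent
import Cfsg.Agent.Lib.Spor.McLThree.Hyp
import Cfsg.Agent.Lib.Spor.McLThree.SLFive
import Cfsg.Agent.Lib.Grp.Zassenhaus.Binary

/-!
The centralizer of `z`: an extraspecial group of order `3⁵` extended by `SL₂(5)`.
-/

set_option autoImplicit false
set_option linter.unusedSectionVars false
set_option maxHeartbeats 800000

namespace Cfsg.Agent.Spor.McLCent

open Equiv Equiv.Perm Subgroup
open scoped Pointwise commutatorElement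
open Cfsg.Agent.Invol.TwoAn (Cfg IsQuad coreIn)
open Cfsg.Agent.Spor.McLThree (SL5)

universe u

variable {G : Type u} [Group G] [Finite G]

/-- The five last points. -/
def lastFive : Fin 5 ↪ Fin 8 := ⟨fun i => ⟨i.1 + 3, by omega⟩, fun a b h => by
  have h' : a.1 + 3 = b.1 + 3 := congrArg Fin.val h
  exact Fin.ext (by omega)⟩

/-- Permutations of the last five points. -/
noncomputable def lastPerm : Perm (Fin 5) →* Perm (Fin 8) := Perm.viaEmbeddingHom lastFive

theorem lastPerm_apply (σ : Perm (Fin 5)) (i : Fin 5) : lastPerm σ (lastFive i) = lastFive (σ i) :=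
  Perm.viaEmbedding_apply σ lastFive i

theorem lastPerm_low (σ : Perm (Fin 5)) {i : Fin 8} (hi : (i : ℕ) < 3) : lastPerm σ i = i :=
  Perm.viaEmbedding_apply_of_notMem σ lastFive i fun ⟨j, hj⟩ => by
    have h1 : (j : ℕ) + 3 = (i : ℕ) := congrArg (fun a : Fin 8 => (a : ℕ)) hj
    omega

theorem lastPerm_swap (a b : Fin 5) : lastPerm (swap a b) = swap (lastFive a) (lastFive b) :=
  Lie.Carmichael.via_swap lastFive a b

theorem lastPerm_injective : Function.Injective lastPerm := Perm.viaEmbeddingHom_injective _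

theorem lastPerm_sign (σ : Perm (Fin 5)) : sign (lastPerm σ) = sign σ :=
  Lie.Carmichael.sign_viaEmbedding lastFive σ

theorem pB_last : pB = lastPerm (swap 0 1 * swap 1 2) := by
  rw [map_mul, lastPerm_swap, lastPerm_swap]; decide +kernel

theorem pJ_last : pJ = lastPerm (swap 1 2 * swap 3 4) := by
  rw [map_mul, lastPerm_swap, lastPerm_swap]; decide +kernel

/-- In a group of odd order with an involution fixing only a central subgroup, commutators lie in it. -/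
theorem commutator_mem_fixed {R Z0 : Subgroup G} {u : G} (hR : Odd (Nat.card R)) (hu : u * u = 1)
    (hn : ∀ x ∈ R, u * x * u⁻¹ ∈ R) (hfix : ∀ x ∈ R, Commute x u → x ∈ Z0)
    (hcen : ∀ c ∈ Z0, ∀ x ∈ R, Commute c x) (hZu : ∀ c ∈ Z0, Commute c u) :
    ∀ a ∈ R, ∀ b ∈ R, a * b * a⁻¹ * b⁻¹ ∈ Z0 := by
  have uu : ∀ x : G, u * (u * x * u⁻¹) * u⁻¹ = x := fun x => by rw [← conj_comp, hu]; simp
  have hmod : ∀ x ∈ R, x * (u * x * u⁻¹) ∈ Z0 := by
    intro x hx
    have hy2 := Invol.SmallCent.sqr_mul_self hR (R.mul_mem (R.inv_mem (hn x hx)) hx)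
    set i0 := Invol.SmallCent.sqr R ((u * x * u⁻¹)⁻¹ * x)
    have hi0 : i0 ∈ R := Invol.SmallCent.sqr_mem (R.mul_mem (R.inv_mem (hn x hx)) hx)
    have hinv0 : u * i0 * u⁻¹ = i0⁻¹ := by
      show u * Invol.SmallCent.sqr R _ * u⁻¹ = _
      rw [Invol.SmallCent.conj_sqr]
      refine (Invol.SmallCent.eq_sqr hR (R.inv_mem hi0) ?_).symm
      rw [← mul_inv_rev, hy2, conj_mul', show u * (u * x * u⁻¹)⁻¹ * u⁻¹ = (u * (u * x * u⁻¹) * u⁻¹)⁻¹ by
        simp [mul_assoc], uu]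
      simp [mul_assoc]
    have hcc : u * (x * i0⁻¹) * u⁻¹ = x * i0⁻¹ := by
      calc u * (x * i0⁻¹) * u⁻¹ = (u * x * u⁻¹) * (u * i0 * u⁻¹)⁻¹ := by group
        _ = (u * x * u⁻¹) * (i0 * i0) * i0⁻¹ := by rw [hinv0]; group
        _ = _ := by rw [hy2]; group
    have hc : x * i0⁻¹ ∈ Z0 := hfix _ (R.mul_mem hx (R.inv_mem hi0)) (conj_eq_iff.1 hcc).symm
    have hci : Commute (x * i0⁻¹) i0 := hcen _ hc _ hi0
    have : x * (u * x * u⁻¹) = (x * i0⁻¹) * (x * i0⁻¹) := by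
      calc x * (u * x * u⁻¹) = (x * i0⁻¹) * i0 * ((u * (x * i0⁻¹) * u⁻¹) * (u * i0 * u⁻¹)) := by group
        _ = (x * i0⁻¹) * i0 * ((x * i0⁻¹) * i0⁻¹) := by rw [hcc, hinv0]
        _ = (x * i0⁻¹) * ((i0 * (x * i0⁻¹)) * i0⁻¹) := by group
        _ = _ := by rw [← hci.eq]; group
    rw [this]
    exact mul_mem hc hc
  intro a ha b hb
  have hca : ∀ {c x : G}, c ∈ Z0 → x ∈ R → Commute c x := fun hc hx => hcen _ hc _ hx
  set A := a * (u * a * u⁻¹) with hA'
  set B := b * (u * b * u⁻¹) with hB'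
  set D' := b * a * (u * (b * a) * u⁻¹) with hD'
  have hA := hmod a ha
  have hB := hmod b hb
  have hD := hmod (b * a) (mul_mem hb ha)
  have ea : u * a * u⁻¹ = a⁻¹ * A := by rw [hA', inv_mul_cancel_left]
  have eb : u * b * u⁻¹ = b⁻¹ * B := by rw [hB', inv_mul_cancel_left]
  have eab : u * (b * a) * u⁻¹ = (b * a)⁻¹ * D' := by rw [hD', inv_mul_cancel_left]
  rw [conj_mul', ea, eb] at eab
  have e : b⁻¹ * a⁻¹ * (B * A) = a⁻¹ * b⁻¹ * D' := by
    calc b⁻¹ * a⁻¹ * (B * A) = b⁻¹ * (a⁻¹ * B * A) := by group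
      _ = b⁻¹ * (B * a⁻¹ * A) := by rw [(hca hB (R.inv_mem ha)).eq]
      _ = b⁻¹ * B * (a⁻¹ * A) := by group
      _ = _ := by rw [eab, mul_inv_rev]
  have h2 : a * b * a⁻¹ * b⁻¹ = B * A * D'⁻¹ := by
    calc a * b * a⁻¹ * b⁻¹ = a * b * (a⁻¹ * b⁻¹ * D') * D'⁻¹ := by group
      _ = _ := by rw [← e]; group
  rw [h2]
  exact mul_mem (mul_mem hB hA) (inv_mem hD)

namespace Setup

variable (E : Setup G)

/-- The centralizer of `z`. -/
abbrev Zc : Subgroup G := centralizer ({E.z} : Set G)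

/-- The lifts of the even permutations fixing the first cycle. -/
noncomputable def L : Subgroup G :=
  (((alternatingGroup (Fin 5)).map lastPerm).comap E.D.P).map E.C.subtype

theorem mem_L {g : G} : g ∈ E.L ↔ ∃ σ : Perm (Fin 5), sign σ = 1 ∧ E.D.Img g (lastPerm σ) := by
  constructor
  · rintro ⟨c, ⟨σ, hσ, e⟩, rfl⟩
    exact ⟨σ, mem_alternatingGroup.1 hσ, c.2, e.symm⟩
  · rintro ⟨σ, hσ, hc, e⟩
    exact ⟨⟨g, hc⟩, ⟨σ, mem_alternatingGroup.2 hσ, e.symm⟩, rfl⟩

theorem L_t {g : G} (hg : g ∈ E.L) : Commute g E.t := by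
  obtain ⟨σ, -, h⟩ := E.mem_L.1 hg
  exact h.comm

theorem L_z {g : G} (hg : g ∈ E.L) : Commute g E.z := by
  obtain ⟨σ, -, h⟩ := E.mem_L.1 hg
  refine (E.img_z.commute_odd h ?_ (by decide : Odd 3) E.z_cube).symm
  have hc : ∀ i : Fin 8, (i : ℕ) < 3 → ((pA i : Fin 8) : ℕ) < 3 := by decide +kernel
  have hh : ∀ i : Fin 8, 3 ≤ (i : ℕ) → pA i = i := by decide +kernel
  refine Equiv.ext fun i => ?_
  rw [Perm.mul_apply, Perm.mul_apply]
  by_cases hi : (i : ℕ) < 3
  · rw [lastPerm_low σ hi, lastPerm_low σ (hc i hi)]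
  · obtain ⟨j, rfl⟩ : ∃ j, lastFive j = i := ⟨⟨(i : ℕ) - 3, by omega⟩, Fin.ext (show (i : ℕ) - 3 + 3 = i by omega)⟩
    rw [lastPerm_apply, hh _ (show 3 ≤ ((lastFive (σ j) : Fin 8) : ℕ) from Nat.le_add_left 3 _),
      hh _ (show 3 ≤ ((lastFive j : Fin 8) : ℕ) from Nat.le_add_left 3 _), lastPerm_apply]

theorem t_L : E.t ∈ E.L := E.mem_L.2 ⟨1, map_one _, by rw [map_one]; exact E.img_t⟩

theorem f_L : E.f ∈ E.L := E.mem_L.2 ⟨swap 0 1 * swap 1 2, by decide, pB_last ▸ E.img_f⟩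

theorem j_L : E.j ∈ E.L := E.mem_L.2 ⟨swap 1 2 * swap 3 4, by decide, pJ_last ▸ E.img_j⟩

theorem L_invol {g : G} (hg : g ∈ E.L) (h2 : g * g = 1) (h1 : g ≠ 1) : g = E.t :=
  E.Cz_invol (E.L_t hg) (E.L_z hg) h2 h1

theorem exists_proj : ∃ f : E.L →* alternatingGroup (Fin 5), Function.Surjective f ∧ Nat.card f.ker = 2 ∧
    (∀ g, f g = 1 → (g : G) = 1 ∨ (g : G) = E.t) ∧ ∀ g : E.L, E.D.Img (g : G) (lastPerm (f g : Perm (Fin 5))) := by
  classical
  let pick : E.L → Perm (Fin 5) := fun g => Classical.choose (E.mem_L.1 g.2)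
  have hpick : ∀ g, sign (pick g) = 1 ∧ E.D.Img (g : G) (lastPerm (pick g)) :=
    fun g => Classical.choose_spec (E.mem_L.1 g.2)
  let f : E.L →* alternatingGroup (Fin 5) := MonoidHom.mk' (fun g => ⟨pick g, mem_alternatingGroup.2 (hpick g).1⟩)
    fun a b => Subtype.ext (lastPerm_injective ((hpick (a * b)).2.unique (by
      rw [show ((⟨pick a, mem_alternatingGroup.2 (hpick a).1⟩ * ⟨pick b, mem_alternatingGroup.2 (hpick b).1⟩ :
        alternatingGroup (Fin 5)) : Perm (Fin 5)) = pick a * pick b from rfl, map_mul]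
      exact (hpick a).2.mul (hpick b).2)))
  have himg : ∀ g : E.L, E.D.Img (g : G) (lastPerm (f g : Perm (Fin 5))) := fun g => (hpick g).2
  have hker : ∀ g, f g = 1 → (g : G) = 1 ∨ (g : G) = E.t := by
    intro g hg
    have h := himg g
    rw [hg, OneMemClass.coe_one, map_one] at h
    exact h.eq_or
  refine ⟨f, fun σ => ?_, ?_, hker, himg⟩
  · obtain ⟨g, hg⟩ := Cfg.exists_img (K := E.D) (σ := lastPerm σ)
      (by rw [lastPerm_sign]; exact mem_alternatingGroup.1 σ.2)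
    have hgL : g ∈ E.L := E.mem_L.2 ⟨σ, mem_alternatingGroup.1 σ.2, hg⟩
    exact ⟨⟨g, hgL⟩, Subtype.ext (lastPerm_injective ((himg ⟨g, hgL⟩).unique hg))⟩
  · rw [show f.ker = zpowers (⟨E.t, E.t_L⟩ : E.L) from ?_, Nat.card_zpowers, ← Subgroup.orderOf_coe]
    · exact E.t_ord
    refine le_antisymm (fun g hg => ?_) (zpowers_le.2 ?_)
    · rcases hker g hg with e | e
      · rw [show g = 1 from Subtype.ext e]; exact one_mem _
      · rw [show g = ⟨E.t, E.t_L⟩ from Subtype.ext e]; exact mem_zpowers _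
    · refine MonoidHom.mem_ker.2 (Subtype.ext (lastPerm_injective ?_))
      rw [OneMemClass.coe_one, map_one]
      exact (himg ⟨E.t, E.t_L⟩).unique E.img_t

theorem L_perfect : commutator E.L = ⊤ := by
  classical
  obtain ⟨f, hf, -, hker, himg⟩ := E.exists_proj
  have hA : commutator (alternatingGroup (Fin 5)) = ⊤ := by
    haveI : IsSimpleGroup (alternatingGroup (Fin 5)) := alternatingGroup.isSimpleGroup (by simp)
    refine (IsSimpleGroup.eq_bot_or_eq_top_of_normal _ inferInstance).resolve_left fun h => ?_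
    rw [commutator_eq_bot_iff_center_eq_top] at h
    have hc := alternatingGroup.center_eq_bot (α := Fin 5) (by simp)
    rw [hc] at h
    exact bot_ne_top h
  have hmap : ∀ σ, ∃ g ∈ commutator E.L, f g = σ := fun σ => by
    have : σ ∈ (commutator E.L).map f := by
      rw [show (commutator E.L).map f = ⊤ by
        rw [commutator_def, Subgroup.map_commutator, Subgroup.map_top_of_surjective _ hf, ← commutator_def, hA]]
      exact Subgroup.mem_top _
    exact Subgroup.mem_map.1 this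
  obtain ⟨g, hg, hgq⟩ := hmap ⟨swap 1 2 * swap 3 4, mem_alternatingGroup.2 (by decide)⟩
  have hi : E.D.Img (g : G) pJ := by
    rw [pJ_last]
    have := himg g
    rwa [hgq] at this
  have htg : (⟨E.t, E.t_L⟩ : E.L) ∈ commutator E.L := by
    rw [show (⟨E.t, E.t_L⟩ : E.L) = g * g from Subtype.ext (hi.sq ⟨pJ_facts.1, pJ_facts.2.1⟩).symm]
    exact mul_mem hg hg
  refine eq_top_iff.2 fun x _ => ?_
  obtain ⟨k, hk, hkx⟩ := hmap (f x)
  rw [show x = k * (k⁻¹ * x) by group]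
  refine mul_mem hk ?_
  rcases hker (k⁻¹ * x) (by rw [map_mul, map_inv, hkx, inv_mul_cancel]) with e | e
  · rw [show k⁻¹ * x = 1 from Subtype.ext e]; exact one_mem _
  · rw [show k⁻¹ * x = ⟨E.t, E.t_L⟩ from Subtype.ext e]; exact htg

theorem L_iso : Nonempty (E.L ≃* SL5) := by
  obtain ⟨f, hf, hk, -, -⟩ := E.exists_proj
  have hE : Grp.Zas.BinaryIco E.L := by
    refine ⟨⟨f, hf, hk⟩, fun a b ha hb => ?_, E.L_perfect⟩
    have key : ∀ c : E.L, orderOf c = 2 → (c : G) = E.t := fun c hc => by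
      refine E.L_invol c.2 ?_ fun e => ?_
      · rw [← pow_two, ← Subgroup.coe_pow, ← hc, pow_orderOf_eq_one, OneMemClass.coe_one]
      · rw [show c = 1 from Subtype.ext e, orderOf_one] at hc; omega
    exact Subtype.ext ((key a ha).trans (key b hb).symm)
  exact hE.nonempty_mulEquiv Grp.Zas.binaryIco_SL25

theorem card_L : Nat.card E.L = 120 := by
  obtain ⟨e⟩ := E.L_iso
  rw [Nat.card_congr e.toEquiv, Nat.card_eq_fintype_card, McLThree.sl5_card]

/-- A normal subgroup of `L` with an element outside the centre is `L`. -/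
theorem L_normal {N : Subgroup G} (hN : N ≤ E.L) (hn : ∀ l ∈ E.L, ∀ x ∈ N, l * x * l⁻¹ ∈ N) {x : G} (hx : x ∈ N)
    (h1 : x ≠ 1) (ht : x ≠ E.t) : N = E.L := by
  classical
  obtain ⟨f, hf, -, hker, -⟩ := E.exists_proj
  set N' : Subgroup E.L := N.subgroupOf E.L with hN'
  haveI : N'.Normal := ⟨fun a ha g => mem_subgroupOf.2 (hn g g.2 a (mem_subgroupOf.1 ha))⟩
  haveI : IsSimpleGroup (alternatingGroup (Fin 5)) := alternatingGroup.isSimpleGroup (by simp)
  haveI : (N'.map f).Normal := Normal.map inferInstance f hf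
  have htop : N'.map f = ⊤ := by
    refine (IsSimpleGroup.eq_bot_or_eq_top_of_normal _ inferInstance).resolve_left fun h => ?_
    have : f ⟨x, hN hx⟩ = 1 := by
      rw [← mem_bot, ← h]
      exact mem_map.2 ⟨⟨x, hN hx⟩, mem_subgroupOf.2 hx, rfl⟩
    rcases hker _ this with e | e
    exacts [h1 e, ht e]
  -- the quotient is abelian
  have hle : commutator E.L ≤ N' := by
    rw [commutator_def, commutator_le]
    intro a _ b _
    have hd : ∀ c, ∃ n ∈ N', ∀ d : E.L, Commute (n⁻¹ * c) d := fun c => by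
      obtain ⟨n, hn', e⟩ := mem_map.1 (htop.symm ▸ mem_top (f c) : f c ∈ N'.map f)
      refine ⟨n, hn', fun d => ?_⟩
      rcases hker (n⁻¹ * c) (by rw [map_mul, map_inv, e, inv_mul_cancel]) with h | h
      · rw [show n⁻¹ * c = 1 from Subtype.ext h]; exact Commute.one_left d
      · exact Subtype.ext (by
          show ((n⁻¹ * c : E.L) : G) * (d : G) = (d : G) * ((n⁻¹ * c : E.L) : G)
          rw [h]; exact (E.L_t d.2).eq.symm)
    obtain ⟨n, hna, hc⟩ := hd a
    rw [← QuotientGroup.eq_one_iff, commutatorElement_def]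
    simp only [QuotientGroup.mk_mul, QuotientGroup.mk_inv]
    have ea : (QuotientGroup.mk a : E.L ⧸ N') = QuotientGroup.mk (n⁻¹ * a) := by
      rw [QuotientGroup.mk_mul, QuotientGroup.mk_inv, (QuotientGroup.eq_one_iff n).2 hna, inv_one, one_mul]
    rw [ea, ← QuotientGroup.mk_inv, ← QuotientGroup.mk_inv, ← QuotientGroup.mk_mul, ← QuotientGroup.mk_mul,
      ← QuotientGroup.mk_mul, (hc b).eq, mul_assoc b, mul_inv_cancel, mul_one, mul_inv_cancel, QuotientGroup.mk_one]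
  rw [E.L_perfect] at hle
  exact le_antisymm hN fun l hl => mem_subgroupOf.1 (hle (mem_top (⟨l, hl⟩ : E.L)))

theorem z_not_L : E.z ∉ E.L := fun h => by
  obtain ⟨σ, -, hσ⟩ := E.mem_L.1 h
  have e := hσ.unique E.img_z
  have h0 := lastPerm_low σ (i := 0) (by decide)
  rw [e] at h0
  exact absurd h0 (by decide)

/-- The centralizer of `z` in `C`. -/
theorem Cz_form {g : G} (ht : Commute g E.t) (hz : Commute g E.z) : ∃ a : ℕ, ∃ l ∈ E.L, g = E.z ^ a * l := by
  classical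
  let φ : Fin 3 × E.L → ↥(E.C ⊓ centralizer ({E.z} : Set G)) := fun p => ⟨E.z ^ (p.1 : ℕ) * p.2,
    E.mem_C.2 ((E.z_t.pow_left _).mul_left (E.L_t p.2.2)),
    mem_cent_iff.2 (((Commute.refl E.z).pow_left _).mul_left (E.L_z p.2.2))⟩
  have hinj : Function.Injective φ := by
    rintro ⟨a, l⟩ ⟨b, m⟩ h
    have h' : E.z ^ (a : ℕ) * l = E.z ^ (b : ℕ) * m := congrArg Subtype.val h
    have hm : E.z ^ ((a : ℕ) + 2 * (b : ℕ)) ∈ E.L := by
      have e : E.z ^ ((a : ℕ) + 2 * (b : ℕ)) * (l : G) = (m : G) := by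
        rw [add_comm, pow_add, mul_assoc, h', ← mul_assoc, ← pow_add, show 2 * (b : ℕ) + b = 3 * b by ring, pow_mul,
          E.z_cube, one_pow, one_mul]
      rw [show E.z ^ ((a : ℕ) + 2 * (b : ℕ)) = (m : G) * (l : G)⁻¹ by rw [← e, mul_inv_cancel_right]]
      exact mul_mem m.2 (inv_mem l.2)
    have h0 : ((a : ℕ) + 2 * (b : ℕ)) % 3 = 0 := by
      rw [pow_mod_three E.z_cube] at hm
      by_contra hne
      obtain e | e : ((a : ℕ) + 2 * (b : ℕ)) % 3 = 1 ∨ ((a : ℕ) + 2 * (b : ℕ)) % 3 = 2 := by omega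
      · rw [e, pow_one] at hm; exact E.z_not_L hm
      · rw [e] at hm
        have := mul_mem hm hm
        rw [← pow_add, show 2 + 2 = 3 + 1 by norm_num, pow_succ, E.z_cube, one_mul] at this
        exact E.z_not_L this
    have hab : a = b := Fin.ext (by have := a.2; have := b.2; omega)
    subst hab
    exact Prod.ext rfl (Subtype.ext (mul_left_cancel h'))
  obtain ⟨⟨a, l⟩, hp⟩ := ((Nat.bijective_iff_injective_and_card φ).2 ⟨hinj, by
    rw [Nat.card_prod, Nat.card_fin, E.card_L, E.card_Cz]⟩).surjective ⟨g, E.mem_C.2 ht, mem_cent_iff.2 hz⟩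
  exact ⟨a, l, l.2, (congrArg Subtype.val hp).symm⟩

/-- The core of the centralizer of `z`. -/
noncomputable def K : Subgroup G := coreIn E.Zc

theorem K_le : E.K ≤ E.Zc := Invol.TwoAn.coreIn_le _

theorem K_odd : Odd (Nat.card E.K) := Invol.TwoAn.coreIn_odd _

theorem K_z {k : G} (hk : k ∈ E.K) : Commute k E.z := mem_cent_iff.1 (E.K_le hk)

theorem K_conj {g x : G} (hg : Commute g E.z) (hx : x ∈ E.K) : g * x * g⁻¹ ∈ E.K :=
  Invol.TwoAn.coreIn_conj (fun a => by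
    rw [mem_cent_iff, mem_cent_iff, commute_conj_iff, show g⁻¹ * E.z * g = E.z by
      rw [(hg.inv_left).eq, inv_mul_cancel_right]]) hx

theorem inverted_mem_K {x : G} (hx : Commute x E.z) (ho : Odd (orderOf x)) (ht : E.t * x * E.t⁻¹ = x⁻¹) : x ∈ E.K :=
  Invol.TwoAn.inverted_mem_coreIn E.t_ord (mem_cent_iff.2 E.z_t.symm)
    (fun _ hv h2 h1 hc => E.Cz_invol hc (mem_cent_iff.1 hv) h2 h1) (mem_cent_iff.2 hx) ht ho

theorem z_K : E.z ∈ E.K := by
  refine Invol.TwoAn.le_coreIn (N := zpowers E.z) (zpowers_le.2 (mem_cent_iff.2 (Commute.refl _))) ?_ ?_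
    (mem_zpowers _)
  · rintro w hw x ⟨i, rfl⟩
    rw [conj_eq_iff.2 ((mem_cent_iff.1 hw).zpow_right i)]
    exact ⟨i, rfl⟩
  · rw [Nat.card_zpowers, E.z_ord]; decide

theorem K_inf_C {k : G} (hk : k ∈ E.K) (ht : Commute k E.t) : k ∈ zpowers E.z := by
  obtain ⟨a, l, hl, rfl⟩ := E.Cz_form ht (E.K_z hk)
  have hlK : l ∈ E.K := by
    have := E.K.mul_mem (E.K.inv_mem (pow_mem E.z_K a)) hk
    rwa [inv_mul_cancel_left] at this
  suffices hl1 : l = 1 by rw [hl1, mul_one]; exact pow_mem (mem_zpowers _) a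
  by_contra h1
  have hne : l ≠ E.t := fun e => by
    have h2 := E.K_odd.of_dvd_nat (Subgroup.orderOf_dvd_natCard _ hlK)
    rw [e, E.t_ord] at h2
    exact absurd h2 (by decide)
  have heq := E.L_normal (N := E.L ⊓ E.K) inf_le_left
    (fun g hg x hx => ⟨E.L.mul_mem (E.L.mul_mem hg hx.1) (E.L.inv_mem hg), E.K_conj (E.L_z hg) hx.2⟩) ⟨hl, hlK⟩ h1 hne
  have ht' : E.t ∈ E.L ⊓ E.K := by rw [heq]; exact E.t_L
  have h2 := E.K_odd.of_dvd_nat (Subgroup.orderOf_dvd_natCard _ ht'.2)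
  rw [E.t_ord] at h2
  exact absurd h2 (by decide)

theorem K_inf_L {k : G} (hk : k ∈ E.K) (hl : k ∈ E.L) : k = 1 := by
  obtain ⟨i, hi⟩ := eq_pow_of_mem_zpowers E.z_cube (E.K_inf_C hk (E.L_t hl))
  fin_cases i
  · simpa using hi
  · exact absurd hl (by simp only [Fin.mk_one, Fin.val_one, pow_one] at hi; rw [hi]; exact E.z_not_L)
  · refine absurd hl fun h => E.z_not_L ?_
    simp only [Fin.reduceFinMk, Fin.isValue, Fin.val_two] at hi
    rw [hi] at h
    have := mul_mem h h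
    rwa [← pow_add, show 2 + 2 = 3 + 1 by norm_num, pow_succ, E.z_cube, one_mul] at this

theorem Zc_form {g : G} (hg : Commute g E.z) : ∃ k ∈ E.K, ∃ l ∈ E.L, g = k * l := by
  have hiso : IsIsolatedInvolution (⟨E.t, mem_cent_iff.2 E.z_t.symm⟩ : E.Zc) := by
    refine ⟨by rw [← Subgroup.orderOf_coe]; exact E.t_ord, fun x hx => Subtype.ext ?_⟩
    refine E.Cz_invol (congrArg Subtype.val hx.eq.symm :) (mem_cent_iff.1 (x * _ * x⁻¹).2) ?_
      (mt conj_eq_one_iff.1 E.t_ne)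
    show (x : G) * E.t * (x : G)⁻¹ * ((x : G) * E.t * (x : G)⁻¹) = 1
    rw [← conj_mul', E.t_sq, mul_one, mul_inv_cancel]
  set tZ : E.Zc := ⟨E.t, mem_cent_iff.2 E.z_t.symm⟩
  set gZ : E.Zc := ⟨g, mem_cent_iff.2 hg⟩
  obtain ⟨k, -, -, hk, hkz⟩ := Cfsg.Agent.Invol.exists_odd_inverted hiso gZ
  have hkO : k ∈ Cfsg.oddCore E.Zc := by
    refine (zpowers_le.2 ?_) hkz
    have h1 := ZStar.commutator_mem_oddCore _ E.Zc rfl tZ hiso gZ
    rwa [show tZ * gZ * tZ⁻¹ * gZ⁻¹ = tZ * (gZ * tZ * gZ⁻¹) by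
      rw [Invol.inv_of_orderOf_two hiso.1]; group] at h1
  have hkK : (k : G) ∈ E.K := ⟨k, hkO, rfl⟩
  have hc : Commute ((k : G)⁻¹ * g) E.t := conj_eq_iff.1 (by
    have e : (k : G) * E.t * (k : G)⁻¹ = g * E.t * g⁻¹ := congrArg Subtype.val hk
    calc (k : G)⁻¹ * g * E.t * ((k : G)⁻¹ * g)⁻¹ = (k : G)⁻¹ * (g * E.t * g⁻¹) * k := by group
      _ = E.t := by rw [← e]; group)
  obtain ⟨a, l, hl, he⟩ := E.Cz_form hc ((E.K_z hkK).inv_left.mul_left hg)
  refine ⟨(k : G) * E.z ^ a, mul_mem hkK (pow_mem E.z_K a), l, hl, ?_⟩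
  rw [mul_assoc, ← he, mul_inv_cancel_left]

/-- The map onto `SL₂(5)`. -/
theorem exists_psi : ∃ ψ : E.Zc →* SL5, Function.Surjective ψ ∧ ∀ g : E.Zc, ψ g = 1 ↔ (g : G) ∈ E.K := by
  obtain ⟨e⟩ := E.L_iso
  set K' : Subgroup E.Zc := E.K.subgroupOf E.Zc
  haveI : K'.Normal := ⟨fun a ha g => mem_subgroupOf.2 (E.K_conj (mem_cent_iff.1 g.2) (mem_subgroupOf.1 ha))⟩
  let q : E.L →* E.Zc ⧸ K' := (QuotientGroup.mk' K').comp (inclusion fun l hl => mem_cent_iff.2 (E.L_z hl))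
  have hq : Function.Bijective q := by
    refine ⟨(injective_iff_map_eq_one q).2 fun l hl => Subtype.ext (E.K_inf_L ?_ l.2), fun x => ?_⟩
    · exact mem_subgroupOf.1 ((QuotientGroup.eq_one_iff (N := K') (inclusion (fun l hl => mem_cent_iff.2 (E.L_z hl) : E.L ≤ E.Zc) l)).1 hl)
    · obtain ⟨g, rfl⟩ := QuotientGroup.mk'_surjective K' x
      obtain ⟨k, hk, l, hl, hg⟩ := E.Zc_form (mem_cent_iff.1 g.2)
      refine ⟨⟨l, hl⟩, (QuotientGroup.eq (s := K')).2 (mem_subgroupOf.2 ?_)⟩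
      show l⁻¹ * (g : G) ∈ E.K
      rw [hg, ← mul_assoc]
      have h := E.K_conj (E.L_z hl).inv_left hk
      rwa [inv_inv] at h
  refine ⟨(e.toMonoidHom.comp (MulEquiv.ofBijective q hq).symm.toMonoidHom).comp (QuotientGroup.mk' K'),
    fun s => ?_, fun g => ?_⟩
  · obtain ⟨g, hg⟩ := QuotientGroup.mk'_surjective K' (MulEquiv.ofBijective q hq (e.symm s))
    exact ⟨g, by simp only [MonoidHom.comp_apply, MulEquiv.coe_toMonoidHom]; rw [hg, MulEquiv.symm_apply_apply, MulEquiv.apply_symm_apply]⟩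
  · simp only [MonoidHom.comp_apply, MulEquiv.coe_toMonoidHom, MulEquiv.map_eq_one_iff]
    exact (QuotientGroup.eq_one_iff g).trans mem_subgroupOf

/-- The map onto `SL₂(5)`. -/
noncomputable def ψ : E.Zc →* SL5 := Classical.choose E.exists_psi

theorem ψ_surj : Function.Surjective E.ψ := (Classical.choose_spec E.exists_psi).1

theorem ψ_ker (g : E.Zc) : E.ψ g = 1 ↔ (g : G) ∈ E.K := (Classical.choose_spec E.exists_psi).2 g

theorem f_not_K : E.f ∉ E.K := fun h => by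
  have := E.K_inf_L h E.f_L
  have e := E.P_injective (a := 0) (b := 1) (a' := 0) (b' := 0) (by simpa using this)
  exact absurd e.2 (by decide)

/-- The first inverted element of `J`. -/
noncomputable def g1 : G := E.σ * E.y' * E.σ⁻¹

/-- The second inverted element of `J`. -/
noncomputable def g2 : G := E.σ * (E.σ * E.y' * E.σ⁻¹) * E.σ⁻¹

theorem g1_J : E.g1 ∈ E.J := E.P1_le_J (E.mem_P1 E.y'_mem_P)

theorem g2_J : E.g2 ∈ E.J := E.P2_le_J (E.mem_P2 E.y'_mem_P)

theorem g1_t : E.t * E.g1 * E.t⁻¹ = E.g1⁻¹ := by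
  have e : E.t = E.σ * (E.T * E.t) * E.σ⁻¹ := E.σ_Tt.symm
  rw [g1, e, show E.σ * (E.T * E.t) * E.σ⁻¹ * (E.σ * E.y' * E.σ⁻¹) * (E.σ * (E.T * E.t) * E.σ⁻¹)⁻¹ =
    E.σ * (E.T * E.t * E.y' * (E.T * E.t)⁻¹) * E.σ⁻¹ by group, conj_comp E.T,
    conj_eq_iff.2 E.y'_t.symm, E.T_y']
  group

theorem g2_t : E.t * E.g2 * E.t⁻¹ = E.g2⁻¹ := by
  have e : E.t = E.σ * (E.σ * E.T * E.σ⁻¹) * E.σ⁻¹ := by rw [E.σ_T, E.σ_Tt]
  rw [g2, e, show E.σ * (E.σ * E.T * E.σ⁻¹) * E.σ⁻¹ * (E.σ * (E.σ * E.y' * E.σ⁻¹) * E.σ⁻¹) *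
    (E.σ * (E.σ * E.T * E.σ⁻¹) * E.σ⁻¹)⁻¹ = E.σ * (E.σ * (E.T * E.y' * E.T⁻¹) * E.σ⁻¹) * E.σ⁻¹ by group, E.T_y']
  simp [mul_assoc]

theorem J_commute_z {x : G} (hx : x ∈ E.J) : Commute x E.z := (E.mem_cP.1 (E.J_le_cP hx)).1

theorem g1_K : E.g1 ∈ E.K := E.inverted_mem_K (E.J_commute_z E.g1_J) (E.odd_of_J E.g1_J) E.g1_t

theorem g2_K : E.g2 ∈ E.K := E.inverted_mem_K (E.J_commute_z E.g2_J) (E.odd_of_J E.g2_J) E.g2_t

theorem y'_pair {x : G} (hx : x ∈ E.P) : x ∈ (zpowers E.y ⊔ zpowers E.y' : Subgroup G) := by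
  set R := (zpowers E.y ⊔ zpowers E.y' : Subgroup G)
  have hy : E.y ∈ R := mem_sup_left (mem_zpowers _)
  have hy' : E.y' ∈ R := mem_sup_right (mem_zpowers _)
  have hz : E.z ∈ R := by
    have e : (E.y * E.y') * (E.y * E.y') = E.z := by
      rw [show E.y * E.y' = E.z ^ 2 by
        rw [y, y', ← mul_assoc, mul_assoc E.z E.f E.z, ← E.z_f.eq, ← mul_assoc, mul_inv_cancel_right, pow_two],
        ← pow_add, show 2 + 2 = 3 + 1 by norm_num, pow_succ, E.z_cube, one_mul]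
    exact e ▸ mul_mem (mul_mem hy hy') (mul_mem hy hy')
  have hf : E.f ∈ R := by
    have := mul_mem (inv_mem hz) hy
    rwa [y, inv_mul_cancel_left] at this
  obtain ⟨a, b, rfl⟩ := hx
  exact mul_mem (pow_mem hz a) (pow_mem hf b)

theorem J_gen : E.J ≤ E.P ⊔ zpowers E.g1 ⊔ zpowers E.g2 := by
  conv_lhs => rw [E.J_eq_sup]
  have hσy : E.σ * E.y * E.σ⁻¹ = E.y := conj_eq_iff.2 E.σ_y
  refine sup_le (sup_le (le_sup_left.trans le_sup_left) ?_) ?_
  · rintro _ ⟨p, hp, rfl⟩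
    have h := mem_map_of_mem (MulAut.conj E.σ).toMonoidHom (E.y'_pair hp)
    rw [Subgroup.map_sup, MonoidHom.map_zpowers, MonoidHom.map_zpowers,
      show (MulAut.conj E.σ).toMonoidHom E.y = E.y from hσy] at h
    refine (sup_le ?_ ?_ : (_ : Subgroup G) ≤ E.P ⊔ zpowers E.g1 ⊔ zpowers E.g2) h
    · exact (zpowers_le.2 E.y_mem_P).trans (le_sup_left.trans le_sup_left)
    · exact (le_sup_right : zpowers E.g1 ≤ E.P ⊔ zpowers E.g1).trans le_sup_left
  · rintro _ ⟨p, hp, rfl⟩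
    have h := mem_map_of_mem (MulAut.conj (E.σ * E.σ)).toMonoidHom (E.y'_pair hp)
    rw [Subgroup.map_sup, MonoidHom.map_zpowers, MonoidHom.map_zpowers,
      show (MulAut.conj (E.σ * E.σ)).toMonoidHom E.y = E.y from conj_eq_iff.2 (E.σ_y.mul_left E.σ_y),
      show (MulAut.conj (E.σ * E.σ)).toMonoidHom E.y' = E.g2 from
        show E.σ * E.σ * E.y' * (E.σ * E.σ)⁻¹ = _ by rw [g2]; group] at h
    refine (sup_le ?_ le_sup_right : (_ : Subgroup G) ≤ E.P ⊔ zpowers E.g1 ⊔ zpowers E.g2) h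
    exact (zpowers_le.2 E.y_mem_P).trans (le_sup_left.trans le_sup_left)

theorem card_K_inf_J : Nat.card ↥(E.K ⊓ E.J) = 27 := by
  classical
  let ρ : E.J →* SL5 := E.ψ.comp (inclusion fun x hx => mem_cent_iff.2 (E.J_commute_z hx))
  set fJ : E.J := ⟨E.f, E.P_le_J E.f_mem_P⟩
  have hfne : ρ fJ ≠ 1 := fun h => E.f_not_K ((E.ψ_ker _).1 h)
  have hf3 : (ρ fJ) ^ 3 = 1 := by
    rw [← map_pow, show fJ ^ 3 = 1 from Subtype.ext E.f_cube, map_one]
  have hrange : ρ.range = zpowers (ρ fJ) := by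
    refine le_antisymm ?_ (zpowers_le.2 ⟨fJ, rfl⟩)
    rintro _ ⟨x, rfl⟩
    set B := ((zpowers (ρ fJ)).comap ρ).map E.J.subtype
    have hB : E.P ⊔ zpowers E.g1 ⊔ zpowers E.g2 ≤ B := by
      have hK : ∀ a, a ∈ E.J → a ∈ E.K → a ∈ B := fun a ha hk =>
        ⟨⟨a, ha⟩, by rw [SetLike.mem_coe, mem_comap, show ρ ⟨a, ha⟩ = 1 from (E.ψ_ker _).2 hk]; exact one_mem _, rfl⟩
      refine sup_le (sup_le ?_ (zpowers_le.2 (hK _ E.g1_J E.g1_K))) (zpowers_le.2 (hK _ E.g2_J E.g2_K))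
      rintro _ ⟨a, b, rfl⟩
      exact mul_mem (pow_mem (hK _ (E.P_le_J E.z_mem_P) E.z_K) a)
        (pow_mem (show E.f ∈ B from ⟨fJ, by rw [SetLike.mem_coe, mem_comap]; exact mem_zpowers _, rfl⟩) b)
    obtain ⟨x', hx', e⟩ := hB (E.J_gen x.2)
    exact (Subtype.ext e : x' = x) ▸ hx'
  have h := ρ.ker.card_mul_index
  rw [index_ker, hrange, Nat.card_zpowers, orderOf_eq_prime hf3 hfne, E.card_J] at h
  have e : ρ.ker = (E.K ⊓ E.J).subgroupOf E.J := by
    ext x
    rw [MonoidHom.mem_ker, mem_subgroupOf]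
    exact ⟨fun hx => ⟨(E.ψ_ker _).1 hx, x.2⟩, fun hx => (E.ψ_ker _).2 hx.1⟩
  rw [e, Nat.card_congr (subgroupOfEquivOfLe (inf_le_right : E.K ⊓ E.J ≤ E.J)).toEquiv] at h
  omega

theorem K_commutator : ∀ a ∈ E.K, ∀ b ∈ E.K, a * b * a⁻¹ * b⁻¹ ∈ zpowers E.z :=
  commutator_mem_fixed E.K_odd E.t_sq (fun _ hx => E.K_conj E.z_t.symm hx) (fun _ hx h => E.K_inf_C hx h)
    (by rintro _ ⟨i, rfl⟩ x hx; exact (E.K_z hx).symm.zpow_left i)
    (by rintro _ ⟨i, rfl⟩; exact E.z_t.zpow_left i)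

theorem cent_conj_y {n g : G} (hn : n ∈ E.N) (hg : n * E.y * n⁻¹ = g) :
    centralizer ({g} : Set G) ≤ E.N ∧ Nat.card ↥(centralizer ({g} : Set G)) = 972 := by
  have pull : ∀ x : G, x ∈ centralizer ({g} : Set G) → n⁻¹ * x * n ∈ E.Y := fun x hx => by
    have := commute_conj (g := n⁻¹) (mem_cent_iff.1 hx)
    rw [← hg, inv_inv, show n⁻¹ * (n * E.y * n⁻¹) * n = E.y by group] at this
    exact mem_cent_iff.2 this
  refine ⟨fun x hx => ?_, ?_⟩
  · rw [show x = n * (n⁻¹ * x * n) * n⁻¹ by group]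
    exact mul_mem (mul_mem hn (E.Y_le_N (pull x hx))) (inv_mem hn)
  · rw [← E.card_Y]
    refine (Invol.TwoAn.card_conj_eq n fun x => ⟨fun hx => mem_cent_iff.2 ?_, fun hx => ?_⟩).symm
    · rw [← hg]; exact commute_conj (mem_cent_iff.1 hx)
    · have := pull _ hx
      rwa [show n⁻¹ * (n * x * n⁻¹) * n = x by group] at this

theorem σ_mem_N : E.σ ∈ E.N := (E.mem_M.1 E.σ_mem_M).2

theorem j_mem_N : E.j ∈ E.N := E.mem_N_of_P E.j_conj_P

theorem cent_g1 : centralizer ({E.g1} : Set G) ≤ E.N ∧ Nat.card ↥(centralizer ({E.g1} : Set G)) = 972 :=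
  E.cent_conj_y (mul_mem E.σ_mem_N E.j_mem_N) (by rw [conj_comp, E.j_y]; rfl)

theorem cent_g2 : centralizer ({E.g2} : Set G) ≤ E.N ∧ Nat.card ↥(centralizer ({E.g2} : Set G)) = 972 :=
  E.cent_conj_y (mul_mem E.σ_mem_N (mul_mem E.σ_mem_N E.j_mem_N)) (by rw [conj_comp, conj_comp, E.j_y]; rfl)

/-- Commutation with an element of `K`. -/
noncomputable def comHom {g : G} (hg : g ∈ E.K) : E.K →* zpowers E.z :=
  MonoidHom.mk' (fun x => ⟨(x : G) * g * (x : G)⁻¹ * g⁻¹, E.K_commutator x x.2 g hg⟩) fun a b => Subtype.ext (by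
    obtain ⟨i, hi⟩ := E.K_commutator b b.2 g hg
    show (a : G) * b * g * ((a : G) * b)⁻¹ * g⁻¹ =
      (a : G) * g * (a : G)⁻¹ * g⁻¹ * ((b : G) * g * (b : G)⁻¹ * g⁻¹)
    rw [show (a : G) * b * g * ((a : G) * b)⁻¹ * g⁻¹ =
      (a : G) * ((b : G) * g * (b : G)⁻¹ * g⁻¹) * (a : G)⁻¹ * ((a : G) * g * (a : G)⁻¹ * g⁻¹) by group,
      ← show E.z ^ i = (b : G) * g * (b : G)⁻¹ * g⁻¹ from hi, conj_eq_iff.2 ((E.K_z a.2).zpow_right i)]
    exact ((E.K_z (mul_mem (mul_mem (mul_mem a.2 hg) (inv_mem a.2)) (inv_mem hg))).symm.zpow_left i).eq)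

theorem comHom_ker {g : G} (hg : g ∈ E.K) :
    Nat.card (E.comHom hg).ker = Nat.card ↥(E.K ⊓ centralizer ({g} : Set G)) := by
  refine Nat.card_congr ⟨fun x => (⟨((x : E.K) : G), (x : E.K).2, mem_cent_iff.2 (conj_eq_iff.1 ?_)⟩ :
      ↥(E.K ⊓ centralizer ({g} : Set G))),
    fun x => ⟨⟨x, x.2.1⟩, MonoidHom.mem_ker.2 (Subtype.ext ?_)⟩, fun _ => rfl, fun _ => rfl⟩
  · have h := congrArg Subtype.val (MonoidHom.mem_ker.1 x.2)
    exact mul_inv_eq_one.1 h
  · show (x : G) * g * (x : G)⁻¹ * g⁻¹ = 1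
    rw [conj_eq_iff.2 (mem_cent_iff.1 x.2.2), mul_inv_cancel]

theorem K_cent_g {g : G} (hgJ : g ∈ E.J) (hcard : Nat.card ↥(centralizer ({g} : Set G)) = 972) :
    Nat.card ↥(E.K ⊓ centralizer ({g} : Set G)) ∣ 81 := by
  haveI : Fact (Nat.Prime 3) := ⟨Nat.prime_three⟩
  set A := E.K ⊓ centralizer ({g} : Set G)
  have hodd : Odd (Nat.card A) := E.K_odd.of_dvd_nat (card_dvd_of_le inf_le_left)
  have h243 : Nat.card A ∣ 3 ^ 5 := by
    have h := card_dvd_of_le (inf_le_right : A ≤ centralizer ({g} : Set G))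
    rw [hcard, show (972 : ℕ) = 3 ^ 5 * 4 by norm_num] at h
    exact Nat.Coprime.dvd_of_dvd_mul_right (Nat.Coprime.pow_right 2 (Nat.coprime_two_right.2 hodd)) h
  obtain ⟨i, hi, hie⟩ := (Nat.dvd_prime_pow Nat.prime_three).1 h243
  have hfg : Commute E.f g := (E.mem_cP.1 (E.J_le_cP hgJ)).2.symm
  have hfA : E.f ∈ normalizer (A : Set G) := mem_normalizer_of_conj fun x hx => ⟨E.K_conj E.z_f.symm hx.1,
    mem_cent_iff.2 (by
      have := commute_conj (g := E.f) (mem_cent_iff.1 hx.2)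
      rwa [conj_eq_iff.2 hfg] at this)⟩
  have hf3 : IsPGroup 3 (zpowers E.f) := IsPGroup.of_card (n := 1) (by
    rw [Nat.card_zpowers, orderOf_eq_prime E.f_cube fun e => E.f_not_K (e ▸ one_mem _)]; norm_num)
  have hsup : IsPGroup 3 (A ⊔ zpowers E.f : Subgroup G) :=
    IsPGroup.to_sup_of_normal_left' (IsPGroup.of_card (n := i) hie) hf3 (zpowers_le.2 hfA)
  obtain ⟨k, hk⟩ := IsPGroup.iff_card.1 hsup
  have hd := card_dvd_of_le (sup_le inf_le_right (zpowers_le.2 (mem_cent_iff.2 hfg)) :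
    A ⊔ zpowers E.f ≤ centralizer ({g} : Set G))
  rw [hk, hcard] at hd
  have hk5 : k ≤ 5 := by
    by_contra hlt
    exact absurd ((pow_dvd_pow 3 (show 6 ≤ k by omega)).trans hd) (by norm_num)
  have hlt : Nat.card A < Nat.card ↥(A ⊔ zpowers E.f) := by
    refine lt_of_le_of_ne (card_le_of_le le_sup_left) fun e => E.f_not_K ?_
    have h := eq_of_le_of_card_ge (le_sup_left : A ≤ A ⊔ zpowers E.f) e.ge
    have : E.f ∈ A := h.symm ▸ mem_sup_right (mem_zpowers _)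
    exact this.1
  rw [hie, hk] at hlt
  rw [hie]
  have hi4 : i < k := (Nat.pow_lt_pow_iff_right (by norm_num)).1 hlt
  exact (pow_dvd_pow 3 (show i ≤ 4 by omega)).trans (by norm_num)

theorem card_K_dvd : Nat.card E.K ∣ 243 := by
  have h := (E.comHom E.g1_K).ker.card_mul_index
  rw [index_ker, E.comHom_ker] at h
  rw [← h, show (243 : ℕ) = 81 * 3 by norm_num]
  refine Nat.mul_dvd_mul (E.K_cent_g E.g1_J E.cent_g1.2) ?_
  rw [show 3 = Nat.card (zpowers E.z) by rw [Nat.card_zpowers, E.z_ord]]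
  exact card_subgroup_dvd_card _

theorem K_three : IsPGroup 3 E.K := by
  obtain ⟨n, -, hn⟩ := (Nat.dvd_prime_pow Nat.prime_three).1 (show Nat.card E.K ∣ 3 ^ 5 from E.card_K_dvd)
  exact IsPGroup.of_card hn

/-- An invariant subgroup of `K` of order at most `81` is generated by `z`. -/
theorem small_invariant {R : Subgroup G} (hR : R ≤ E.K) (hzR : E.z ∈ R)
    (hn : ∀ g, Commute g E.z → ∀ x ∈ R, g * x * g⁻¹ ∈ R) (hc : Nat.card R ≤ 81) : R = zpowers E.z := by
  classical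
  haveI : Fact (Nat.Prime 5) := ⟨Nat.prime_five⟩
  haveI : Fact (Nat.Prime 3) := ⟨Nat.prime_three⟩
  haveI := Fintype.ofFinite R
  obtain ⟨hL, hh⟩ := exists_prime_orderOf_dvd_card' 5 (G := E.L) (by rw [E.card_L]; norm_num)
  rw [← Subgroup.orderOf_coe] at hh
  set h : G := (hL : G)
  have hz : Commute h E.z := E.L_z hL.2
  have hH : IsPGroup 5 (zpowers h) := IsPGroup.of_card (n := 1) (by rw [Nat.card_zpowers, hh, pow_one])
  have hmem : ∀ g : zpowers h, ∀ x : R, (g : G) * x * (g : G)⁻¹ ∈ R := fun g x =>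
    hn _ (by obtain ⟨i, hi⟩ := g.2; rw [← show h ^ i = (g : G) from hi]; exact hz.zpow_left i) x x.2
  letI : MulAction (zpowers h) R :=
    { smul := fun g x => ⟨(g : G) * x * (g : G)⁻¹, hmem g x⟩
      one_smul := fun x => Subtype.ext (by
        show ((1 : zpowers h) : G) * x * ((1 : zpowers h) : G)⁻¹ = x
        simp)
      mul_smul := fun a b x => Subtype.ext (by
        show ((a * b : zpowers h) : G) * x * ((a * b : zpowers h) : G)⁻¹ = _
        rw [Subgroup.coe_mul, conj_comp]; rfl) }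
  have hmod := hH.card_modEq_card_fixedPoints R
  have hfix : Nat.card (MulAction.fixedPoints (zpowers h) R) = Nat.card ↥(R ⊓ centralizer ({h} : Set G)) :=
    Nat.card_congr ⟨fun x => ⟨(x : R), (x : R).2, mem_cent_iff.2 (conj_eq_iff.1
        (congrArg Subtype.val (x.2 ⟨h, mem_zpowers h⟩))).symm⟩,
      fun x => ⟨⟨x, x.2.1⟩, fun g => Subtype.ext (conj_eq_iff.2 (by
        obtain ⟨i, hi⟩ := g.2
        rw [← show h ^ i = (g : G) from hi]
        exact (mem_cent_iff.1 x.2.2).symm.zpow_left i))⟩, fun _ => rfl, fun _ => rfl⟩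
  rw [hfix] at hmod
  obtain ⟨n, hn'⟩ := IsPGroup.iff_card.1 (E.K_three.to_le hR)
  obtain ⟨m, hm⟩ := IsPGroup.iff_card.1 (E.K_three.to_le ((inf_le_left : R ⊓ centralizer ({h} : Set G) ≤ R).trans hR))
  have h3m : 3 ∣ 3 ^ m := by
    have h' : E.z ∈ R ⊓ centralizer ({h} : Set G) := ⟨hzR, mem_cent_iff.2 hz.symm⟩
    rw [← hm, ← E.z_ord]
    exact Subgroup.orderOf_dvd_natCard _ h'
  have hmn : 3 ^ m ≤ 3 ^ n := by rw [← hm, ← hn']; exact card_le_of_le inf_le_left
  rw [hn', hm] at hmod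
  have hm1 : 1 ≤ m := by
    by_contra h0
    rw [show m = 0 by omega] at h3m
    norm_num at h3m
  have hn4 : n ≤ 4 := by
    rw [hn'] at hc
    exact (Nat.pow_le_pow_iff_right (show 1 < 3 by norm_num)).1 (hc.trans (by norm_num))
  have hmn' : m ≤ n := (Nat.pow_le_pow_iff_right (show 1 < 3 by norm_num)).1 hmn
  have hmeq : m = n := by
    unfold Nat.ModEq at hmod
    interval_cases n <;> interval_cases m <;> simp_all
  have hRh : R ⊓ centralizer ({h} : Set G) = R := eq_of_le_of_card_ge inf_le_left (by rw [hn', hm, hmeq])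
  have hN := E.L_normal (N := E.L ⊓ centralizer (R : Set G)) inf_le_left
    (fun l hl x hx => ⟨E.L.mul_mem (E.L.mul_mem hl hx.1) (E.L.inv_mem hl), mem_centralizer_iff.2 fun r hr => by
      have h1 := mem_centralizer_iff.1 hx.2 _ (hn l⁻¹ (E.L_z hl).inv_left r hr)
      rw [inv_inv] at h1
      have h2 := commute_conj (g := l) (show Commute (l⁻¹ * r * l) x from h1)
      rw [show l * (l⁻¹ * r * l) * l⁻¹ = r by group] at h2
      exact h2.eq⟩)
    (x := h) ⟨hL.2, mem_centralizer_iff.2 fun r hr => (mem_cent_iff.1 (hRh.ge hr).2).eq⟩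
    (fun e => by rw [e, orderOf_one] at hh; omega)
    (fun e => by rw [e, E.t_ord] at hh; omega)
  have htR : E.t ∈ centralizer (R : Set G) := (hN.ge E.t_L).2
  refine le_antisymm (fun r hr => E.K_inf_C (hR hr) (mem_centralizer_iff.1 htR r hr)) (zpowers_le.2 hzR)

theorem card_K : Nat.card E.K = 243 := by
  obtain ⟨n, hn, hc⟩ := (Nat.dvd_prime_pow Nat.prime_three).1 (show Nat.card E.K ∣ 3 ^ 5 from E.card_K_dvd)
  by_contra hne
  have hn4 : n ≤ 4 := by
    by_contra h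
    rw [hc, show n = 5 by omega] at hne
    norm_num at hne
  have hK := E.small_invariant le_rfl E.z_K (fun g hg x hx => E.K_conj hg hx)
    (by rw [hc]; exact (Nat.pow_le_pow_right (by norm_num) hn4).trans (by norm_num))
  have h27 := card_le_of_le (inf_le_left : E.K ⊓ E.J ≤ E.K)
  rw [E.card_K_inf_J, hK, Nat.card_zpowers, E.z_ord] at h27
  omega

theorem K_center {a : G} (ha : a ∈ E.K) (hc : ∀ b ∈ E.K, a * b = b * a) : a ∈ zpowers E.z := by
  set R : Subgroup G := E.K ⊓ centralizer (E.K : Set G)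
  have hR : R = zpowers E.z := by
    refine E.small_invariant inf_le_left ⟨E.z_K, mem_centralizer_iff.2 fun b hb => (E.K_z hb).eq⟩
      (fun g hg x hx => ⟨E.K_conj hg hx.1, mem_centralizer_iff.2 fun b hb => ?_⟩) ?_
    · have h1 := mem_centralizer_iff.1 hx.2 _ (E.K_conj hg.inv_left hb)
      rw [inv_inv] at h1
      have h2 := commute_conj (g := g) (show Commute (g⁻¹ * b * g) x from h1)
      rw [show g * (g⁻¹ * b * g) * g⁻¹ = b by group] at h2
      exact h2.eq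
    · by_contra hlt
      have heq : R = E.K := by
        refine eq_of_le_of_card_ge inf_le_left ?_
        have h := card_dvd_of_le (inf_le_left : R ≤ E.K)
        rw [E.card_K] at h ⊢
        obtain ⟨m, hm, hme⟩ := (Nat.dvd_prime_pow Nat.prime_three).1 (show Nat.card R ∣ 3 ^ 5 from h)
        rw [hme] at hlt ⊢
        interval_cases m <;> first | (norm_num; done) | norm_num at hlt
      have hall : E.K ≤ centralizer ({E.g1} : Set G) := fun x hx => mem_cent_iff.2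
        (mem_centralizer_iff.1 (heq.ge hx).2 _ E.g1_K).symm
      have h81 := E.K_cent_g E.g1_J E.cent_g1.2
      rw [inf_eq_left.2 hall, E.card_K] at h81
      norm_num at h81
  exact hR ▸ ⟨ha, mem_centralizer_iff.2 fun b hb => (hc b hb).symm⟩

theorem K_cube {a : G} (ha : a ∈ E.K) : a ^ 3 = 1 := by
  let R : Subgroup G :=
    { carrier := {a | a ∈ E.K ∧ a ^ 3 = 1}
      one_mem' := ⟨one_mem _, one_pow 3⟩
      mul_mem' := fun {a b} ha hb => by
        refine ⟨mul_mem ha.1 hb.1, ?_⟩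
        have hk : ∀ c ∈ E.K, Commute ⁅b, a⁆ c := fun c hc => by
          obtain ⟨i, hi⟩ := E.K_commutator b hb.1 a ha.1
          rw [commutatorElement_def, ← show E.z ^ i = _ from hi]
          exact (E.K_z hc).symm.zpow_left i
        rw [Invol.TwoAn.cube_mul (hk a ha.1) (hk b hb.1), ha.2, hb.2, mul_one, mul_one]
        obtain ⟨i, hi⟩ := E.K_commutator b hb.1 a ha.1
        rw [commutatorElement_def, ← show E.z ^ i = _ from hi, ← zpow_natCast, ← zpow_mul, mul_comm, zpow_mul,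
          zpow_natCast, E.z_cube, one_zpow]
      inv_mem' := fun {a} ha => ⟨inv_mem ha.1, by rw [inv_pow, ha.2, inv_one]⟩ }
  have hR : R = E.K := by
    refine eq_of_le_of_card_ge (show R ≤ E.K from fun x hx => hx.1) ?_
    by_contra hlt
    have hle : Nat.card R ≤ 81 := by
      have h := card_dvd_of_le (show R ≤ E.K from fun x hx => hx.1)
      rw [E.card_K] at h hlt
      obtain ⟨m, hm, hme⟩ := (Nat.dvd_prime_pow Nat.prime_three).1 (show Nat.card R ∣ 3 ^ 5 from h)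
      rw [hme] at hlt ⊢
      interval_cases m <;> first | (norm_num; done) | norm_num at hlt
    have hRz := E.small_invariant (show R ≤ E.K from fun x hx => hx.1) (show E.z ∈ R from ⟨E.z_K, E.z_cube⟩)
      (fun g hg x hx => ⟨E.K_conj hg hx.1, by rw [conj_pow, hx.2, mul_one, mul_inv_cancel]⟩) hle
    have h27 := card_le_of_le (show E.K ⊓ E.J ≤ R from fun x hx => ⟨hx.1, E.J_cube hx.2⟩)
    rw [E.card_K_inf_J, hRz, Nat.card_zpowers, E.z_ord] at h27
    omega
  exact (hR.ge ha).2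

theorem K_self_cent {g : G} (hg : ∀ q ∈ E.K, g * q = q * g) : g ∈ E.K := by
  obtain ⟨k, hk, l, hl, rfl⟩ := E.Zc_form (show Commute g E.z from hg _ E.z_K)
  let N : Subgroup G :=
    { carrier := {l | l ∈ E.L ∧ ∀ x ∈ E.K, l * x * l⁻¹ * x⁻¹ ∈ zpowers E.z}
      one_mem' := ⟨one_mem _, fun x _ => by simp⟩
      mul_mem' := fun {a b} ha hb => ⟨mul_mem ha.1 hb.1, fun x hx => by
        obtain ⟨i, hi⟩ := hb.2 x hx
        rw [show a * b * x * (a * b)⁻¹ * x⁻¹ = a * (b * x * b⁻¹ * x⁻¹) * a⁻¹ * (a * x * a⁻¹ * x⁻¹) by group,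
          ← show E.z ^ i = _ from hi, conj_eq_iff.2 ((E.L_z ha.1).zpow_right i)]
        exact mul_mem (zpow_mem (mem_zpowers _) i) (ha.2 x hx)⟩
      inv_mem' := fun {a} ha => ⟨inv_mem ha.1, fun x hx => by
        have h := ha.2 _ (E.K_conj (E.L_z ha.1).inv_left hx)
        rw [inv_inv] at h
        have := inv_mem h
        rwa [show (a * (a⁻¹ * x * a) * a⁻¹ * (a⁻¹ * x * a)⁻¹)⁻¹ = a⁻¹ * x * a⁻¹⁻¹ * x⁻¹ by group] at this⟩ }
  have hlN : l ∈ N := by
    refine ⟨hl, fun x hx => ?_⟩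
    have h := hg x hx
    have e : l * x * l⁻¹ = k⁻¹ * x * k := by
      calc l * x * l⁻¹ = k⁻¹ * (k * l * x) * l⁻¹ := by group
        _ = _ := by rw [h]; group
    rw [e]
    have := E.K_commutator k⁻¹ (inv_mem hk) x hx
    rwa [inv_inv] at this
  by_contra hnot
  have hl1 : l ≠ 1 := fun e => hnot (by rw [e, mul_one]; exact hk)
  have htN : E.t ∈ N := by
    by_cases hlt : l = E.t
    · exact hlt ▸ hlN
    · have := E.L_normal (N := N) (fun x hx => hx.1) (fun a ha x hx => ⟨mul_mem (mul_mem ha hx.1) (inv_mem ha), fun q hq => by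
        have h := hx.2 _ (E.K_conj (E.L_z ha).inv_left hq)
        rw [inv_inv] at h
        obtain ⟨i, hi⟩ := h
        rw [show a * x * a⁻¹ * q * (a * x * a⁻¹)⁻¹ * q⁻¹ = a * (x * (a⁻¹ * q * a) * x⁻¹ * (a⁻¹ * q * a)⁻¹) * a⁻¹ by
          group, ← show E.z ^ i = _ from hi, conj_eq_iff.2 ((E.L_z ha).zpow_right i)]
        exact zpow_mem (mem_zpowers _) i⟩) hlN hl1 hlt
      exact this ▸ E.t_L
  have h := htN.2 _ E.g1_K
  rw [E.g1_t] at h
  have hg1 : E.g1 ∈ zpowers E.z := by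
    rw [show E.g1 = E.g1⁻¹ * E.g1⁻¹ from ?_]
    · exact h
    calc E.g1 = E.g1 ^ 3 * (E.g1⁻¹ * E.g1⁻¹) := by rw [pow_succ, pow_two]; group
      _ = _ := by rw [E.K_cube E.g1_K, one_mul]
  obtain ⟨i, hi⟩ := hg1
  have hti : E.t * E.g1 * E.t⁻¹ = E.g1 := by rw [← show E.z ^ i = E.g1 from hi, conj_eq_iff.2 (E.z_t.symm.zpow_right i)]
  rw [E.g1_t] at hti
  have : E.g1 = 1 := by
    calc E.g1 = E.g1 ^ 3 * (E.g1 * E.g1)⁻¹ := by rw [pow_succ, pow_two]; group
      _ = 1 := by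
        rw [E.K_cube E.g1_K, show E.g1 * E.g1 = 1 by nth_rw 1 [← hti]; exact inv_mul_cancel _, inv_one, one_mul]
  rw [g1, conj_eq_one_iff] at this
  exact absurd (E.P_injective (a := 1) (b := 2) (a' := 0) (b' := 0) (by
    simp only [Fin.val_one, Fin.val_two, pow_one, Fin.val_zero, pow_zero, mul_one]
    rw [show E.f ^ 2 = E.f⁻¹ from eq_inv_of_mul_eq_one_left (by rw [← pow_succ, E.f_cube])]
    exact this)).1 (by decide)

theorem K_le_N : E.K ≤ E.N := by
  set A := E.K ⊓ centralizer ({E.g1} : Set G)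
  set B := E.K ⊓ centralizer ({E.g2} : Set G)
  have hA : Nat.card A = 81 ∧ Nat.card B = 81 := by
    have key : ∀ {g : G}, (hg : g ∈ E.K) → g ∈ E.J → Nat.card ↥(centralizer ({g} : Set G)) = 972 →
        Nat.card ↥(E.K ⊓ centralizer ({g} : Set G)) = 81 := by
      intro g hg hgJ hc
      have h := (E.comHom hg).ker.card_mul_index
      rw [index_ker, E.comHom_ker, E.card_K] at h
      have h1 := Nat.le_of_dvd (by norm_num) (E.K_cent_g hgJ hc)
      have h2 : Nat.card (E.comHom hg).range ≤ 3 := by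
        refine (card_le_card_group _).trans ?_
        rw [Nat.card_zpowers, E.z_ord]
      nlinarith
    exact ⟨key E.g1_K E.g1_J E.cent_g1.2, key E.g2_K E.g2_J E.cent_g2.2⟩
  have hsup : A ⊔ B = E.K := by
    by_cases hle : B ≤ A
    · exfalso
      have hAB : B = A := eq_of_le_of_card_ge hle (by rw [hA.1, hA.2])
      obtain ⟨x, hx, hxA⟩ : ∃ x ∈ E.K, x ∉ A := SetLike.not_le_iff_exists.1 fun h => by
        have := card_le_of_le h
        rw [E.card_K, hA.1] at this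
        omega
      obtain ⟨a, ha⟩ := eq_pow_of_mem_zpowers E.z_cube (E.K_commutator x hx _ E.g1_K)
      obtain ⟨b, hb⟩ := eq_pow_of_mem_zpowers E.z_cube (E.K_commutator x hx _ E.g2_K)
      have ha0 : (a : ℕ) ≠ 0 := fun e => hxA ⟨hx, mem_cent_iff.2 (conj_eq_iff.1 (mul_inv_eq_one.1 (by
        rw [ha, e, pow_zero])))⟩
      obtain ⟨k, hk⟩ : ∃ k : Fin 3, ((k : ℕ) * (a : ℕ) + (b : ℕ)) % 3 = 0 :=
        (by decide : ∀ a b : Fin 3, (a : ℕ) ≠ 0 → ∃ k : Fin 3, ((k : ℕ) * (a : ℕ) + (b : ℕ)) % 3 = 0) a b ha0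
      set g := E.g1 ^ (k : ℕ) * E.g2 with hgdef
      have hgK : g ∈ E.K := mul_mem (pow_mem E.g1_K _) E.g2_K
      have e1 : x * E.g1 * x⁻¹ = E.z ^ (a : ℕ) * E.g1 := by rw [← ha]; group
      have e2 : x * E.g2 * x⁻¹ = E.z ^ (b : ℕ) * E.g2 := by rw [← hb]; group
      have hxg : x * g * x⁻¹ = g := by
        have hzg : Commute (E.g1 ^ (k : ℕ)) (E.z ^ (b : ℕ)) := (E.K_z E.g1_K).pow_pow _ _
        rw [hgdef, conj_mul', ← conj_pow, e1, e2, ((E.K_z E.g1_K).symm.pow_left _).mul_pow, ← pow_mul,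
          mul_assoc, ← mul_assoc (E.g1 ^ (k : ℕ)), hzg.eq, mul_assoc, ← mul_assoc, ← pow_add,
          pow_mod_three E.z_cube, mul_comm (a : ℕ), hk, pow_zero, one_mul]
      have hAg : A ≤ centralizer ({g} : Set G) := fun w hw => by
        have h2 : w ∈ B := hAB.symm ▸ hw
        exact mem_cent_iff.2 (((mem_cent_iff.1 hw.2).pow_right _).mul_right (mem_cent_iff.1 h2.2))
      have hall : E.K ≤ centralizer ({g} : Set G) := by
        intro w hw
        have hAx : A ⊔ zpowers x = E.K := by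
          refine eq_of_le_of_card_ge (sup_le inf_le_left (zpowers_le.2 hx)) ?_
          rw [E.card_K]
          have hlt : Nat.card A < Nat.card ↥(A ⊔ zpowers x) := by
            refine lt_of_le_of_ne (card_le_of_le le_sup_left) fun e => hxA ?_
            exact (eq_of_le_of_card_ge (le_sup_left : A ≤ A ⊔ zpowers x) e.ge).ge (mem_sup_right (mem_zpowers _))
          obtain ⟨m, hm, hme⟩ := (Nat.dvd_prime_pow Nat.prime_three).1 (show Nat.card ↥(A ⊔ zpowers x) ∣ 3 ^ 5 from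
            (E.card_K ▸ card_dvd_of_le (sup_le inf_le_left (zpowers_le.2 hx)) :))
          rw [hA.1, hme] at hlt
          rw [hme]
          interval_cases m <;> first | (norm_num; done) | norm_num at hlt
        rw [← hAx] at hw
        exact (sup_le hAg (zpowers_le.2 (mem_cent_iff.2 (conj_eq_iff.1 hxg)))) hw
      have hgz : g ∈ zpowers E.z := E.K_center hgK fun w hw => (mem_cent_iff.1 (hall hw)).eq.symm
      -- the intersection with `J` would be too small
      have hg2 : E.g2 ∈ (zpowers E.z ⊔ zpowers E.g1 : Subgroup G) := by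
        rw [show E.g2 = (E.g1 ^ (k : ℕ))⁻¹ * g by rw [hgdef, inv_mul_cancel_left]]
        exact mul_mem (inv_mem (mem_sup_right (pow_mem (mem_zpowers _) _))) (mem_sup_left hgz)
      have hJ : E.J ≤ E.P ⊔ zpowers E.g1 :=
        E.J_gen.trans (sup_le le_rfl (zpowers_le.2 ((sup_le_sup_right (zpowers_le.2 E.z_mem_P) _) hg2)))
      have hPn : zpowers E.g1 ≤ normalizer (E.P : Set G) := zpowers_le.2 (mem_normalizer_of_conj fun p hp => by
        rw [conj_eq_iff.2 (E.J_comm E.g1_J (E.P_le_J hp))]; exact hp)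
      have h1 := card_le_of_le hJ
      have h2 : Nat.card ↥(E.P ⊔ zpowers E.g1) ≤ Nat.card E.P * Nat.card (zpowers E.g1) := by
        rw [← Nat.card_prod]
        refine Nat.card_le_card_of_surjective (fun p => (⟨(p.1 : G) * p.2,
          mul_mem (mem_sup_left p.1.2) (mem_sup_right p.2.2)⟩ : ↥(E.P ⊔ zpowers E.g1))) fun w => ?_
        have hw : (w : G) ∈ (E.P : Set G) * (zpowers E.g1 : Set G) := by
          rw [← Subgroup.coe_mul_of_right_le_normalizer_left _ _ hPn]; exact w.2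
        obtain ⟨p, hp, q, hq, e⟩ := hw
        exact ⟨(⟨p, hp⟩, ⟨q, hq⟩), Subtype.ext e⟩
      have h3 : Nat.card (zpowers E.g1) ≤ 3 := by
        rw [Nat.card_zpowers]; exact orderOf_le_of_pow_eq_one (by norm_num) (E.J_cube E.g1_J)
      rw [E.card_J] at h1
      rw [E.card_P] at h2
      omega
    · refine eq_of_le_of_card_ge (sup_le inf_le_left inf_le_left) ?_
      have hlt : Nat.card A < Nat.card ↥(A ⊔ B) := by
        refine lt_of_le_of_ne (card_le_of_le le_sup_left) fun e => hle ?_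
        exact le_sup_right.trans (eq_of_le_of_card_ge (le_sup_left : A ≤ A ⊔ B) e.ge).ge
      obtain ⟨m, hm, hme⟩ := (Nat.dvd_prime_pow Nat.prime_three).1 (show Nat.card ↥(A ⊔ B) ∣ 3 ^ 5 from
        (E.card_K ▸ card_dvd_of_le (sup_le inf_le_left inf_le_left) :))
      rw [hA.1, hme] at hlt
      rw [E.card_K, hme]
      interval_cases m <;> first | (norm_num; done) | norm_num at hlt
  rw [← hsup]
  exact sup_le (inf_le_right.trans E.cent_g1.1) (inf_le_right.trans E.cent_g2.1)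

theorem card_Zc : Nat.card E.Zc = 29160 := by
  have h := E.ψ.ker.card_mul_index
  rw [index_ker, MonoidHom.range_eq_top.2 E.ψ_surj, card_top, Nat.card_eq_fintype_card (α := SL5), McLThree.sl5_card,
    show E.ψ.ker = E.K.subgroupOf E.Zc from Subgroup.ext fun g => (E.ψ_ker g).trans mem_subgroupOf.symm,
    Nat.card_congr (subgroupOfEquivOfLe E.K_le).toEquiv, E.card_K] at h
  omega

/-- The Sylow subgroup. -/
noncomputable def S : Subgroup G := E.K ⊔ zpowers E.f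

theorem f_three : IsPGroup 3 (zpowers E.f) := IsPGroup.of_card (n := 1) (by
  rw [Nat.card_zpowers, orderOf_eq_prime E.f_cube fun e => E.f_not_K (e ▸ one_mem _)]; norm_num)

theorem S_three : IsPGroup 3 E.S :=
  IsPGroup.to_sup_of_normal_left' E.K_three E.f_three
    (zpowers_le.2 (mem_normalizer_of_conj fun _ hx => E.K_conj E.z_f.symm hx))

theorem S_le_Zc : E.S ≤ E.Zc := sup_le E.K_le (zpowers_le.2 (mem_cent_iff.2 E.z_f.symm))

theorem card_S : Nat.card E.S = 729 := by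
  haveI : Fact (Nat.Prime 3) := ⟨Nat.prime_three⟩
  obtain ⟨n, hn⟩ := IsPGroup.iff_card.1 E.S_three
  have hd := card_dvd_of_le E.S_le_Zc
  rw [E.card_Zc, hn] at hd
  have hlt : Nat.card E.K < Nat.card E.S := by
    refine lt_of_le_of_ne (card_le_of_le le_sup_left) fun e => E.f_not_K ?_
    exact (eq_of_le_of_card_ge (le_sup_left : E.K ≤ E.S) e.ge).ge (mem_sup_right (mem_zpowers _))
  rw [E.card_K, hn] at hlt
  rw [hn]
  have h6 : n ≤ 6 := by
    by_contra h
    exact absurd ((pow_dvd_pow 3 (show 7 ≤ n by omega)).trans hd) (by norm_num)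
  interval_cases n <;> first | (norm_num; done) | norm_num at hlt

theorem J_le_S : E.J ≤ E.S := by
  refine E.J_gen.trans (sup_le (sup_le ?_ ((zpowers_le.2 E.g1_K).trans le_sup_left))
    ((zpowers_le.2 E.g2_K).trans le_sup_left))
  rintro _ ⟨a, b, rfl⟩
  exact mul_mem (pow_mem (mem_sup_left E.z_K) a) (pow_mem (mem_sup_right (mem_zpowers _)) b)

include E in
theorem S_max (R : Subgroup G) (hR : IsPGroup 3 R) : Nat.card R ≤ 729 := by
  haveI : Fact (Nat.Prime 3) := ⟨Nat.prime_three⟩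
  obtain ⟨T1, hT1⟩ := hR.exists_le_sylow
  obtain ⟨T2, hT2⟩ := IsPGroup.exists_le_sylow E.S_three
  refine (card_le_of_le hT1).trans ?_
  rw [Sylow.card_eq_multiplicity T1, ← Sylow.card_eq_multiplicity T2]
  haveI : Nontrivial (T2 : Subgroup G) := by
    rw [← Finite.one_lt_card_iff_nontrivial]
    have := card_le_of_le hT2
    rw [E.card_S] at this
    omega
  obtain ⟨⟨⟨a, haT⟩, hac⟩, ha1⟩ := @exists_ne (center (T2 : Subgroup G)) T2.isPGroup'.center_nontrivial 1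
  have hcomm : ∀ b ∈ (T2 : Subgroup G), a * b = b * a := fun b hb =>
    (congrArg Subtype.val (mem_center_iff.1 hac ⟨b, hb⟩)).symm
  have haK : a ∈ E.K := E.K_self_cent fun q hq => hcomm q (hT2 (mem_sup_left hq))
  have haz := E.K_center haK fun b hb => hcomm b (hT2 (mem_sup_left hb))
  have hle : (T2 : Subgroup G) ≤ E.Zc := fun b hb => by
    refine mem_cent_iff.2 ?_
    have hba : Commute b a := (hcomm b hb).symm
    obtain ⟨i, hi⟩ := eq_pow_of_mem_zpowers E.z_cube haz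
    fin_cases i <;> simp only [Fin.mk_one, Fin.zero_eta, Fin.isValue, Fin.reduceFinMk, Fin.val_zero, Fin.val_one,
      Fin.val_two, pow_zero, pow_one] at hi
    · exact absurd (Subtype.ext (Subtype.ext hi)) ha1
    · exact hi ▸ hba
    · have := (hba.mul_right hba)
      rwa [hi, ← pow_add, show 2 + 2 = 3 + 1 by norm_num, pow_succ, E.z_cube, one_mul] at this
  obtain ⟨n, hn⟩ := IsPGroup.iff_card.1 T2.isPGroup'
  have hd := card_dvd_of_le hle
  rw [E.card_Zc, hn] at hd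
  rw [hn]
  have h6 : n ≤ 6 := by
    by_contra h
    exact absurd ((pow_dvd_pow 3 (show 7 ≤ n by omega)).trans hd) (by norm_num)
  exact (Nat.pow_le_pow_right (by norm_num) h6).trans (by norm_num)

end Setup

end Cfsg.Agent.Spor.McLCent
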